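import Groth.Agent.AlgSp3.ClosedSub
import Groth.Agent.AlgSp2.FppfProps
import Groth.Agent.PropsBasic2.Reduced
/-!
# Reduced induced structures on closed subsets
-/

set_option autoImplicit false
set_option backward.isDefEq.respectTransparency.types false
universe u

open CategoryTheory CategoryTheory.Limits AlgebraicGeometry Opposite AlgSp Groth.AlgSpBasic
  TopologicalSpace

namespace Groth.AlgSp3

noncomputable section

theorem ker_eq_vanishingIdeal_of_isReduced {X Y : Scheme.{u}} [IsReduced X] (f : X ⟶ Y) :
    f.ker = Scheme.IdealSheafData.vanishingIdeal ⟨closure (Set.range f), isClosed_closure⟩ := by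
  have h1 := Scheme.IdealSheafData.map_vanishingIdeal f (⊤ : Closeds X)
  rw [Scheme.IdealSheafData.vanishingIdeal_top, Scheme.nilradical_eq_bot,
    Scheme.IdealSheafData.map_bot] at h1
  rw [h1]
  congr 1
  ext1
  simp

theorem comap_vanishingIdeal_of_smooth {A B : Scheme.{u}} (t : A ⟶ B) [Smooth t] (C : Closeds B) :
    (Scheme.IdealSheafData.vanishingIdeal C).comap t =
      Scheme.IdealSheafData.vanishingIdeal (C.preimage t.continuous) := by
  have := Groth.PropsBasic2.isReduced_vanishingIdeal_subscheme C
  have := Groth.AlgSp2.isReduced_of_smooth_morphism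
    (pullback.snd t (Scheme.IdealSheafData.vanishingIdeal C).subschemeι)
  refine (ker_eq_vanishingIdeal_of_isReduced _).trans (congrArg _ (Closeds.ext ?_))
  show closure _ = _
  rw [Scheme.Pullback.range_fst, Groth.PropsBasic2.range_vanishingIdeal_subschemeι,
    Closeds.coe_preimage]
  exact (C.isClosed.preimage t.continuous).closure_eq

variable {S : Scheme.{u}} {X : Sp S} {U : Over S} {p : (yon S).obj U ⟶ X}

/-- Invariance of an ideal can be checked on the equivalence relation. -/
theorem isInvIdeal_of_rel {R : Over S} {t s : R ⟶ U}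
    (sqR : IsPullback ((yon S).map t) ((yon S).map s) p p) {I : U.left.IdealSheafData}
    (h : I.comap t.left = I.comap s.left) : IsInvIdeal p I := by
  intro T a b e
  obtain ⟨r, hr⟩ := (yon S).map_surjective (sqR.lift _ _ e)
  have h₁ : r ≫ t = a := (yon S).map_injective (by rw [Functor.map_comp, hr, sqR.lift_fst])
  have h₂ : r ≫ s = b := (yon S).map_injective (by rw [Functor.map_comp, hr, sqR.lift_snd])
  rw [← h₁, ← h₂, Over.comp_left, Over.comp_left, Scheme.IdealSheafData.comap_comp, h,
    ← Scheme.IdealSheafData.comap_comp]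

/-- A closed subset of the points of an algebraic space carries a reduced induced structure. -/
theorem exists_isRedInduced (hX : IsAlgSpace X) {C : Set (Points X)} (hC : IsClosed C) :
    ∃ (Z : Sp S) (i : Z ⟶ X), IsAlgSpace Z ∧ IsRedInduced C i := by
  obtain ⟨U, p, hp, hps⟩ := hX.atlas
  obtain ⟨R, t, s, sqR⟩ := exists_pullback_of_diag hX.diag p p
  have ht : Etale t.left := (repWith_yon_map_iff _ t).1 (repWith_of_isPullback sqR.flip hp)
  have hs : Etale s.left := (repWith_yon_map_iff _ s).1 (repWith_of_isPullback sqR hp)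
  let D : Closeds ↥U.left := ⟨Points.ofPt p ⁻¹' C, hC.preimage (Points.continuous_ofPt p)⟩
  have hinv : IsInvIdeal p (Scheme.IdealSheafData.vanishingIdeal D) := isInvIdeal_of_rel sqR (by
    rw [comap_vanishingIdeal_of_smooth, comap_vanishingIdeal_of_smooth]
    refine congrArg _ (Closeds.ext ?_)
    ext r
    show Points.ofPt p (t.left r) ∈ C ↔ Points.ofPt p (s.left r) ∈ C
    rw [← ofPt_comp_yon, ← ofPt_comp_yon, sqR.w])
  obtain ⟨Z, i, q, hZ, hi, sq⟩ := exists_closedSub hX hp hps hinv
  refine ⟨Z, i, hZ, hi, (Set.preimage_injective.2 (surjective_ofPt_of_repWith hps)) ?_,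
    ⟨_, q, repWith_of_isPullback sq.flip hp, repWith_of_isPullback sq.flip hps,
      Groth.PropsBasic2.isReduced_vanishingIdeal_subscheme D⟩⟩
  exact (range_left_eq_preimage sq).symm.trans
    (Groth.PropsBasic2.range_vanishingIdeal_subschemeι D)

end

end Groth.AlgSp3
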