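import Groth.Agent.AlgSp3.SchImage
import Groth.Agent.AlgSp3.RedInduced
import Groth.Agent.Rat20Dense.Basic
import Groth.Agent.AlgSpBasic.EtaleLocalSets
/-!
# Scheme theoretic images of immersions
-/

set_option autoImplicit false
set_option backward.isDefEq.respectTransparency.types false
universe u

open CategoryTheory CategoryTheory.Limits AlgebraicGeometry Opposite AlgSp Groth.AlgSpBasic
  TopologicalSpace

namespace Groth.AlgSp3

noncomputable section

theorem isSchematicallyDense_of_dense {A : Scheme.{u}} [IsReduced A] {W : A.Opens}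
    (hW : Dense (W : Set ↥A)) : CInt.IsSchematicallyDense W := by
  intro V a b hab
  rw [← sub_eq_zero]
  refine (basicOpen_eq_bot_iff _).1 (eq_bot_iff.2 fun x hx => ?_)
  obtain ⟨y, hy, hyW⟩ := hW.inter_open_nonempty _ (A.basicOpen (a - b)).isOpen ⟨x, hx⟩
  have h0 : A.presheaf.map (homOfLE (inf_le_left : V ⊓ W ≤ V)).op (a - b) = 0 := by
    rw [map_sub, sub_eq_zero]; exact hab
  have : y ∈ A.basicOpen (A.presheaf.map (homOfLE (inf_le_left : V ⊓ W ≤ V)).op (a - b)) := by
    rw [Scheme.basicOpen_res]
    exact ⟨⟨A.basicOpen_le _ hy, hyW⟩, hy⟩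
  rw [h0, Scheme.basicOpen_zero] at this
  exact this.elim

theorem isOpenImmersion_of_isImmersion_of_dense {A B : Scheme.{u}} (g : A ⟶ B) [IsImmersion g]
    [IsReduced B] (hd : Dense (Set.range g)) : IsOpenImmersion g := by
  have hr : coborder (Set.range g) = Set.range g := by
    rw [coborder, hd.closure_eq, ← Set.compl_eq_univ_sdiff, compl_compl]
  have : Surjective g.liftCoborder := ⟨fun y => by
    obtain ⟨a, ha⟩ : y.1 ∈ Set.range g := hr.le y.2
    refine ⟨a, g.coborderRange.ι.isOpenEmbedding.injective ?_⟩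
    rw [← Scheme.Hom.comp_apply, g.liftCoborder_ι, ha]
    rfl⟩
  have := isReduced_of_isOpenImmersion g.coborderRange.ι
  have := isIso_of_isClosedImmersion_of_surjective g.liftCoborder
  rw [← g.liftCoborder_ι]
  infer_instance

theorem isSchematicallyDense_opensRange {A B : Scheme.{u}} (g : A ⟶ B) [IsOpenImmersion g]
    [QuasiCompact g] [IsSchemeTheoreticallyDominant g] :
    CInt.IsSchematicallyDense g.opensRange := by
  let e := g.isoOpensRange
  have he : g.opensRange.ι = e.inv ≫ g := by rw [g.isoOpensRange_inv_comp]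
  have h₁ : IsSchemeTheoreticallyDominant g.opensRange.ι := by rw [he]; infer_instance
  have h₂ : QuasiCompact g.opensRange.ι := by rw [he]; infer_instance
  exact Groth.Rat20Dense.dense_of_isSchemeTheoreticallyDominant _

theorem isReduced_image {A B : Scheme.{u}} (f : A ⟶ B) [IsReduced A] : IsReduced f.image := by
  show IsReduced f.ker.subscheme
  rw [ker_eq_vanishingIdeal_of_isReduced f]
  exact Groth.PropsBasic2.isReduced_vanishingIdeal_subscheme _

theorem dense_range_toImage {A B : Scheme.{u}} (f : A ⟶ B) (h : QuasiCompact f ∨ IsReduced A) :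
    Dense (Set.range f.toImage) := by
  have hs : (f.ker.support : Set ↥B) = closure (Set.range f) := by
    rcases h with h | h
    · exact f.support_ker
    · rw [ker_eq_vanishingIdeal_of_isReduced f, ← Scheme.IdealSheafData.range_subschemeι,
        Groth.PropsBasic2.range_vanishingIdeal_subschemeι]
      rfl
  intro z
  rw [f.imageι.isClosedEmbedding.isEmbedding.closure_eq_preimage_closure_image,
    Set.mem_preimage, ← Set.range_comp]
  have e : (⇑f.imageι ∘ ⇑f.toImage) = ⇑f := by
    funext a
    exact (Scheme.Hom.comp_apply _ _ a).symm.trans (by rw [f.toImage_imageι])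
  rw [e, ← hs]
  exact (Scheme.IdealSheafData.range_subschemeι f.ker).le ⟨z, rfl⟩

/-- For an immersion which is quasi-compact or has reduced source, the map to the scheme theoretic
image is a schematically dense open immersion. -/
theorem exists_toImage_facts {A B : Scheme.{u}} (f : A ⟶ B) [IsImmersion f]
    (h : QuasiCompact f ∨ IsReduced A) :
    ∃ _ : IsOpenImmersion f.toImage, CInt.IsSchematicallyDense f.toImage.opensRange := by
  rcases h with h | h
  · have : IsSchemeTheoreticallyDominant f.toImage :=
      Groth.Flatmor4.isSchemeTheoreticallyDominant_toImage f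
    exact ⟨inferInstance, isSchematicallyDense_opensRange _⟩
  · have := isReduced_image f
    have hd := dense_range_toImage f (Or.inr h)
    exact ⟨isOpenImmersion_of_isImmersion_of_dense _ hd, isSchematicallyDense_of_dense hd⟩

theorem isReduced_etale_chart {S : Scheme.{u}} {X : Sp S} (hX : IsAlgSpace X) (hr : IsReducedSp X)
    {V : Over S} {a : (yon S).obj V ⟶ X} (ha : RepWith @Etale a) : IsReduced V.left := by
  obtain ⟨U, p, hp, hps, hU⟩ := hr
  obtain ⟨M, m, n, sq⟩ := exists_pullback_of_diag hX.diag p a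
  have : Etale m.left := (repWith_yon_map_iff _ m).1 (repWith_of_isPullback sq.flip ha)
  have : Etale n.left := (repWith_yon_map_iff _ n).1 (repWith_of_isPullback sq hp)
  have : Surjective n.left := (repWith_yon_map_iff _ n).1 (repWith_of_isPullback sq hps)
  have : IsReduced U.left := hU
  have := Groth.AlgSp2.isReduced_of_smooth_morphism m.left
  exact Groth.Agf.isReduced_of_flat_surjective n.left

/-- An immersion which is quasi-compact or has reduced source is a schematically dense open immersion
into its scheme theoretic image. -/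
theorem immersion_into_schImage {S : Scheme.{u}} {Y X Z : Sp S} (hY : IsAlgSpace Y)
    (hX : IsAlgSpace X) (hZ : IsAlgSpace Z) {h : Y ⟶ X} (hh : RepWith @IsImmersion h)
    (hq : IsQuasiCompactMor h ∨ IsReducedSp Y) {c : Z ⟶ X} (hc : IsSchImage h c) {h' : Y ⟶ Z}
    (fac : h' ≫ c = h) :
    RepWith @IsOpenImmersion h' ∧ IsSchDense h' ∧ Dense (Set.range (Points.map h')) := by
  obtain ⟨U, p, hp, hps⟩ := hX.atlas
  obtain ⟨V, m, q₁, sqV⟩ := hh.rep p
  have : IsImmersion m.left := hh.property p q₁ m sqV
  have : Mono c := mono_of_repWith (fun _ _ g (_ : IsClosedImmersion g) => inferInstance) hc.1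
  have hV : QuasiCompact m.left ∨ IsReduced V.left :=
    hq.imp (fun h₁ => (repWith_of_isQuasiCompactMor hh.rep h₁).property p q₁ m sqV)
      (fun h₁ => isReduced_etale_chart hY h₁ (repWith_of_isPullback sqV.flip hp))
  let C : PullbackChart h p := ⟨_, q₁, (yon S).map m, sqV, V, 𝟙 _, m, repWith_isIso _, repWith_isIso _,
    Category.id_comp _⟩
  have hinv : IsInvIdeal p m.left.ker := by
    rcases hV with hV | hV
    · exact @PullbackChart.isInvIdeal_ker _ _ _ _ _ _ C hX hY hp hV
    · rw [ker_eq_vanishingIdeal_of_isReduced m.left]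
      obtain ⟨R, t, s, sqR⟩ := exists_pullback_of_diag hX.diag p p
      have : Etale t.left := (repWith_yon_map_iff _ t).1 (repWith_of_isPullback sqR.flip hp)
      have : Etale s.left := (repWith_yon_map_iff _ s).1 (repWith_of_isPullback sqR hp)
      refine isInvIdeal_of_rel sqR ?_
      rw [comap_vanishingIdeal_of_smooth, comap_vanishingIdeal_of_smooth]
      refine congrArg _ (Closeds.ext ?_)
      ext r
      show t.left r ∈ closure _ ↔ s.left r ∈ closure _
      rw [range_left_eq_preimage sqV,
        ← (isOpenMap_ofPt_of_etale hp).preimage_closure_eq_closure_preimage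
          (Points.continuous_ofPt p), Set.mem_preimage, Set.mem_preimage, ← ofPt_comp_yon,
        ← ofPt_comp_yon, sqR.w]
  obtain ⟨Z₀, c₀, q₀, hZ₀, hc₀, sq₀⟩ := exists_closedSub hX hp hps hinv
  let ι : Over.mk (m.left.ker.subschemeι ≫ U.hom) ⟶ U := Over.homMk m.left.ker.subschemeι
  have hc₀' : IsSchImage h c₀ := isSchImage_of_ker_eq hp hps (C.etale_chart hp)
    (C.surjective_chart hps) C.fac_chart hc₀ sq₀
    ((Scheme.IdealSheafData.ker_subschemeι _).trans (imageIdeal_eq_ker hinv).symm)
  -- the chart of the given image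
  obtain ⟨k, hk⟩ := hc₀'.2.2 c hZ hc.1 hc.2.1
  obtain ⟨k', hk'⟩ := hc.2.2 c₀ hZ₀ hc₀ hc₀'.2.1
  have : Mono c₀ := mono_of_repWith (fun _ _ g (_ : IsClosedImmersion g) => inferInstance) hc₀
  have e₁ : k ≫ k' = 𝟙 _ := by rw [← cancel_mono c₀, Category.assoc, hk', hk, Category.id_comp]
  have e₂ : k' ≫ k = 𝟙 _ := by rw [← cancel_mono c, Category.assoc, hk, hk', Category.id_comp]
  have : IsIso k := ⟨k', e₁, e₂⟩
  have sqZ : IsPullback (q₀ ≫ k) ((yon S).map ι) c p :=
    sq₀.of_iso (Iso.refl _) (asIso k) (Iso.refl _) (Iso.refl _) (by simp) (by simp; rfl)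
      (by simp [hk]) (by simp)
  obtain ⟨_, hdense⟩ := exists_toImage_facts m.left hV
  let g : V ⟶ Over.mk (m.left.ker.subschemeι ≫ U.hom) := Over.homMk m.left.toImage (by
    show m.left.toImage ≫ m.left.imageι ≫ U.hom = _
    rw [← Category.assoc, m.left.toImage_imageι, Over.w])
  have hgm : g ≫ ι = m := Over.OverMorphism.ext m.left.toImage_imageι
  have hqg : q₁ ≫ h' = (yon S).map g ≫ q₀ ≫ k := by
    rw [← cancel_mono c, Category.assoc, fac, sqV.w, Category.assoc, sqZ.w, ← Category.assoc,
      ← Functor.map_comp, hgm]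
  have sqg : IsPullback q₁ ((yon S).map g) h' (q₀ ≫ k) :=
    IsPullback.of_bot (by rw [fac, ← Functor.map_comp, hgm]; exact sqV) hqg sqZ
  have hke : RepWith @Etale (q₀ ≫ k) := repWith_of_isPullback sqZ.flip hp
  have hks : RepWith @Surjective (q₀ ≫ k) := repWith_of_isPullback sqZ.flip hps
  have hopen : RepWith @IsOpenImmersion h' := repWith_isOpenImmersion_of_cover hY hZ hke hks sqg
    ((repWith_yon_map_iff _ g).2 ‹IsOpenImmersion m.left.toImage›)
  refine ⟨hopen, ⟨hopen, ?_⟩, ?_⟩
  · let M := Over.mk (m.left.ker.subschemeι ≫ U.hom)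
    let W : M.left.Opens := m.left.toImage.opensRange
    let wι : Over.mk (W.ι ≫ M.hom) ⟶ M := Over.homMk W.ι
    let e : Over.mk (W.ι ≫ M.hom) ≅ V := Over.isoMk m.left.toImage.isoOpensRange.symm (by
      show m.left.toImage.isoOpensRange.inv ≫ V.hom = W.ι ≫ M.hom
      rw [← Over.w g, ← Category.assoc]
      congr 1
      exact m.left.toImage.isoOpensRange_inv_comp)
    have he : e.hom ≫ g = wι := Over.OverMorphism.ext m.left.toImage.isoOpensRange_inv_comp
    exact ⟨M, q₀ ≫ k, W, (yon S).map e.hom ≫ q₁, hke, hks,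
      sqg.of_iso ((yon S).mapIso e.symm) (Iso.refl _) (Iso.refl _) (Iso.refl _)
        (by simp [← Functor.map_comp_assoc]) (by
          simp only [Functor.mapIso_hom, Iso.symm_hom, Iso.refl_hom, Category.comp_id,
            ← Functor.map_comp]
          congr 1
          show g = e.inv ≫ wι
          rw [← he, Iso.inv_hom_id_assoc]) (by simp) (by simp), hdense⟩
  · intro z
    obtain ⟨x, rfl⟩ := surjective_ofPt_of_repWith hks z
    rw [← Set.mem_preimage, (isOpenMap_ofPt_of_etale hke).preimage_closure_eq_closure_preimage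
      (Points.continuous_ofPt _), ← range_left_eq_preimage sqg]
    exact dense_range_toImage m.left hV x

end

end Groth.AlgSp3
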