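import Groth.Agent.AlgSp3.HasAtMor
import Groth.Agent.FibreDim.ComponentCor
import Groth.Agent.FibreDim.Smooth
import Groth.Agent.FibreDim.Semicontinuity
import Groth.Agent.AlgSpBasic.LocPInst

/-!
# Dimension of algebraic spaces and scheme-level dimension facts
-/

set_option autoImplicit false
set_option backward.isDefEq.respectTransparency.types false
universe u

open CategoryTheory CategoryTheory.Limits AlgebraicGeometry Topology TopologicalSpace Opposite AlgSp
  Groth.AlgSpBasic

namespace Groth.AlgSp3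

variable {S : Scheme.{u}}

theorem dim_eq_of_chart {X : Sp S} (hX : IsAlgSpace X) {U : Over S} {a : (yon S).obj U ⟶ X}
    (ha : RepWith @Etale a) (has : RepWith @Surjective a) :
    AlgSp.dim X = topologicalKrullDim ↥U.left := by
  refine le_antisymm (iSup_le fun V => iSup_le fun b => iSup_le fun hb => ?_)
    ((le_iSup_of_le (f := fun a' : (yon S).obj U ⟶ X =>
      ⨆ (_ : RepWith @Etale a'), topologicalKrullDim ↥U.left) a (le_iSup_of_le ha le_rfl)).trans
      (le_iSup (fun V : Over S => ⨆ (a : (yon S).obj V ⟶ X) (_ : RepWith @Etale a),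
        topologicalKrullDim ↥V.left) U))
  rw [Groth.FibreDim.dim_eq_iSup_stalk U.left, Groth.FibreDim.dim_eq_iSup_stalk V.left]
  refine iSup_le fun v => ?_
  obtain ⟨u, hu⟩ := surjective_ofPt_of_repWith has (AlgSp.Points.ofPt b v)
  rw [← inv_eq_of_ofPt_eq etaleInvariant_ringKrullDim hX ha hb hu]
  exact le_iSup (fun u : ↥U.left => ringKrullDim ↥(U.left.presheaf.stalk u)) u

theorem locallyQuasiFinite_of_fibreDimAt {X Y : Scheme.{u}} (f : X ⟶ Y) [LocallyOfFiniteType f]
    (h : ∀ x, FlatMor.fibreDimAt f x = 0) : LocallyQuasiFinite f := by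
  rw [← Scheme.Hom.quasiFiniteLocus_eq_top_iff, eq_top_iff]
  rintro x -
  rw [Scheme.Hom.mem_quasiFiniteLocus, Scheme.Hom.quasiFiniteAt_iff_isOpen_singleton_asFiber]
  have : LocallyOfFiniteType (f.fiberToSpecResidueField (f x)) :=
    inferInstanceAs (LocallyOfFiniteType (pullback.snd f (Y.fromSpecResidueField (f x))))
  have : IsLocallyNoetherian (f.fiber (f x)) :=
    LocallyOfFiniteType.isLocallyNoetherian (f.fiberToSpecResidueField (f x))
  obtain ⟨U, hxU, hU⟩ := Groth.SpectralTopology.exists_localDim_eq (f.asFiber x)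
  obtain ⟨V, hV, hxV, hVU⟩ := TopologicalSpace.Opens.isBasis_iff_nbhd.mp
    (f.fiber (f x)).isBasis_affineOpens hxU
  have : IsAffine (V : Scheme.{u}) := hV
  have : AlgebraicGeometry.IsNoetherian (V : Scheme.{u}) := ⟨⟩
  have hV0 : topologicalKrullDim (V : Scheme.{u}) ≤ 0 :=
    (Groth.SpectralTopology.dim_le_of_subset (A := (V : Set ↥(f.fiber (f x))))
      (B := (U : Set ↥(f.fiber (f x)))) hVU).trans (le_of_eq (hU.trans (h x)))
  obtain ⟨-, hdisc⟩ := Groth.SpectralTopology.finite_discrete_of_dim_nonpos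
    (X := (V : Scheme.{u})) hV0
  have := (V : (f.fiber (f x)).Opens).isOpen.isOpenMap_subtype_val {⟨_, hxV⟩}
    (isOpen_discrete (α := (V : Scheme.{u})) _)
  simpa using this

theorem fibreDimAt_eq_fibreStalkDim_add {X Y : Scheme.{u}} (f : X ⟶ Y) [LocallyOfFiniteType f]
    (x : X) : FlatMor.fibreDimAt f x =
      ringKrullDim ↥((f.fiber (f x)).presheaf.stalk (f.asFiber x)) +
        ((Cardinal.toENat (Dual3.resTrdeg f x) : ℕ∞) : WithBot ℕ∞) := by
  obtain ⟨t, ht, ht'⟩ := Groth.FibreDim.exists_relTrdeg_eq_height f x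
  have : Dual3.resTrdeg f x = t := ht
  rw [this, Groth.FibreDim.fibreDimAt_eq_height_add, ht', add_comm]
  simp

/-- A flat morphism maps points of codimension zero to points of codimension zero. -/
theorem ringKrullDim_stalk_eq_zero_map {X Y : Scheme.{u}} (f : X ⟶ Y) [Flat f] (x : X)
    (hx : ringKrullDim ↥(X.presheaf.stalk x) = 0) :
    ringKrullDim ↥(Y.presheaf.stalk (f x)) = 0 := by
  rw [ringKrullDim_stalk_eq_coheight] at hx ⊢
  have hmax : Order.coheight x = 0 := by exact_mod_cast hx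
  suffices Order.coheight (f x) = 0 by rw [this]; rfl
  rw [Order.coheight_eq_zero] at hmax ⊢
  intro y hy
  obtain ⟨x', h₁, h₂⟩ := Flat.generalizingMap f (show y ⤳ f x from Scheme.le_iff_specializes.1 hy)
  have := Scheme.le_iff_specializes.1 (hmax (Scheme.le_iff_specializes.2 h₁))
  exact Scheme.le_iff_specializes.2 (h₂ ▸ this.map f.continuous)

end Groth.AlgSp3

namespace Groth.AlgSp3

theorem exists_open_smoothOfRelativeDimension {X Y : Scheme.{u}} (f : X ⟶ Y) [Smooth f] (x : X) :
    ∃ (n : ℕ) (W : X.Opens), x ∈ W ∧ SmoothOfRelativeDimension n (W.ι ≫ f) := by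
  obtain ⟨U, hU, V, hV, hxV, e, hf⟩ := Smooth.exists_isStandardSmooth f x
  let := (f.appLE U V e).hom.toAlgebra
  have : Algebra.IsStandardSmooth Γ(Y, U) Γ(X, V) := hf
  obtain ⟨_, _, _, _, ⟨P⟩⟩ := this.out
  refine ⟨P.dimension, V, hxV, ⟨fun y => ⟨U, hU, ⊤, ?_, trivial, ?_, ?_⟩⟩⟩
  · have : IsAffine V.toScheme := hV
    exact isAffineOpen_top _
  · intro z _
    exact e z.2
  · have hn : RingHom.IsStandardSmoothOfRelativeDimension P.dimension (f.appLE U V e).hom :=
      ⟨⟨_, _, _, inferInstance, P, rfl⟩⟩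
    have key := (RingHom.isStandardSmoothOfRelativeDimension_respectsIso (n := P.dimension)).arrow_mk_iso_iff
      (f := f.appLE U V e) (g := (V.ι ≫ f).appLE U ⊤ (fun z _ => e z.2))
      (Arrow.isoMk (Iso.refl _) V.topIso.symm ?_)
    · exact key.mp hn
    · simp [Scheme.Opens.topIso, Scheme.Hom.appLE]
      erw [← X.presheaf.map_comp, ← X.presheaf.map_comp]
      rfl

theorem strictMono_of_lqf {U V : Scheme.{u}} (f : U ⟶ V) [LocallyQuasiFinite f] :
    StrictMono (f : U → V) := by
  intro a b hab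
  rw [lt_iff_le_not_ge] at hab ⊢
  have hba : b ⤳ a := hab.1
  refine ⟨hba.map f.continuous, fun hab' => hab.2 ?_⟩
  have he : f a = f b := (Specializes.antisymm hab' (hba.map f.continuous)).eq
  have := (f.isDiscrete_preimage_singleton (f b)).to_subtype
  have h1 : (⟨b, rfl⟩ : ↥(f ⁻¹' {f b})) ⤳ ⟨a, he⟩ := subtype_specializes_iff _ _ |>.mpr hba
  exact le_of_eq (congrArg Subtype.val h1.eq)

theorem ringKrullDim_stalk_le_of_lqf {U V : Scheme.{u}} (f : U ⟶ V) [LocallyQuasiFinite f] (u : U) :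
    ringKrullDim ↥(U.presheaf.stalk u) ≤ ringKrullDim ↥(V.presheaf.stalk (f u)) := by
  rw [ringKrullDim_stalk_eq_coheight, ringKrullDim_stalk_eq_coheight]
  exact WithBot.coe_le_coe.2
    (Order.coheight_le_coheight_apply_of_strictMono _ (strictMono_of_lqf f) u)

end Groth.AlgSp3
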