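import Groth.Agent.AlgSp3.ClosedSub
import Groth.Agent.AlgSpBasic.QComp
import Groth.Agent.AlgSpBasic.LocP
/-!
# Scheme theoretic images of quasi-compact morphisms
-/

set_option autoImplicit false
set_option backward.isDefEq.respectTransparency.types false
universe u

open CategoryTheory CategoryTheory.Limits AlgebraicGeometry Opposite AlgSp Groth.AlgSpBasic Topology

namespace Groth.AlgSp3

noncomputable section

variable {S : Scheme.{u}}

/-- Kernels computed on two etale surjective charts agree. -/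
theorem ker_eq_of_charts {Q : Sp S} (hQ : Representable (Limits.diag Q)) {W W' T : Over S}
    {a : (yon S).obj W ⟶ Q} {a' : (yon S).obj W' ⟶ Q} (ha : RepWith @Etale a)
    (has : RepWith @Surjective a) (ha' : RepWith @Etale a') (has' : RepWith @Surjective a')
    {π : Q ⟶ (yon S).obj T} {α : W ⟶ T} {α' : W' ⟶ T} (e : a ≫ π = (yon S).map α)
    (e' : a' ≫ π = (yon S).map α') : α.left.ker = α'.left.ker := by
  obtain ⟨M, m, m', sq⟩ := exists_pullback_of_diag hQ a a'
  have h₁ : Etale m.left := (repWith_yon_map_iff _ m).1 (repWith_of_isPullback sq.flip ha')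
  have h₂ : Surjective m.left := (repWith_yon_map_iff _ m).1 (repWith_of_isPullback sq.flip has')
  have h₃ : Etale m'.left := (repWith_yon_map_iff _ m').1 (repWith_of_isPullback sq ha)
  have h₄ : Surjective m'.left := (repWith_yon_map_iff _ m').1 (repWith_of_isPullback sq has)
  have h : m ≫ α = m' ≫ α' := (yon S).map_injective (by
    rw [Functor.map_comp, Functor.map_comp, ← e, ← e', ← Category.assoc, sq.w, Category.assoc])
  rw [← ker_flat_surjective_comp m.left α.left, ← ker_flat_surjective_comp m'.left α'.left,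
    ← Over.comp_left, ← Over.comp_left, h]

theorem ker_of_isPullback_closed {V' V U' U : Scheme.{u}} {g' : V' ⟶ V} {i' : V' ⟶ U'}
    {i : V ⟶ U} {g : U' ⟶ U} (sq : IsPullback g' i' i g) [IsClosedImmersion i] :
    i'.ker = i.ker.comap g := by
  rw [← Scheme.IdealSheafData.ker_fst_of_isClosedImmersion, ← sq.flip.isoPullback_hom_fst,
    Scheme.Hom.ker_comp_of_isIso]

variable {X Y : Sp S} {U : Over S}

/-- A chart of the pullback of `f` along a chart `p`. -/
structure PullbackChart (f : Y ⟶ X) (p : (yon S).obj U ⟶ X) where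
  P : Sp S
  fst : P ⟶ Y
  snd : P ⟶ (yon S).obj U
  sq : IsPullback fst snd f p
  W : Over S
  w : (yon S).obj W ⟶ P
  α : W ⟶ U
  etale : RepWith @Etale w
  surjective : RepWith @Surjective w
  fac : w ≫ snd = (yon S).map α

namespace PullbackChart

variable {f : Y ⟶ X} {p : (yon S).obj U ⟶ X} (C : PullbackChart f p)

theorem etale_chart (hp : RepWith @Etale p) : RepWith @Etale (C.w ≫ C.fst) :=
  repWith_comp C.etale (repWith_of_isPullback C.sq.flip hp)

theorem surjective_chart (hps : RepWith @Surjective p) : RepWith @Surjective (C.w ≫ C.fst) :=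
  repWith_comp C.surjective (repWith_of_isPullback C.sq.flip hps)

theorem fac_chart : (C.w ≫ C.fst) ≫ f = (yon S).map C.α ≫ p := by
  rw [Category.assoc, C.sq.w, ← Category.assoc, C.fac]

/-- Base change of a chart of a pullback. -/
theorem exists_chart {T : Over S} (c : T ⟶ U) {Q : Sp S} {fst' : Q ⟶ Y}
    {snd' : Q ⟶ (yon S).obj T} (sq' : IsPullback fst' snd' f ((yon S).map c ≫ p))
    {W' : Over S} {g' : W' ⟶ C.W} {α' : W' ⟶ T} (hW : IsPullback g' α' C.α c) :
    ∃ w' : (yon S).obj W' ⟶ Q, RepWith @Etale w' ∧ RepWith @Surjective w' ∧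
      w' ≫ snd' = (yon S).map α' := by
  let q : Q ⟶ C.P := C.sq.lift fst' (snd' ≫ (yon S).map c) (by rw [sq'.w, Category.assoc])
  have hq : IsPullback q snd' C.snd ((yon S).map c) :=
    IsPullback.of_right (by rw [C.sq.lift_fst]; exact sq') (C.sq.lift_snd _ _ _) C.sq
  have hm : IsPullback ((yon S).map g') ((yon S).map α') (C.w ≫ C.snd) ((yon S).map c) := by
    rw [C.fac]; exact hW.map (yon S)
  let w' : (yon S).obj W' ⟶ Q := hq.lift ((yon S).map g' ≫ C.w) ((yon S).map α') (by
    rw [Category.assoc, hm.w])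
  have hw : IsPullback ((yon S).map g') w' C.w q :=
    IsPullback.of_bot (by rw [hq.lift_snd]; exact hm) (hq.lift_fst _ _ _).symm hq
  exact ⟨w', repWith_of_isPullback hw C.etale, repWith_of_isPullback hw C.surjective,
    hq.lift_snd _ _ _⟩

/-- The kernel of a quasi-compact chart is an invariant ideal. -/
theorem isInvIdeal_ker (hX : IsAlgSpace X) (hY : IsAlgSpace Y) (hp : RepWith @Etale p)
    [QuasiCompact C.α.left] : IsInvIdeal p C.α.left.ker := by
  obtain ⟨R, t, s, sqR⟩ := exists_pullback_of_diag hX.diag p p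
  have ht : Etale t.left := (repWith_yon_map_iff _ t).1 (repWith_of_isPullback sqR.flip hp)
  have hs : Etale s.left := (repWith_yon_map_iff _ s).1 (repWith_of_isPullback sqR hp)
  have key : C.α.left.ker.comap t.left = C.α.left.ker.comap s.left := by
    have ha := IsPullback.of_hasPullback C.α t
    have hb := IsPullback.of_hasPullback C.α s
    have sqQ := IsPullback.of_hasPullback f ((yon S).map t ≫ p)
    obtain ⟨wt, h₁, h₂, h₃⟩ := C.exists_chart t sqQ ha
    obtain ⟨ws, k₁, k₂, k₃⟩ := C.exists_chart s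
      (show IsPullback _ _ f ((yon S).map s ≫ p) by rw [← sqR.w]; exact sqQ) hb
    have e := ker_eq_of_charts (isAlgSpace_of_isPullback sqQ hX.diag hY (IsAlgSpace.yon_obj R)).diag
      h₁ h₂ k₁ k₂ h₃ k₃
    rwa [ker_of_isPullback_of_flat (isPullback_left ha),
      ker_of_isPullback_of_flat (isPullback_left hb)] at e
  intro T a b e
  obtain ⟨r, hr⟩ := (yon S).map_surjective (sqR.lift _ _ e)
  have h₁ : r ≫ t = a := (yon S).map_injective (by rw [Functor.map_comp, hr, sqR.lift_fst])
  have h₂ : r ≫ s = b := (yon S).map_injective (by rw [Functor.map_comp, hr, sqR.lift_snd])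
  rw [← h₁, ← h₂, Over.comp_left, Over.comp_left, Scheme.IdealSheafData.comap_comp, key,
    ← Scheme.IdealSheafData.comap_comp]

end PullbackChart

/-- A space has an atlas by a disjoint union of affine schemes. -/
theorem exists_atlas_affine_disjoint {X : Sp S} {U : Over S} {p : (yon S).obj U ⟶ X}
    (hp : RepWith @Etale p) (hps : RepWith @Surjective p) :
    ∃ (U' : Over S) (c : U' ⟶ U) (ι : Type u) (K : ι → U'.left.Opens),
      RepWith @Etale ((yon S).map c ≫ p) ∧ RepWith @Surjective ((yon S).map c ≫ p) ∧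
        (∀ j, IsAffineOpen (K j)) ∧ (⨆ j, K j) = ⊤ ∧ Pairwise (Function.onFun Disjoint K) := by
  let 𝒰 := U.left.affineCover
  let d : (∐ fun j => 𝒰.X j) ⟶ U.left := Sigma.desc 𝒰.f
  let c : Over.mk (d ≫ U.hom) ⟶ U := Over.homMk d
  have hd : Etale d := IsZariskiLocalAtSource.sigmaDesc fun j => inferInstance
  have hds : Surjective d := ⟨fun y => by
    obtain ⟨j, x, hx⟩ := 𝒰.exists_eq y
    exact ⟨Sigma.ι 𝒰.X j x, by rw [← Scheme.Hom.comp_apply, Sigma.ι_desc, hx]⟩⟩
  refine ⟨_, c, 𝒰.I₀, fun j => (Sigma.ι 𝒰.X j).opensRange,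
    repWith_comp ((repWith_yon_map_iff _ c).2 hd) hp,
    repWith_comp ((repWith_yon_map_iff _ c).2 hds) hps,
    fun j => isAffineOpen_opensRange _, (sigmaOpenCover _).iSup_opensRange, ?_⟩
  intro j k hjk
  exact disjoint_opensRange_sigmaι 𝒰.X j k hjk

/-- A quasi-compact morphism has quasi-compact charts over atlases by disjoint affines. -/
theorem exists_pullbackChart_quasiCompact (hX : IsAlgSpace X) (hY : IsAlgSpace Y) {f : Y ⟶ X}
    (hf : IsQuasiCompactMor f) (p : (yon S).obj U ⟶ X) {ι : Type u} {K : ι → U.left.Opens}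
    (hK : ∀ j, IsAffineOpen (K j)) (hcov : (⨆ j, K j) = ⊤)
    (hdisj : Pairwise (Function.onFun Disjoint K)) :
    ∃ C : PullbackChart f p, QuasiCompact C.α.left := by
  classical
  have sq := IsPullback.of_hasPullback f p
  have hP := isAlgSpace_of_isPullback sq hX.diag hY (IsAlgSpace.yon_obj U)
  obtain ⟨W₀, w₀, he, hs⟩ := hP.atlas
  obtain ⟨α₀, hα₀⟩ := (yon S).map_surjective (w₀ ≫ pullback.snd f p)
  let φ : Points (pullback f p) → ↥U.left :=
    (Points.schemeHomeo U).symm ∘ Points.map (pullback.snd f p)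
  have hφ : Continuous φ := (Points.schemeHomeo U).symm.continuous.comp (Points.continuous_map _)
  have hφw : ∀ x, φ (Points.ofPt w₀ x) = α₀.left x := fun x => by
    show (Points.schemeHomeo U).symm (Points.map _ _) = _
    rw [Homeomorph.symm_apply_eq, Points.map_ofPt, ← hα₀, ofPt_eq_map]
    exact Points.map_yon_map_apply α₀ x
  have hC : ∀ j, IsCompact (φ ⁻¹' (K j : Set ↥U.left)) := by
    intro j
    let k : Over.mk ((K j).ι ≫ U.hom) ⟶ U := Over.homMk (K j).ι
    have sqk := IsPullback.of_hasPullback (pullback.snd f p) ((yon S).map k)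
    have hc : CompactSpace ↥(K j).toScheme := isCompact_iff_compactSpace.1 (hK j).isCompact
    have hq := hf (IsAlgSpace.yon_obj _) ((isQuasiCompactSp_yon_iff _).2 hc) _ _ _
      (sqk.paste_horiz sq)
    have := (isQuasiCompactSp_iff_compactSpace (isAlgSpace_of_isPullback sqk
      (IsAlgSpace.yon_obj U).diag hP (IsAlgSpace.yon_obj _))).1 hq
    convert isCompact_range (Points.continuous_map (pullback.fst (pullback.snd f p) ((yon S).map k)))
      using 1
    ext z
    constructor
    · intro hz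
      let v : ↥(K j).toScheme := ⟨φ z, hz⟩
      have e₁ : k.left v = φ z := rfl
      have e₂ : Points.map ((yon S).map k) (Points.schemeHomeo _ v) =
          Points.map (pullback.snd f p) z := by
        refine (Points.map_yon_map_apply k v).trans ((congrArg (Points.schemeHomeo U) e₁).trans ?_)
        exact (Points.schemeHomeo U).apply_symm_apply _
      obtain ⟨a, ha, -⟩ := exists_point_of_isPullback sqk z _ e₂.symm
      exact ⟨a, ha⟩
    · rintro ⟨a, rfl⟩
      obtain ⟨v, hv⟩ := (Points.schemeHomeo (Over.mk ((K j).ι ≫ U.hom))).surjective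
        (Points.map (pullback.snd (pullback.snd f p) ((yon S).map k)) a)
      have e : φ (Points.map (pullback.fst (pullback.snd f p) ((yon S).map k)) a) = (K j).ι v := by
        show (Points.schemeHomeo U).symm (Points.map _ _) = _
        rw [Homeomorph.symm_apply_eq, ← Points.map_comp, pullback.condition,
          Points.map_comp, ← hv]
        exact Points.map_yon_map_apply k v
      rw [Set.mem_preimage, e]
      exact v.2
  have hW : ∀ j, ∃ L : W₀.left.Opens, IsCompact (L : Set ↥W₀.left) ∧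
      (L : Set ↥W₀.left) ⊆ α₀.left ⁻¹' (K j : Set ↥U.left) ∧
      φ ⁻¹' (K j : Set ↥U.left) ⊆ Points.ofPt w₀ '' (L : Set ↥W₀.left) := by
    intro j
    let A := {L : W₀.left.Opens // IsAffineOpen L ∧ L ≤ α₀.left ⁻¹ᵁ K j}
    obtain ⟨t, ht⟩ := (hC j).elim_finite_subcover
      (fun L : A => Points.ofPt w₀ '' (L.1 : Set ↥W₀.left))
      (fun L => isOpenMap_ofPt_of_etale he _ L.1.isOpen) (by
        intro z hz
        obtain ⟨x, rfl⟩ := surjective_ofPt_of_repWith hs z
        have hx : x ∈ α₀.left ⁻¹ᵁ K j := by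
          show α₀.left x ∈ K j
          rw [← hφw]; exact hz
        obtain ⟨_, ⟨L, hL, rfl⟩, hxL, hLK⟩ :=
          W₀.left.isBasis_affineOpens.exists_subset_of_mem_open hx (α₀.left ⁻¹ᵁ K j).isOpen
        exact Set.mem_iUnion.2 ⟨⟨L, hL, hLK⟩, x, hxL, rfl⟩)
    refine ⟨⨆ L ∈ t, L.1, ?_, ?_, ?_⟩
    · simp only [TopologicalSpace.Opens.coe_iSup]
      exact t.finite_toSet.isCompact_biUnion fun L _ => L.2.1.isCompact
    · simp only [TopologicalSpace.Opens.coe_iSup]
      exact Set.iUnion₂_subset fun L _ => L.2.2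
    · simp only [TopologicalSpace.Opens.coe_iSup, Set.image_iUnion]
      exact ht
  choose L hLc hLK hLs using hW
  let k : Over.mk ((⨆ j, L j).ι ≫ W₀.hom) ⟶ W₀ := Over.homMk (⨆ j, L j).ι
  have hk : RepWith @Etale ((yon S).map k) :=
    (repWith_yon_map_iff _ k).2 (inferInstanceAs (Etale (⨆ j, L j).ι))
  refine ⟨⟨_, _, _, sq, _, (yon S).map k ≫ w₀, k ≫ α₀, repWith_comp hk he,
    repWith_surjective_of_ofPt (repWith_comp hk he).rep fun z => ?_,
    by rw [Category.assoc, ← hα₀, Functor.map_comp]⟩, ?_⟩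
  · obtain ⟨j, hj⟩ := TopologicalSpace.Opens.mem_iSup.1 (hcov.ge (show φ z ∈ ⊤ from trivial))
    obtain ⟨x, hx, rfl⟩ := hLs j hj
    exact ⟨⟨x, TopologicalSpace.Opens.mem_iSup.2 ⟨j, hx⟩⟩, ofPt_comp_yon _ _ _⟩
  · refine IsZariskiLocalAtTarget.of_iSup_eq_top (P := @QuasiCompact) K hcov fun j => ?_
    have : IsAffine (K j).toScheme := hK j
    rw [quasiCompact_iff_compactSpace]
    refine isCompact_iff_compactSpace.1 ((⨆ j, L j).ι.isOpenEmbedding.isEmbedding.isCompact_iff.2 ?_)
    convert hLc j using 1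
    ext x
    constructor
    · rintro ⟨y, hy, rfl⟩
      obtain ⟨i, hi⟩ := TopologicalSpace.Opens.mem_iSup.1 y.2
      rcases eq_or_ne i j with rfl | hij
      · exact hi
      · exact ((Set.disjoint_left.1 (TopologicalSpace.Opens.coe_disjoint.2 (hdisj hij))
          (hLK i hi)) hy).elim
    · intro hx
      exact ⟨⟨x, TopologicalSpace.Opens.mem_iSup.2 ⟨j, hx⟩⟩, hLK j hx, rfl⟩

/-- The ideal of the scheme theoretic image of a quasi-compact morphism on a chart. -/
theorem ker_eq_of_isSchImage (hX : IsAlgSpace X) (hY : IsAlgSpace Y) {f : Y ⟶ X}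
    {p : (yon S).obj U ⟶ X} (hp : RepWith @Etale p) (hps : RepWith @Surjective p)
    (C : PullbackChart f p) [QuasiCompact C.α.left] {Z : Sp S} (hZ : IsAlgSpace Z) {i : Z ⟶ X}
    (hf : IsSchImage f i) {V : Over S} {fst : (yon S).obj V ⟶ Z} {snd : V ⟶ U}
    (sq : IsPullback fst ((yon S).map snd) i p) : snd.left.ker = C.α.left.ker := by
  rw [ker_eq_imageIdeal_of_isSchImage hX hp hps (C.etale_chart hp) (C.surjective_chart hps)
    C.fac_chart hf hZ sq, imageIdeal_eq_ker (C.isInvIdeal_ker hX hY hp)]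

/-- Scheme theoretic images of quasi-compact morphisms commute with flat base change. -/
theorem isSchImage_of_flat_baseChange {X V Y YV Z ZV : Sp S} (hX : IsAlgSpace X) (hV : IsAlgSpace V)
    (hY : IsAlgSpace Y) (hZ : IsAlgSpace Z) {f : Y ⟶ X} (hq : IsQuasiCompactMor f) {i : Z ⟶ X}
    (hi : IsSchImage f i) {b : V ⟶ X} (hb : LocP @Flat b) {f₁ : YV ⟶ Y} {fV : YV ⟶ V}
    {i₁ : ZV ⟶ Z} {iV : ZV ⟶ V} (sqY : IsPullback f₁ fV f b) (sqZ : IsPullback i₁ iV i b) :
    IsSchImage fV iV := by
  obtain ⟨U₀, p₀, hp₀, hps₀⟩ := hX.atlas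
  obtain ⟨U, c₀, ι, K, hp, hps, hK, hcov, hdisj⟩ := exists_atlas_affine_disjoint hp₀ hps₀
  obtain ⟨C, hC⟩ := exists_pullbackChart_quasiCompact hX hY hq ((yon S).map c₀ ≫ p₀) hK hcov hdisj
  obtain ⟨U', p', c, hp', hps', hc⟩ := exists_chart_over hV hX.diag b _ hp hps
  have : Flat c.left := hb p' _ c hp' hp hc
  have hYV : IsAlgSpace YV := isAlgSpace_of_isPullback sqY hX.diag hY hV
  have hW := IsPullback.of_hasPullback C.α c
  have sqQ := IsPullback.of_hasPullback fV p'
  obtain ⟨w', h₁, h₂, h₃⟩ := C.exists_chart c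
    (show IsPullback (pullback.fst fV p' ≫ f₁) (pullback.snd fV p') f
      ((yon S).map c ≫ (yon S).map c₀ ≫ p₀) by rw [← hc]; exact sqQ.paste_horiz sqY) hW
  let C' : PullbackChart fV p' := ⟨_, _, _, sqQ, _, w', pullback.snd C.α c, h₁, h₂, h₃⟩
  have : QuasiCompact C'.α.left := MorphismProperty.of_isPullback (isPullback_left hW) hC
  have hiV : RepWith @IsClosedImmersion iV := repWith_of_isPullback sqZ hi.1
  obtain ⟨M, m₂, m₁, sqM⟩ := hi.1.rep ((yon S).map c₀ ≫ p₀)
  obtain ⟨M', n₂, n₁, sqN⟩ := hiV.rep p'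
  refine isSchImage_of_ker_eq hp' hps' (C'.etale_chart hp') (C'.surjective_chart hps')
    C'.fac_chart hiV sqN ?_
  rw [imageIdeal_eq_ker (C'.isInvIdeal_ker hV hYV hp')]
  show n₂.left.ker = (pullback.snd C.α c).left.ker
  rw [ker_of_isPullback_of_flat (isPullback_left hW), ← ker_eq_of_isSchImage hX hY hp hps C hZ hi sqM]
  obtain ⟨g, hg⟩ := (yon S).map_surjective (sqM.lift (n₁ ≫ i₁) ((yon S).map n₂ ≫ (yon S).map c)
    (by rw [Category.assoc, sqZ.w, ← Category.assoc, sqN.w, Category.assoc, hc, Category.assoc]))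
  have h4 : IsPullback ((yon S).map g) ((yon S).map n₂) ((yon S).map m₂) ((yon S).map c) := by
    refine IsPullback.of_right ?_ ?_ sqM
    · rw [hg, sqM.lift_fst, ← hc]; exact sqN.paste_horiz sqZ
    · rw [hg, sqM.lift_snd]
  have : IsClosedImmersion m₂.left := hi.1.property _ m₁ m₂ sqM
  exact ker_of_isPullback_closed (isPullback_left (isPullback_of_yon h4))

/-- The image of a quasi-compact morphism is dense in its scheme theoretic image. -/
theorem range_map_subset_closure_of_isSchImage {X Y Z : Sp S} (hX : IsAlgSpace X)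
    (hY : IsAlgSpace Y) (hZ : IsAlgSpace Z) {f : Y ⟶ X} (hq : IsQuasiCompactMor f) {i : Z ⟶ X}
    (hi : IsSchImage f i) :
    Set.range (Points.map i) ⊆ closure (Set.range (Points.map f)) := by
  obtain ⟨U₀, p₀, hp₀, hps₀⟩ := hX.atlas
  obtain ⟨U, c₀, ι, K, hp, hps, hK, hcov, hdisj⟩ := exists_atlas_affine_disjoint hp₀ hps₀
  obtain ⟨C, hC⟩ := exists_pullbackChart_quasiCompact hX hY hq ((yon S).map c₀ ≫ p₀) hK hcov hdisj
  obtain ⟨M, m₂, m₁, sqM⟩ := hi.1.rep ((yon S).map c₀ ≫ p₀)
  intro z hz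
  obtain ⟨u, rfl⟩ := surjective_ofPt_of_repWith hps z
  have hu : u ∈ Set.range m₂.left := (range_left_eq_preimage sqM).ge hz
  have hu' : u ∈ closure (Set.range C.α.left) := by
    rw [← Scheme.Hom.support_ker, ← ker_eq_of_isSchImage hX hY hp hps C hZ hi sqM]
    exact m₂.left.range_subset_ker_support hu
  refine closure_mono ?_ (image_closure_subset_closure_image (Points.continuous_ofPt _)
    ⟨u, hu', rfl⟩)
  rintro _ ⟨_, ⟨x, rfl⟩, rfl⟩
  refine ⟨Points.ofPt (C.w ≫ C.fst) x, ?_⟩
  rw [Points.map_ofPt, C.fac_chart, ofPt_comp_yon]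

end

end Groth.AlgSp3
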