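import Groth.Agent.AlgSp3.NormStable
import Groth.Agent.AlgSp3.SchImage
import Groth.Agent.AlgSp2.SigmaGlue
import Groth.Agent.AlgSpBasic.Quotient
import Groth.Agent.AlgSpBasic.DiagBaseChange
import Groth.Agent.AlgSpBasic.ClosedQC

/-!
# The normalization of an algebraic space in another
-/

set_option autoImplicit false
set_option backward.isDefEq.respectTransparency.types false
universe u

open CategoryTheory CategoryTheory.Limits AlgebraicGeometry Opposite AlgSp TopologicalSpace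

namespace Groth.AlgSp3

open Groth.AlgSpBasic

noncomputable section

variable {S : Scheme.{u}}

theorem isIntegralMor_yon_map {N U : Over S} (ν : N ⟶ U) (h : IsIntegralHom ν.left) :
    IsIntegralMor ((yon S).map ν) :=
  affWith_isIntegralHom_iff.1
    (affWith_of_repWith (fun _ _ k (_ : IsIntegralHom k) => inferInstance)
      ((repWith_yon_map_iff _ ν).2 h))

/-- A disjoint union of affine schemes has a stable normalization. -/
theorem exists_isStable_of_disjoint {P : Sp S} {U : Over S} (hP : IsAlgSpace P)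
    {π : P ⟶ (yon S).obj U} (hqc : IsQuasiCompactMor π) (hqs : IsQuasiSeparatedMor π)
    {ι : Type u} {K : ι → U.left.Opens} (hK : ∀ j, IsAffineOpen (K j)) (hcov : (⨆ j, K j) = ⊤)
    (hdisj : Pairwise (Function.onFun Disjoint K)) :
    ∃ (N : Over S) (ν : N ⟶ U) (f' : P ⟶ (yon S).obj N), IsStable π ν f' := by
  classical
  have data : ∀ j, ∃ (Pj : Sp S) (q : Pj ⟶ P) (πj : Pj ⟶ (yon S).obj (resObj (K j))),
      IsPullback q πj π ((yon S).map (resι (K j))) ∧
        ∃ (Nj : Over S) (νj : Nj ⟶ resObj (K j)) (fj : Pj ⟶ (yon S).obj Nj),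
          IsStable πj νj fj := by
    intro j
    have sq := IsPullback.of_hasPullback π ((yon S).map (resι (K j)))
    have : IsAffine (resObj (K j)).left := hK j
    exact ⟨_, _, _, sq, exists_isStable_of_isAffine
      (isAlgSpace_of_isPullback sq (IsAlgSpace.yon_obj U).diag hP (IsAlgSpace.yon_obj _))
      (isQuasiCompactMor_of_isPullback sq hqc)
      (repWith_of_isPullback (isPullback_diagonal_baseChange sq) hqs)⟩
  choose Pj q πj sq Nj νj fj hSt using data
  let V := Groth.AlgSp2.sigmaObj Nj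
  let incl := Groth.AlgSp2.sigmaIncl Nj
  let ν : V ⟶ U := Over.homMk (Sigma.desc fun j => (νj j).left ≫ (K j).ι) (by
    refine Sigma.hom_ext _ _ fun j => ?_
    show Sigma.ι (fun j => (Nj j).left) j ≫ Sigma.desc (fun j => (νj j).left ≫ (K j).ι) ≫ U.hom =
      Sigma.ι (fun j => (Nj j).left) j ≫ Sigma.desc fun j => (Nj j).hom
    rw [Sigma.ι_desc_assoc, Sigma.ι_desc, Category.assoc]
    exact Over.w (νj j))
  have hincl : ∀ j, incl j ≫ ν = νj j ≫ resι (K j) := fun j => Over.OverMorphism.ext (by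
    show Sigma.ι (fun j => (Nj j).left) j ≫ Sigma.desc (fun j => (νj j).left ≫ (K j).ι) = _
    rw [Sigma.ι_desc]
    rfl)
  have hmem : ∀ (x : U.left) (i j : ι), x ∈ K i → x ∈ K j → i = j := fun x i j hi hj => by
    by_contra hij
    exact Set.disjoint_left.1 (Opens.coe_disjoint.2 (hdisj hij)) hi hj
  have hsqN : ∀ j, IsPullback (incl j) (νj j) ν (resι (K j)) := fun j => by
    refine IsPullback.of_map (Over.forget S) (hincl j) ?_
    have : IsOpenImmersion (resι (K j)).left := (inferInstance : IsOpenImmersion (K j).ι)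
    have : IsOpenImmersion (incl j).left :=
      (inferInstance : IsOpenImmersion (Sigma.ι (fun j => (Nj j).left) j))
    show IsPullback (Sigma.ι (fun j => (Nj j).left) j) (νj j).left ν.left (K j).ι
    refine (IsOpenImmersion.isPullback _ _ _ _ (congrArg CommaMorphism.left (hincl j)) ?_).flip
    show ν.left ⁻¹ᵁ (K j).ι.opensRange = _
    rw [Scheme.Opens.opensRange_ι]
    refine le_antisymm (fun x hx => ?_) ?_
    · obtain ⟨i, y, rfl⟩ := (sigmaOpenCover fun j => (Nj j).left).exists_eq x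
      have hi : ν.left ((incl i).left y) ∈ K i := by
        rw [← Scheme.Hom.comp_apply, ← Over.comp_left, hincl]
        exact ((νj i).left y).2
      obtain rfl := hmem _ i j hi hx
      exact ⟨y, rfl⟩
    · rintro _ ⟨y, rfl⟩
      show ν.left ((incl j).left y) ∈ K j
      rw [← Scheme.Hom.comp_apply, ← Over.comp_left, hincl]
      exact ((νj j).left y).2
  have hint : IsIntegralHom ν.left := by
    refine IsZariskiLocalAtTarget.of_iSup_eq_top (P := @IsIntegralHom) K hcov fun j => ?_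
    have h := (isPullback_morphismRestrict ν.left (K j)).flip
    have e := (hsqN j).map (Over.forget S)
    rw [← h.isoIsPullback_hom_snd _ _ e,
      MorphismProperty.cancel_left_of_respectsIso @IsIntegralHom]
    exact (hSt j).integral
  -- the map out of `P`
  let Good : ∀ T : Over S, ((yon S).obj T ⟶ P) → (T ⟶ V) → Prop := fun T x y =>
    ∀ (T' : Over S) (k : T' ⟶ T) (j : ι) (l : (yon S).obj T' ⟶ Pj j),
      l ≫ q j = (yon S).map k ≫ x → (yon S).map (k ≫ y) = l ≫ fj j ≫ (yon S).map (incl j)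
  have hqmono : ∀ j, Mono (q j) := fun j => by
    have : Mono ((yon S).map (resι (K j))) := inferInstance
    exact (sq j).mono_fst_of_mono
  have hex : ∀ (T : Over S) (x : (yon S).obj T ⟶ P), ∃! y : T ⟶ V, Good T x y := by
    intro T x
    obtain ⟨t, ht⟩ := (yon S).map_surjective (x ≫ π)
    choose tj hsqt using fun j => exists_isPullback_resι t (K j)
    let l := fun j => (sq j).lift ((yon S).map (resι (t.left ⁻¹ᵁ K j)) ≫ x) ((yon S).map (tj j))
      (by rw [Category.assoc, ← ht, ← Functor.map_comp, ← Functor.map_comp, (hsqt j).w])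
    have hl : ∀ j, l j ≫ q j = (yon S).map (resι (t.left ⁻¹ᵁ K j)) ≫ x := fun j =>
      (sq j).lift_fst _ _ _
    have hcovT : (⨆ j, t.left ⁻¹ᵁ K j) = ⊤ := by
      rw [← Scheme.Hom.preimage_iSup, hcov]
      rfl
    obtain ⟨g, hg⟩ := exists_glue_of_openCover (T.left.openCoverOfIsOpenCover _ hcovT)
      (fun j => l j ≫ fj j ≫ (yon S).map (incl j)) fun i j T' a b e => by
        by_cases hij : i = j
        · subst hij
          rw [Over.OverMorphism.ext ((cancel_mono ((T.left.openCoverOfIsOpenCover _ hcovT).f i)).1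
            e : a.left = b.left)]
        · have : IsEmpty T'.left := ⟨fun z => hij (hmem _ i j
            (show t.left ((t.left ⁻¹ᵁ K i).ι (a.left z)) ∈ K i from (a.left z).2)
            (by
              have e' : (t.left ⁻¹ᵁ K i).ι (a.left z) = (t.left ⁻¹ᵁ K j).ι (b.left z) := by
                exact congrArg (fun f : T'.left ⟶ T.left => f z) e
              rw [e']
              exact (b.left z).2))⟩
          exact yEquiv.injective ((Groth.AlgSp2.subsingleton_of_isEmpty _ T').elim _ _)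
    have hg' : ∀ j, (yon S).map (resι (t.left ⁻¹ᵁ K j)) ≫ g =
        l j ≫ fj j ≫ (yon S).map (incl j) := hg
    obtain ⟨y, hy⟩ := (yon S).map_surjective g
    refine ⟨y, fun T' k j m hm => ?_, fun y' hy' => (yon S).map_injective ?_⟩
    · obtain ⟨c, hc⟩ := (yon S).map_surjective (m ≫ πj j)
      let k' := (hsqt j).lift k c ((yon S).map_injective (by
        rw [Functor.map_comp, Functor.map_comp, ht, hc, Category.assoc, ← (sq j).w,
          reassoc_of% hm]))
      have hk' : k' ≫ resι _ = k := (hsqt j).lift_fst _ _ _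
      have e : m = (yon S).map k' ≫ l j := by
        rw [← cancel_mono (q j), Category.assoc, hl, hm, ← Category.assoc, ← Functor.map_comp, hk']
      rw [e, Category.assoc, ← hg', ← hy, ← Functor.map_comp, ← Functor.map_comp,
        ← Category.assoc k', hk']
    · refine hom_ext_res fun z => ?_
      obtain ⟨j, hj⟩ := Opens.mem_iSup.1 (hcovT.ge (show z ∈ ⊤ from trivial))
      refine ⟨t.left ⁻¹ᵁ K j, hj, ?_⟩
      rw [← Functor.map_comp, hy' _ _ j (l j) (hl j), hy, hg']
  choose y hy hyu using hex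
  obtain ⟨f', hf'⟩ := Groth.AlgSp2.exists_hom_of_points y fun T T' g x =>
    (hyu T' _ _ fun T'' k j l hl => by
      rw [← Category.assoc]
      exact hy T x T'' (k ≫ g) j l (by rw [hl, Functor.map_comp, Category.assoc])).symm
  have hqf : ∀ j, q j ≫ f' = fj j ≫ (yon S).map (incl j) := fun j =>
    Groth.AlgSp2.hom_ext_yon fun T l => by
      rw [← Category.assoc, hf' T (l ≫ q j)]
      have := hy T (l ≫ q j) T (𝟙 T) j l (by simp)
      rwa [Category.id_comp] at this
  have hfac : f' ≫ (yon S).map ν = π := Groth.AlgSp2.hom_ext_yon fun T x => by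
    obtain ⟨t, ht⟩ := (yon S).map_surjective (x ≫ π)
    refine hom_ext_res fun z => ?_
    obtain ⟨j, hj⟩ := Opens.mem_iSup.1 (hcov.ge (show t.left z ∈ ⊤ from trivial))
    refine ⟨t.left ⁻¹ᵁ K j, hj, ?_⟩
    obtain ⟨tj, hsqt⟩ := exists_isPullback_resι t (K j)
    obtain ⟨l, hl, hl₂⟩ : ∃ l, l ≫ q j = (yon S).map (resι (t.left ⁻¹ᵁ K j)) ≫ x ∧
        l ≫ πj j = (yon S).map tj := by
      have w : ((yon S).map (resι (t.left ⁻¹ᵁ K j)) ≫ x) ≫ π =
          (yon S).map tj ≫ (yon S).map (resι (K j)) := by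
        rw [Category.assoc, ← ht, ← Functor.map_comp, ← Functor.map_comp, hsqt.w]
      exact ⟨_, (sq j).lift_fst _ _ w, (sq j).lift_snd _ _ w⟩
    rw [← Category.assoc _ x, ← Category.assoc _ x, ← hl, Category.assoc, Category.assoc,
      reassoc_of% (hqf j), ← Functor.map_comp, hincl, Functor.map_comp, reassoc_of% (hSt j).fac,
      (sq j).w]
  refine ⟨V, ν, f', isStable_of_local hfac hint fun x => ?_⟩
  obtain ⟨j, hj⟩ := Opens.mem_iSup.1 (hcov.ge (show x ∈ ⊤ from trivial))
  exact ⟨K j, hj, Pj j, q j, πj j, sq j, Nj j, incl j, νj j, hsqN j, fj j, (hqf j).symm, hSt j⟩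

section Charts

variable {X Y X' P : Sp S} {U N : Over S} {p : (yon S).obj U ⟶ X} {f : Y ⟶ X} {ν : X' ⟶ X}
  {f' : Y ⟶ X'} {qP : P ⟶ Y} {π : P ⟶ (yon S).obj U} {q : (yon S).obj N ⟶ X'} {ν₀ : N ⟶ U}
  {f₀ : P ⟶ (yon S).obj N}

/-- A factorisation which is a stable normalization on an etale chart is a normalization. -/
theorem isRelNormalization_of_isStable (hX : IsAlgSpace X) (hp : RepWith @Etale p)
    (hps : RepWith @Surjective p) (hfac : f' ≫ ν = f) (hν : IsIntegralMor ν)
    (sqP : IsPullback qP π f p) (sqN : IsPullback q ((yon S).map ν₀) ν p)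
    (hf₀ : f₀ ≫ q = qP ≫ f') (h : IsStable π ν₀ f₀) : IsRelNormalization f ν f' := by
  refine ⟨hfac, hν, fun Z hZ ρ g hρ hg => ?_⟩
  obtain ⟨R, t, s, sqR⟩ := exists_pullback_of_diag hX.diag p p
  have : Etale t.left := (repWith_yon_map_iff _ t).1 (repWith_of_isPullback sqR.flip hp)
  obtain ⟨Nt, qt, νt, sqt⟩ : ∃ (Nt : Over S) (qt : Nt ⟶ N) (νt : Nt ⟶ R),
      IsPullback qt νt ν₀ t := ⟨_, _, _, IsPullback.of_hasPullback _ _⟩
  obtain ⟨Pt, qPt, πt, sqPt⟩ : ∃ (Pt : Sp S) (qPt : Pt ⟶ P) (πt : Pt ⟶ (yon S).obj R),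
      IsPullback qPt πt π ((yon S).map t) := ⟨_, _, _, IsPullback.of_hasPullback _ _⟩
  let ft : Pt ⟶ (yon S).obj Nt :=
    (sqt.map (yon S)).lift (qPt ≫ f₀) πt (by rw [Category.assoc, h.fac, sqPt.w])
  have hft₁ : ft ≫ (yon S).map qt = qPt ≫ f₀ := (sqt.map (yon S)).lift_fst _ _ _
  have hft₂ : ft ≫ (yon S).map νt = πt := (sqt.map (yon S)).lift_snd _ _ _
  have hSt := h.baseChange t sqPt sqt hft₂ hft₁
  obtain ⟨m, ⟨hm₁, hm₂⟩, hmu⟩ := h.existsUnique_hom hX hZ p ρ hρ (qP ≫ g)
    (by rw [Category.assoc, hg, sqP.w])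
  let σ : (yon S).obj Nt ⟶ (yon S).obj N :=
    sqN.lift ((yon S).map qt ≫ q) ((yon S).map νt ≫ (yon S).map s) (by
      rw [Category.assoc, Category.assoc, sqN.w, ← sqR.w, ← Category.assoc, ← Category.assoc,
        ← Functor.map_comp, ← Functor.map_comp, sqt.w])
  let v : Pt ⟶ P := sqP.lift (qPt ≫ qP) (πt ≫ (yon S).map s) (by
    rw [Category.assoc, Category.assoc, sqP.w, ← sqR.w, ← Category.assoc, ← Category.assoc, sqPt.w])
  have hv : ft ≫ σ = v ≫ f₀ := by
    apply sqN.hom_ext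
    · rw [Category.assoc, sqN.lift_fst, reassoc_of% hft₁, Category.assoc, hf₀, ← Category.assoc v,
        sqP.lift_fst, Category.assoc]
    · rw [Category.assoc, sqN.lift_snd, reassoc_of% hft₂, Category.assoc, h.fac, sqP.lift_snd]
  have hσm : (yon S).map qt ≫ m = σ ≫ m := by
    refine (hSt.existsUnique_hom hX hZ ((yon S).map t ≫ p) ρ hρ (qPt ≫ qP ≫ g) ?_).unique
      ⟨?_, ?_⟩ ⟨?_, ?_⟩
    · rw [Category.assoc, Category.assoc, hg, sqP.w, reassoc_of% sqPt.w]
    · rw [← Category.assoc, hft₁, Category.assoc, hm₁]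
    · rw [Category.assoc, hm₂, ← Category.assoc, ← Category.assoc, ← Functor.map_comp,
        ← Functor.map_comp, sqt.w]
    · rw [← Category.assoc, hv, Category.assoc, hm₁, ← Category.assoc v, sqP.lift_fst,
        Category.assoc]
    · rw [Category.assoc, hm₂, ← Category.assoc σ, sqN.lift_snd, Category.assoc, ← sqR.w]
  have hq : RepWith @Etale q := repWith_of_isPullback sqN.flip hp
  have := isLocallySurjective_of_etale q hq (repWith_of_isPullback sqN.flip hps)
  have sqE := IsPullback.of_hasPullback q q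
  have key : pullback.fst q q ≫ m = pullback.snd q q ≫ m := Groth.AlgSp2.hom_ext_yon fun T x => by
    let n₁ := x ≫ pullback.fst q q
    let n₂ := x ≫ pullback.snd q q
    have e : n₁ ≫ q = n₂ ≫ q := by simp only [n₁, n₂, Category.assoc, sqE.w]
    let r := sqR.lift (n₁ ≫ (yon S).map ν₀) (n₂ ≫ (yon S).map ν₀) (by
      rw [Category.assoc n₁, Category.assoc n₂, ← sqN.w, reassoc_of% e])
    let a := (sqt.map (yon S)).lift n₁ r (sqR.lift_fst _ _ _).symm
    have ha : a ≫ σ = n₂ := by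
      apply sqN.hom_ext
      · rw [Category.assoc, sqN.lift_fst, ← Category.assoc, (sqt.map (yon S)).lift_fst, e]
      · rw [Category.assoc, sqN.lift_snd, ← Category.assoc, (sqt.map (yon S)).lift_snd,
          sqR.lift_snd]
    show x ≫ pullback.fst q q ≫ m = x ≫ pullback.snd q q ≫ m
    rw [← Category.assoc, ← Category.assoc, show x ≫ pullback.fst q q = a ≫ (yon S).map qt from
      ((sqt.map (yon S)).lift_fst _ _ _).symm, show x ≫ pullback.snd q q = a ≫ σ from ha.symm,
      Category.assoc, Category.assoc, hσm]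
  obtain ⟨hc⟩ := isColimit_of_isLocallySurjective sqE
  obtain ⟨k, hk, -⟩ := Cofork.IsColimit.existsUnique hc m key
  have hk' : q ≫ k = m := hk
  have := isLocallySurjective_of_etale p hp hps
  have := isLocallySurjective_of_isPullback sqP.flip
  refine ⟨k, ⟨?_, ?_⟩, fun k' hk'' => ?_⟩
  · rw [← cancel_epi qP, ← Category.assoc qP f', ← hf₀, Category.assoc, hk', hm₁]
  · rw [← cancel_epi q, ← Category.assoc, hk', hm₂, sqN.w]
  · rw [← cancel_epi q, hk']
    exact hmu _ ⟨by rw [← Category.assoc, hf₀, Category.assoc, hk''.1],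
      by rw [Category.assoc, hk''.2, sqN.w]⟩

/-- Descent of a stable normalization on a chart. -/
theorem exists_normalization_of_isStable (hX : IsAlgSpace X) (hp : RepWith @Etale p)
    (hps : RepWith @Surjective p) (sqP : IsPullback qP π f p) (h : IsStable π ν₀ f₀) :
    ∃ (X'' : Sp S) (νX : X'' ⟶ X) (fX : Y ⟶ X'') (qX : (yon S).obj N ⟶ X''),
      IsAlgSpace X'' ∧ fX ≫ νX = f ∧ IsIntegralMor νX ∧
        IsPullback qX ((yon S).map ν₀) νX p ∧ f₀ ≫ qX = qP ≫ fX := by
  obtain ⟨R, t, s, sqR⟩ := exists_pullback_of_diag hX.diag p p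
  have ht : Etale t.left := (repWith_yon_map_iff _ t).1 (repWith_of_isPullback sqR.flip hp)
  have hs : Etale s.left := (repWith_yon_map_iff _ s).1 (repWith_of_isPullback sqR hp)
  obtain ⟨Nt, qt, νt, sqt⟩ : ∃ (Nt : Over S) (qt : Nt ⟶ N) (νt : Nt ⟶ R),
      IsPullback qt νt ν₀ t := ⟨_, _, _, IsPullback.of_hasPullback _ _⟩
  obtain ⟨Pt, qPt, πt, sqPt⟩ : ∃ (Pt : Sp S) (qPt : Pt ⟶ P) (πt : Pt ⟶ (yon S).obj R),
      IsPullback qPt πt π ((yon S).map t) := ⟨_, _, _, IsPullback.of_hasPullback _ _⟩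
  let ft : Pt ⟶ (yon S).obj Nt :=
    (sqt.map (yon S)).lift (qPt ≫ f₀) πt (by rw [Category.assoc, h.fac, sqPt.w])
  have hft₁ : ft ≫ (yon S).map qt = qPt ≫ f₀ := (sqt.map (yon S)).lift_fst _ _ _
  have hft₂ : ft ≫ (yon S).map νt = πt := (sqt.map (yon S)).lift_snd _ _ _
  have hSt := h.baseChange t sqPt sqt hft₂ hft₁
  have hint := isIntegralMor_yon_map ν₀ h.integral
  have hN : IsAlgSpace ((yon S).obj N) := IsAlgSpace.yon_obj N
  have hU : IsAlgSpace ((yon S).obj U) := IsAlgSpace.yon_obj U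
  let v : Pt ⟶ P := sqP.lift (qPt ≫ qP) (πt ≫ (yon S).map s) (by
    rw [Category.assoc, Category.assoc, sqP.w, ← sqR.w, ← Category.assoc, ← Category.assoc, sqPt.w])
  have hv₁ : v ≫ qP = qPt ≫ qP := sqP.lift_fst _ _ _
  have hv₂ : v ≫ π = πt ≫ (yon S).map s := sqP.lift_snd _ _ _
  -- the second projection of the equivalence relation
  obtain ⟨σ', ⟨hσ₁, hσ₂⟩, -⟩ := hSt.existsUnique_hom hU hN ((yon S).map s) _ hint (v ≫ f₀)
    (by rw [Category.assoc, h.fac, hv₂])
  obtain ⟨σ, rfl⟩ := (yon S).map_surjective σ'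
  have hσν : σ ≫ ν₀ = νt ≫ s := (yon S).map_injective (by simpa only [Functor.map_comp] using hσ₂)
  -- uniqueness of maps to `N` out of base changes
  have uniq : ∀ {V : Over S} (c d : V ⟶ U), Etale c.left → ∀ {Q : Sp S} (qQ : Q ⟶ P)
      (πQ : Q ⟶ (yon S).obj V), IsPullback qQ πQ π ((yon S).map c) → ∀ {M : Over S} (qM : M ⟶ N)
      (νM : M ⟶ V), IsPullback qM νM ν₀ c → ∀ (fM : Q ⟶ (yon S).obj M),
      fM ≫ (yon S).map νM = πQ → fM ≫ (yon S).map qM = qQ ≫ f₀ → ∀ (m₁ m₂ : M ⟶ N),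
      m₁ ≫ ν₀ = νM ≫ d → m₂ ≫ ν₀ = νM ≫ d →
      fM ≫ (yon S).map m₁ = fM ≫ (yon S).map m₂ → m₁ = m₂ := by
    intro V c d hc Q qQ πQ sqQ M qM νM sqM fM e₁ e₂ m₁ m₂ d₁ d₂ e
    have := hc
    refine (yon S).map_injective (((h.baseChange c sqQ sqM e₁ e₂).existsUnique_hom hU hN
      ((yon S).map d) _ hint (fM ≫ (yon S).map m₁) ?_).unique ⟨rfl, ?_⟩ ⟨e.symm, ?_⟩)
    · rw [Category.assoc, ← Functor.map_comp, d₁, Functor.map_comp, reassoc_of% e₁]
    · rw [← Functor.map_comp, d₁, Functor.map_comp]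
    · rw [← Functor.map_comp, d₂, Functor.map_comp]
  have hinj : ∀ (T : Over S) (r r' : T ⟶ Nt), r ≫ qt = r' ≫ qt → r ≫ σ = r' ≫ σ → r = r' := by
    intro T r r' h₁ h₂
    refine sqt.hom_ext h₁ ((yon S).map_injective (sqR.hom_ext ?_ ?_))
    · rw [← Functor.map_comp, ← Functor.map_comp, Category.assoc, Category.assoc, ← sqt.w,
        reassoc_of% h₁]
    · rw [← Functor.map_comp, ← Functor.map_comp, Category.assoc, Category.assoc, ← hσν,
        reassoc_of% h₂]
  -- reflexivity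
  obtain ⟨e, he⟩ := (yon S).map_surjective (sqR.lift (𝟙 _) (𝟙 _) rfl)
  have het : e ≫ t = 𝟙 U := (yon S).map_injective (by
    rw [Functor.map_comp, he, sqR.lift_fst, CategoryTheory.Functor.map_id])
  have hes : e ≫ s = 𝟙 U := (yon S).map_injective (by
    rw [Functor.map_comp, he, sqR.lift_snd, CategoryTheory.Functor.map_id])
  let ε : N ⟶ Nt := sqt.lift (𝟙 N) (ν₀ ≫ e) (by
    rw [Category.id_comp, Category.assoc, het, Category.comp_id])
  have hε : ε ≫ σ = 𝟙 N := by
    refine uniq (𝟙 U) (𝟙 U) (inferInstanceAs (Etale (𝟙 U.left))) (𝟙 P) π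
      (by rw [CategoryTheory.Functor.map_id]; exact IsPullback.of_id_fst) (𝟙 N) ν₀
      IsPullback.of_id_fst f₀ h.fac (by simp) _ _ ?_ (by simp) ?_
    · rw [Category.assoc, hσν, sqt.lift_snd_assoc, Category.assoc, hes]
    · let w : P ⟶ Pt := sqPt.lift (𝟙 P) (π ≫ (yon S).map e) (by
        rw [Category.id_comp, Category.assoc, ← Functor.map_comp, het,
          CategoryTheory.Functor.map_id, Category.comp_id])
      have hw : f₀ ≫ (yon S).map ε = w ≫ ft := by
        apply (sqt.map (yon S)).hom_ext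
        · rw [Category.assoc, ← Functor.map_comp, sqt.lift_fst, Category.assoc, hft₁,
            sqPt.lift_fst_assoc, CategoryTheory.Functor.map_id, Category.comp_id, Category.id_comp]
        · rw [Category.assoc, ← Functor.map_comp, sqt.lift_snd, Category.assoc, hft₂,
            sqPt.lift_snd, Functor.map_comp, reassoc_of% h.fac]
      have hwv : w ≫ v = 𝟙 P := by
        apply sqP.hom_ext
        · rw [Category.assoc, hv₁, sqPt.lift_fst_assoc]
        · rw [Category.assoc, hv₂, sqPt.lift_snd_assoc, Category.assoc, ← Functor.map_comp, hes,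
            CategoryTheory.Functor.map_id, Category.comp_id, Category.id_comp]
      rw [Functor.map_comp, reassoc_of% hw, hσ₁, reassoc_of% hwv, CategoryTheory.Functor.map_id,
        Category.comp_id]
  -- symmetry
  obtain ⟨sw, hsw⟩ := (yon S).map_surjective (sqR.lift ((yon S).map s) ((yon S).map t) sqR.w.symm)
  have hswt : sw ≫ t = s := (yon S).map_injective (by rw [Functor.map_comp, hsw, sqR.lift_fst])
  have hsws : sw ≫ s = t := (yon S).map_injective (by rw [Functor.map_comp, hsw, sqR.lift_snd])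
  let τ : Nt ⟶ Nt := sqt.lift σ (νt ≫ sw) (by rw [Category.assoc, hswt, hσν])
  have hτ : τ ≫ σ = qt := by
    refine uniq t t ht qPt πt sqPt qt νt sqt ft hft₂ hft₁ _ _ ?_ sqt.w ?_
    · rw [Category.assoc, hσν, sqt.lift_snd_assoc, Category.assoc, hsws]
    · let w : Pt ⟶ Pt := sqPt.lift v (πt ≫ (yon S).map sw) (by
        rw [hv₂, Category.assoc, ← Functor.map_comp, hswt])
      have hw : ft ≫ (yon S).map τ = w ≫ ft := by
        apply (sqt.map (yon S)).hom_ext
        · rw [Category.assoc, ← Functor.map_comp, sqt.lift_fst, Category.assoc, hft₁, hσ₁,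
            sqPt.lift_fst_assoc]
        · rw [Category.assoc, ← Functor.map_comp, sqt.lift_snd, Category.assoc, hft₂,
            sqPt.lift_snd, Functor.map_comp, reassoc_of% hft₂]
      have hwv : w ≫ v = qPt := by
        apply sqP.hom_ext
        · rw [Category.assoc, hv₁, sqPt.lift_fst_assoc, hv₁]
        · rw [Category.assoc, hv₂, sqPt.lift_snd_assoc, Category.assoc, ← Functor.map_comp, hsws,
            sqPt.w]
      rw [Functor.map_comp, reassoc_of% hw, hσ₁, reassoc_of% hwv, hft₁]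
  have heqv : IsEqvRel σ qt := by
    refine ⟨hinj, fun T => ⟨fun a => ⟨a ≫ ε, ?_, ?_⟩, ?_, ?_⟩⟩
    · rw [Category.assoc, sqt.lift_fst, Category.comp_id]
    · rw [Category.assoc, hε, Category.comp_id]
    · rintro a b ⟨r, rfl, rfl⟩
      exact ⟨r ≫ τ, by rw [Category.assoc, sqt.lift_fst], by rw [Category.assoc, hτ]⟩
    · rintro a b d ⟨r₁, rfl, rfl⟩ ⟨r₂, hr, rfl⟩
      obtain ⟨R₂, pr₁, pr₂, sqR₂⟩ : ∃ (R₂ : Over S) (pr₁ : R₂ ⟶ R) (pr₂ : R₂ ⟶ R),
          IsPullback pr₁ pr₂ s t := ⟨_, _, _, IsPullback.of_hasPullback _ _⟩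
      have hc : Etale (pr₁ ≫ t).left := by
        have : Etale pr₁.left := MorphismProperty.of_isPullback (isPullback_left sqR₂).flip ht
        exact inferInstanceAs (Etale (pr₁.left ≫ t.left))
      obtain ⟨d₁₃, hd⟩ := (yon S).map_surjective
        (sqR.lift ((yon S).map (pr₁ ≫ t)) ((yon S).map (pr₂ ≫ s)) (by
          rw [Functor.map_comp, Functor.map_comp, Category.assoc, Category.assoc, sqR.w,
            ← Category.assoc, ← Functor.map_comp, sqR₂.w, Functor.map_comp, Category.assoc,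
            ← sqR.w]))
      have hdt : d₁₃ ≫ t = pr₁ ≫ t := (yon S).map_injective (by
        rw [Functor.map_comp, hd, sqR.lift_fst])
      have hds : d₁₃ ≫ s = pr₂ ≫ s := (yon S).map_injective (by
        rw [Functor.map_comp, hd, sqR.lift_snd])
      obtain ⟨N₂, q₂, ν₂, sqN₂⟩ : ∃ (N₂ : Over S) (q₂ : N₂ ⟶ N) (ν₂ : N₂ ⟶ R₂),
          IsPullback q₂ ν₂ ν₀ (pr₁ ≫ t) := ⟨_, _, _, IsPullback.of_hasPullback _ _⟩
      obtain ⟨P₂, qP₂, π₂, sqP₂⟩ : ∃ (P₂ : Sp S) (qP₂ : P₂ ⟶ P) (π₂ : P₂ ⟶ (yon S).obj R₂),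
          IsPullback qP₂ π₂ π ((yon S).map (pr₁ ≫ t)) := ⟨_, _, _, IsPullback.of_hasPullback _ _⟩
      let f₂ : P₂ ⟶ (yon S).obj N₂ :=
        (sqN₂.map (yon S)).lift (qP₂ ≫ f₀) π₂ (by rw [Category.assoc, h.fac, sqP₂.w])
      have hf₂₁ : f₂ ≫ (yon S).map q₂ = qP₂ ≫ f₀ := (sqN₂.map (yon S)).lift_fst _ _ _
      have hf₂₂ : f₂ ≫ (yon S).map ν₂ = π₂ := (sqN₂.map (yon S)).lift_snd _ _ _
      let φ₁ : N₂ ⟶ Nt := sqt.lift q₂ (ν₂ ≫ pr₁) (by rw [Category.assoc, sqN₂.w])
      let φ₂ : N₂ ⟶ Nt := sqt.lift (φ₁ ≫ σ) (ν₂ ≫ pr₂) (by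
        rw [Category.assoc, hσν, sqt.lift_snd_assoc, Category.assoc, Category.assoc, sqR₂.w])
      let φ₃ : N₂ ⟶ Nt := sqt.lift q₂ (ν₂ ≫ d₁₃) (by rw [Category.assoc, hdt, sqN₂.w])
      let a₁ : P₂ ⟶ Pt := sqPt.lift qP₂ (π₂ ≫ (yon S).map pr₁) (by
        rw [sqP₂.w, Functor.map_comp, Category.assoc])
      let a₂ : P₂ ⟶ Pt := sqPt.lift (a₁ ≫ v) (π₂ ≫ (yon S).map pr₂) (by
        rw [Category.assoc, hv₂, sqPt.lift_snd_assoc, Category.assoc, Category.assoc,
          ← Functor.map_comp, ← Functor.map_comp, sqR₂.w])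
      let a₃ : P₂ ⟶ Pt := sqPt.lift qP₂ (π₂ ≫ (yon S).map d₁₃) (by
        rw [sqP₂.w, Category.assoc, ← Functor.map_comp, hdt])
      have h₁ : f₂ ≫ (yon S).map φ₁ = a₁ ≫ ft := by
        apply (sqt.map (yon S)).hom_ext
        · rw [Category.assoc, ← Functor.map_comp, sqt.lift_fst, Category.assoc, hft₁,
            sqPt.lift_fst_assoc, hf₂₁]
        · rw [Category.assoc, ← Functor.map_comp, sqt.lift_snd, Category.assoc, hft₂,
            sqPt.lift_snd, Functor.map_comp, reassoc_of% hf₂₂]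
      have h₂ : f₂ ≫ (yon S).map φ₂ = a₂ ≫ ft := by
        apply (sqt.map (yon S)).hom_ext
        · rw [Category.assoc, ← Functor.map_comp, sqt.lift_fst, Category.assoc, hft₁,
            sqPt.lift_fst_assoc, Functor.map_comp, reassoc_of% h₁, hσ₁, Category.assoc]
        · rw [Category.assoc, ← Functor.map_comp, sqt.lift_snd, Category.assoc, hft₂,
            sqPt.lift_snd, Functor.map_comp, reassoc_of% hf₂₂]
      have h₃ : f₂ ≫ (yon S).map φ₃ = a₃ ≫ ft := by
        apply (sqt.map (yon S)).hom_ext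
        · rw [Category.assoc, ← Functor.map_comp, sqt.lift_fst, Category.assoc, hft₁,
            sqPt.lift_fst_assoc, hf₂₁]
        · rw [Category.assoc, ← Functor.map_comp, sqt.lift_snd, Category.assoc, hft₂,
            sqPt.lift_snd, Functor.map_comp, reassoc_of% hf₂₂]
      have ha : a₂ ≫ v = a₃ ≫ v := by
        apply sqP.hom_ext
        · rw [Category.assoc, Category.assoc, hv₁, sqPt.lift_fst_assoc, sqPt.lift_fst_assoc,
            Category.assoc, hv₁, sqPt.lift_fst_assoc]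
        · rw [Category.assoc, Category.assoc, hv₂, sqPt.lift_snd_assoc, sqPt.lift_snd_assoc,
            Category.assoc, Category.assoc, ← Functor.map_comp, ← Functor.map_comp, hds]
      have hφ : φ₃ ≫ σ = φ₂ ≫ σ := by
        refine uniq (pr₁ ≫ t) (pr₂ ≫ s) hc qP₂ π₂ sqP₂ q₂ ν₂ sqN₂ f₂ hf₂₂ hf₂₁ _ _ ?_ ?_ ?_
        · rw [Category.assoc, hσν, sqt.lift_snd_assoc, Category.assoc, hds]
        · rw [Category.assoc, hσν, sqt.lift_snd_assoc, Category.assoc]
        · rw [Functor.map_comp, Functor.map_comp, reassoc_of% h₃, reassoc_of% h₂, hσ₁,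
            reassoc_of% ha]
      have w₁ : (r₁ ≫ νt) ≫ s = (r₂ ≫ νt) ≫ t := by
        rw [Category.assoc, Category.assoc, ← sqt.w, reassoc_of% hr, hσν]
      let r := sqN₂.lift (r₁ ≫ qt) (sqR₂.lift (r₁ ≫ νt) (r₂ ≫ νt) w₁) (by
        rw [Category.assoc, sqt.w, sqR₂.lift_fst_assoc, Category.assoc])
      have hr₁ : r ≫ φ₁ = r₁ := sqt.hom_ext
        (by rw [Category.assoc, sqt.lift_fst, sqN₂.lift_fst])
        (by rw [Category.assoc, sqt.lift_snd, sqN₂.lift_snd_assoc, sqR₂.lift_fst])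
      have hr₂ : r ≫ φ₂ = r₂ := sqt.hom_ext
        (by rw [Category.assoc, sqt.lift_fst, reassoc_of% hr₁, hr])
        (by rw [Category.assoc, sqt.lift_snd, sqN₂.lift_snd_assoc, sqR₂.lift_snd])
      exact ⟨r ≫ φ₃, by rw [Category.assoc, sqt.lift_fst, sqN₂.lift_fst],
        by rw [Category.assoc, hφ, reassoc_of% hr₂]⟩
  -- the quotient
  have sqQ := isPullback_yonQuot heqv
  have hqs := isLocallySurjective_yonQuotπ σ qt
  have hwQ := yonQuot_w σ qt
  let qX := yonQuotπ σ qt
  have hw0 : (yon S).map qt ≫ (yon S).map ν₀ ≫ p = (yon S).map σ ≫ (yon S).map ν₀ ≫ p := by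
    rw [← Category.assoc, ← Category.assoc, ← Functor.map_comp, ← Functor.map_comp, sqt.w, hσν,
      Functor.map_comp, Functor.map_comp, Category.assoc, Category.assoc, sqR.w]
  obtain ⟨νX, hqν⟩ : ∃ νX : QuotSh.quot Scheme.fppfPrecoverage σ qt ⟶ X,
      qX ≫ νX = (yon S).map ν₀ ≫ p :=
    ⟨_, (Cofork.IsColimit.existsUnique (isColimitYonQuot σ qt) _ hw0).exists.choose_spec⟩
  obtain ⟨l, hl₁, hl₂⟩ : ∃ l : (yon S).obj N ⟶ pullback νX p,
      l ≫ pullback.fst νX p = qX ∧ l ≫ pullback.snd νX p = (yon S).map ν₀ :=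
    ⟨pullback.lift qX _ hqν, pullback.lift_fst _ _ _, pullback.lift_snd _ _ _⟩
  have : Mono l := ⟨fun {Z} a b hab => Groth.AlgSp2.hom_ext_yon fun T z => by
    have e₁ : (z ≫ a) ≫ qX = (z ≫ b) ≫ qX := by
      have := hab =≫ pullback.fst νX p
      rw [Category.assoc, Category.assoc, hl₁] at this
      rw [Category.assoc, Category.assoc, this]
    have e₂ : (z ≫ a) ≫ (yon S).map ν₀ = (z ≫ b) ≫ (yon S).map ν₀ := by
      have := hab =≫ pullback.snd νX p
      rw [Category.assoc, Category.assoc, hl₂] at this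
      rw [Category.assoc, Category.assoc, this]
    obtain ⟨x, hx⟩ := (yon S).map_surjective (sqQ.lift (z ≫ a) (z ≫ b) e₁)
    have h₁ : (yon S).map (x ≫ qt) = z ≫ a := by rw [Functor.map_comp, hx, sqQ.lift_fst]
    have h₂ : (yon S).map (x ≫ σ) = z ≫ b := by rw [Functor.map_comp, hx, sqQ.lift_snd]
    have hxν : x ≫ νt = (x ≫ qt) ≫ ν₀ ≫ e := (yon S).map_injective (sqR.hom_ext (by
        rw [← Functor.map_comp, ← Functor.map_comp]
        congr 1
        simp only [Category.assoc, het, Category.comp_id, sqt.w]) (by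
        have : x ≫ σ ≫ ν₀ = x ≫ qt ≫ ν₀ := (yon S).map_injective (by
          rw [← Category.assoc, ← Category.assoc, Functor.map_comp, h₂, ← e₂, ← h₁,
            ← Functor.map_comp])
        rw [← Functor.map_comp, ← Functor.map_comp]
        congr 1
        simp only [Category.assoc, hes, Category.comp_id, ← hσν, this]))
    have hxε : x = (x ≫ qt) ≫ ε := sqt.hom_ext
      (by rw [Category.assoc (x ≫ qt), sqt.lift_fst, Category.comp_id])
      (by rw [Category.assoc (x ≫ qt), sqt.lift_snd, hxν])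
    rw [← h₁, ← h₂]
    conv_rhs => rw [hxε, Category.assoc, hε, Category.comp_id]⟩
  have : Sheaf.IsLocallySurjective qX := hqs
  have : Epi l := by
    have sqG := IsPullback.of_hasPullback qX (pullback.fst νX p)
    have := isLocallySurjective_of_isPullback sqG
    let n := pullback.fst qX (pullback.fst νX p)
    let z := pullback.snd qX (pullback.fst νX p)
    have hz : n ≫ qX = z ≫ pullback.fst νX p := sqG.w
    let r := sqR.lift (n ≫ (yon S).map ν₀) (z ≫ pullback.snd νX p) (by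
      rw [Category.assoc, Category.assoc, ← hqν, reassoc_of% hz, pullback.condition])
    let a := (sqt.map (yon S)).lift n r (sqR.lift_fst _ _ _).symm
    have ha : a ≫ (yon S).map σ ≫ l = z := by
      apply pullback.hom_ext
      · rw [Category.assoc, Category.assoc, hl₁,
          show (yon S).map σ ≫ qX = (yon S).map qt ≫ qX from hwQ.symm, ← Category.assoc,
          (sqt.map (yon S)).lift_fst, hz]
      · rw [Category.assoc, Category.assoc, hl₂, ← Functor.map_comp, hσν,
          Functor.map_comp, ← Category.assoc, (sqt.map (yon S)).lift_snd, sqR.lift_snd]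
    have : Epi z := inferInstance
    exact epi_of_epi_fac (f := a ≫ (yon S).map σ) (h := z) (by rw [Category.assoc]; exact ha)
  have : IsIso l := isIso_of_mono_of_epi l
  have sqX : IsPullback qX ((yon S).map ν₀) νX p :=
    IsPullback.of_iso_pullback ⟨hqν⟩ (asIso l) hl₁ hl₂
  have hX'' : IsAlgSpace (QuotSh.quot Scheme.fppfPrecoverage σ qt) :=
    isAlgSpace_of_chart (π := qX) (repWith_of_isPullback sqX.flip hp)
      (repWith_of_isPullback sqX.flip hps)
  have := isLocallySurjective_of_etale p hp hps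
  have := isLocallySurjective_of_isPullback sqP.flip
  have sqY := IsPullback.of_hasPullback qP qP
  obtain ⟨hcY⟩ := isColimit_of_isLocallySurjective sqY
  have key : pullback.fst qP qP ≫ f₀ ≫ qX = pullback.snd qP qP ≫ f₀ ≫ qX := by
    let r := sqR.lift (pullback.fst qP qP ≫ π) (pullback.snd qP qP ≫ π) (by
      rw [Category.assoc, Category.assoc, ← sqP.w, pullback.condition_assoc])
    let a := sqPt.lift (pullback.fst qP qP) r (sqR.lift_fst _ _ _).symm
    have ha : a ≫ v = pullback.snd qP qP := by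
      apply sqP.hom_ext
      · rw [Category.assoc, hv₁, sqPt.lift_fst_assoc, pullback.condition]
      · rw [Category.assoc, hv₂, sqPt.lift_snd_assoc, sqR.lift_snd]
    calc _ = (a ≫ qPt) ≫ f₀ ≫ qX := by rw [sqPt.lift_fst]
      _ = a ≫ ft ≫ (yon S).map qt ≫ qX := by simp only [Category.assoc, reassoc_of% hft₁]
      _ = a ≫ ft ≫ (yon S).map σ ≫ qX := by rw [show (yon S).map qt ≫ qX = _ from hwQ]
      _ = (a ≫ v) ≫ f₀ ≫ qX := by simp only [Category.assoc, reassoc_of% hσ₁]
      _ = _ := by rw [ha]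
  obtain ⟨fX, hfX, -⟩ := Cofork.IsColimit.existsUnique hcY (f₀ ≫ qX) key
  have hfX' : qP ≫ fX = f₀ ≫ qX := hfX
  refine ⟨_, νX, fX, qX, hX'', ?_, ?_, sqX, hfX'.symm⟩
  · rw [← cancel_epi qP, reassoc_of% hfX', hqν, reassoc_of% h.fac, sqP.w]
  · exact affWith_isIntegralHom_iff.1 (affWith_of_cover hX hp hps sqX
      (affWith_isIntegralHom_iff.2 hint))

end Charts

/-- The normalization exists, with a stable chart. -/
theorem exists_normalization {X Y : Sp S} (hX : IsAlgSpace X) (hY : IsAlgSpace Y) (f : Y ⟶ X)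
    (hqc : IsQuasiCompactMor f) (hqs : IsQuasiSeparatedMor f) :
    ∃ (X' : Sp S) (ν : X' ⟶ X) (f' : Y ⟶ X') (U : Over S) (p : (yon S).obj U ⟶ X) (P : Sp S)
      (qP : P ⟶ Y) (π : P ⟶ (yon S).obj U) (N : Over S) (q : (yon S).obj N ⟶ X') (ν₀ : N ⟶ U)
      (f₀ : P ⟶ (yon S).obj N),
      IsAlgSpace X' ∧ IsRelNormalization f ν f' ∧ RepWith @Etale p ∧ RepWith @Surjective p ∧
        IsPullback qP π f p ∧ IsPullback q ((yon S).map ν₀) ν p ∧ f₀ ≫ q = qP ≫ f' ∧
          IsStable π ν₀ f₀ := by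
  obtain ⟨U₀, p₀, he₀, hs₀⟩ := hX.atlas
  obtain ⟨U, c, ι, K, he, hs, hK, hcov, hdisj⟩ := exists_atlas_affine_disjoint he₀ hs₀
  have sqP := IsPullback.of_hasPullback f ((yon S).map c ≫ p₀)
  obtain ⟨N, ν₀, f₀, h⟩ := exists_isStable_of_disjoint
    (isAlgSpace_of_isPullback sqP hX.diag hY (IsAlgSpace.yon_obj U))
    (isQuasiCompactMor_of_isPullback sqP hqc)
    (repWith_of_isPullback (isPullback_diagonal_baseChange sqP) hqs) hK hcov hdisj
  obtain ⟨X', ν, f', q, hX', hfac, hν, sqN, hf₀⟩ :=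
    exists_normalization_of_isStable hX he hs sqP h
  exact ⟨X', ν, f', U, _, _, _, _, N, q, ν₀, f₀, hX',
    isRelNormalization_of_isStable hX he hs hfac hν sqP sqN hf₀ h, he, hs, sqP, sqN, hf₀, h⟩

end

end Groth.AlgSp3
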