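import Groth.Agent.AlgSp3.NormAffine
import Groth.Agent.AlgSp2.AffineDescent
import Groth.Agent.AlgSp2.FlatMono
import Groth.Agent.AlgSpBasic.AffineMor
import Groth.Agent.AlgSpBasic.Glue

/-!
# Stable normalizations: gluing along open subschemes
-/

set_option autoImplicit false
set_option backward.isDefEq.respectTransparency.types false
universe u

open CategoryTheory CategoryTheory.Limits AlgebraicGeometry Opposite AlgSp TopologicalSpace

namespace Groth.AlgSp3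

open Groth.AlgSpBasic

noncomputable section

variable {S : Scheme.{u}}

/-- An open subscheme as a scheme over `S`. -/
abbrev resObj {V : Over S} (L : V.left.Opens) : Over S := Over.mk (L.ι ≫ V.hom)

/-- The inclusion of an open subscheme. -/
abbrev resι {V : Over S} (L : V.left.Opens) : resObj L ⟶ V := Over.homMk L.ι rfl

instance {V : Over S} (L : V.left.Opens) : Mono (resι L) :=
  have : Mono (resι L).left := inferInstanceAs (Mono L.ι)
  Over.mono_of_mono_left _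

theorem exists_isPullback_resι {N V : Over S} (ν : N ⟶ V) (L : V.left.Opens) :
    ∃ νL : resObj (ν.left ⁻¹ᵁ L) ⟶ resObj L, IsPullback (resι _) νL ν (resι L) := by
  let νL : resObj (ν.left ⁻¹ᵁ L) ⟶ resObj L := Over.homMk (ν.left ∣_ L) (by
    show ν.left ∣_ L ≫ L.ι ≫ V.hom = (ν.left ⁻¹ᵁ L).ι ≫ N.hom
    rw [morphismRestrict_ι_assoc, Over.w])
  exact ⟨νL, IsPullback.of_map (Over.forget S)
    (Over.OverMorphism.ext (morphismRestrict_ι ν.left L).symm)
    (isPullback_morphismRestrict ν.left L).flip⟩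

theorem exists_resMap {V : Over S} {L M : V.left.Opens} (h : L ≤ M) :
    ∃ j : resObj L ⟶ resObj M, j ≫ resι M = resι L ∧ IsOpenImmersion j.left :=
  ⟨Over.homMk (V.left.homOfLE h) (by
    show V.left.homOfLE h ≫ M.ι ≫ V.hom = L.ι ≫ V.hom
    rw [Scheme.homOfLE_ι_assoc]), Over.OverMorphism.ext (Scheme.homOfLE_ι _ h),
    (inferInstance : IsOpenImmersion (V.left.homOfLE h))⟩

theorem hom_ext_res {T : Over S} {Q : Sp S} {a b : (yon S).obj T ⟶ Q}
    (h : ∀ x : T.left, ∃ L : T.left.Opens, x ∈ L ∧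
      (yon S).map (resι L) ≫ a = (yon S).map (resι L) ≫ b) : a = b := by
  choose L hx hL using h
  exact Groth.AlgSp2.yon_hom_ext_of_openCover (T.left.openCoverOfIsOpenCover L
    (eq_top_iff.2 fun x _ => Opens.mem_iSup.2 ⟨x, hx x⟩)) a b hL

/-- The universal property can be checked on a basis of open subschemes. -/
theorem isNormHom_of_basis {P : Sp S} {U N : Over S} {π : P ⟶ (yon S).obj U} {ν : N ⟶ U}
    {f' : P ⟶ (yon S).obj N} (hfac : f' ≫ (yon S).map ν = π)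
    (φ : U.left.Opens → Prop)
    (hφ : ∀ (x : U.left) (V : U.left.Opens), x ∈ V → ∃ L, φ L ∧ x ∈ L ∧ L ≤ V)
    (h : ∀ L, φ L → ∀ ⦃P' : Sp S⦄ (qP : P' ⟶ P) (π' : P' ⟶ (yon S).obj (resObj L)),
      IsPullback qP π' π ((yon S).map (resι L)) → ∀ ⦃N' : Over S⦄ (qN : N' ⟶ N)
        (ν' : N' ⟶ resObj L), IsPullback qN ν' ν (resι L) →
          ∀ f'' : P' ⟶ (yon S).obj N', f'' ≫ (yon S).map ν' = π' →
            f'' ≫ (yon S).map qN = qP ≫ f' → IsNormHom π' ν' f'') :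
    IsNormHom π ν f' := by
  intro Z hZ ρ g hρ hg
  have data : ∀ L : {L : U.left.Opens // φ L}, ∃ (P' : Sp S) (qP : P' ⟶ P)
      (π' : P' ⟶ (yon S).obj (resObj L.1)), IsPullback qP π' π ((yon S).map (resι L.1)) ∧
      ∃ m : (yon S).obj (resObj (ν.left ⁻¹ᵁ L.1)) ⟶ Z,
        m ≫ ρ = (yon S).map (resι _ ≫ ν) ∧
        (∀ f'' : P' ⟶ (yon S).obj (resObj (ν.left ⁻¹ᵁ L.1)),
          f'' ≫ (yon S).map (resι _) = qP ≫ f' → f'' ≫ m = qP ≫ g) ∧
        ∀ m' : (yon S).obj (resObj (ν.left ⁻¹ᵁ L.1)) ⟶ Z,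
          m' ≫ ρ = (yon S).map (resι _ ≫ ν) →
          (∀ f'' : P' ⟶ (yon S).obj (resObj (ν.left ⁻¹ᵁ L.1)),
            f'' ≫ (yon S).map (resι _) = qP ≫ f' → f'' ≫ m' = qP ≫ g) → m' = m := by
    intro L
    obtain ⟨P', qP, π', sq⟩ : ∃ (P' : Sp S) (qP : P' ⟶ P) (π' : P' ⟶ _),
        IsPullback qP π' π ((yon S).map (resι L.1)) := ⟨_, _, _, IsPullback.of_hasPullback _ _⟩
    obtain ⟨νL, sqN⟩ := exists_isPullback_resι ν L.1
    let fL : P' ⟶ (yon S).obj (resObj (ν.left ⁻¹ᵁ L.1)) :=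
      (sqN.map (yon S)).lift (qP ≫ f') π' (by rw [Category.assoc, hfac, sq.w])
    have hfL : ∀ f'' : P' ⟶ (yon S).obj (resObj (ν.left ⁻¹ᵁ L.1)),
        f'' ≫ (yon S).map (resι _) = qP ≫ f' → f'' = fL := fun f'' e => by
      rw [← cancel_mono ((yon S).map (resι (ν.left ⁻¹ᵁ L.1))), e]
      exact ((sqN.map (yon S)).lift_fst _ _ _).symm
    have sqZ := IsPullback.of_hasPullback ρ ((yon S).map (resι L.1))
    have hm := h L.1 L.2 qP π' sq _ νL sqN fL ((sqN.map (yon S)).lift_snd _ _ _)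
      ((sqN.map (yon S)).lift_fst _ _ _)
      (isAlgSpace_of_isPullback sqZ (IsAlgSpace.yon_obj U).diag hZ (IsAlgSpace.yon_obj _))
      (pullback.snd _ _) (sqZ.lift (qP ≫ g) π' (by rw [Category.assoc, hg, sq.w]))
      (affWith_isIntegralHom_iff.1 (affWith_of_isPullback sqZ (affWith_isIntegralHom_iff.2 hρ)))
      (sqZ.lift_snd _ _ _)
    obtain ⟨m, ⟨h₁, h₂⟩, hu⟩ := hm
    refine ⟨P', qP, π', sq, m ≫ pullback.fst _ _, ?_, fun f'' e => ?_, fun m' e₁ e₂ => ?_⟩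
    · rw [Category.assoc, sqZ.w, ← Category.assoc, h₂, ← Functor.map_comp, sqN.w]
    · rw [hfL f'' e, ← Category.assoc, h₁, sqZ.lift_fst]
    · have := hu (sqZ.lift m' ((yon S).map νL) (by rw [e₁, ← Functor.map_comp, sqN.w]))
        ⟨sqZ.hom_ext ?_ ?_, sqZ.lift_snd _ _ _⟩
      · rw [← this, sqZ.lift_fst]
      · rw [Category.assoc, sqZ.lift_fst, sqZ.lift_fst]
        exact e₂ fL ((sqN.map (yon S)).lift_fst _ _ _)
      · rw [Category.assoc, sqZ.lift_snd, sqZ.lift_snd, (sqN.map (yon S)).lift_snd]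
  choose P' qP π' sq m hmρ hmg hmu using data
  -- restrictions of the local maps
  have hres : ∀ (L M : {L : U.left.Opens // φ L}), L.1 ≤ M.1 →
      ∀ j : resObj (ν.left ⁻¹ᵁ L.1) ⟶ resObj (ν.left ⁻¹ᵁ M.1), j ≫ resι _ = resι _ →
        (yon S).map j ≫ m M = m L := by
    intro L M hle j hj
    refine hmu L _ ?_ fun f'' e => ?_
    · rw [Category.assoc, hmρ, ← Functor.map_comp, ← Category.assoc j, hj]
    · obtain ⟨i, hi, -⟩ := exists_resMap hle
      have hu : (qP L) ≫ π = (π' L ≫ (yon S).map i) ≫ (yon S).map (resι M.1) := by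
        rw [(sq L).w, Category.assoc, ← Functor.map_comp, hi]
      rw [← Category.assoc, show qP L ≫ g = (sq M).lift (qP L) _ hu ≫ qP M ≫ g by
        rw [← Category.assoc, (sq M).lift_fst]]
      obtain ⟨νM, sqN⟩ := exists_isPullback_resι ν M.1
      rw [← hmg M ((sqN.map (yon S)).lift (qP M ≫ f') (π' M)
        (by rw [Category.assoc, hfac, (sq M).w])) ((sqN.map (yon S)).lift_fst _ _ _),
        ← Category.assoc ((sq M).lift _ _ _)]
      congr 1
      rw [← cancel_mono ((yon S).map (resι (ν.left ⁻¹ᵁ M.1))), Category.assoc, Category.assoc,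
        ← Functor.map_comp, hj, e, (sqN.map (yon S)).lift_fst, ← Category.assoc, (sq M).lift_fst]
  -- gluing
  let 𝒰 := N.left.openCoverOfIsOpenCover (fun L : {L : U.left.Opens // φ L} => ν.left ⁻¹ᵁ L.1)
    (eq_top_iff.2 fun x _ => by
      obtain ⟨L, hL, hx, -⟩ := hφ (ν.left x) ⊤ trivial
      exact Opens.mem_iSup.2 ⟨⟨L, hL⟩, hx⟩)
  obtain ⟨μ, hμ⟩ := exists_glue_of_openCover 𝒰 m fun L M T p q e => by
    let a : T ⟶ resObj (ν.left ⁻¹ᵁ L.1) := p
    let b : T ⟶ resObj (ν.left ⁻¹ᵁ M.1) := q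
    have hab : a ≫ resι _ = b ≫ resι _ := Over.OverMorphism.ext e
    show (yon S).map a ≫ m L = (yon S).map b ≫ m M
    refine hom_ext_res fun x => ?_
    let w : T ⟶ U := a ≫ resι _ ≫ ν
    have hxL : w.left x ∈ L.1 := (a.left x).2
    have hxM : w.left x ∈ M.1 := by
      have : w = b ≫ resι _ ≫ ν := by rw [← Category.assoc, ← hab, Category.assoc]
      rw [this]
      exact (b.left x).2
    obtain ⟨L'', hL'', hx, hle⟩ := hφ (w.left x) (L.1 ⊓ M.1) ⟨hxL, hxM⟩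
    refine ⟨w.left ⁻¹ᵁ L'', hx, ?_⟩
    obtain ⟨wL, sqT⟩ := exists_isPullback_resι w L''
    obtain ⟨νL, sqN⟩ := exists_isPullback_resι ν L''
    let v : resObj (w.left ⁻¹ᵁ L'') ⟶ resObj (ν.left ⁻¹ᵁ L'') :=
      sqN.lift (resι _ ≫ a ≫ resι _) wL (by rw [Category.assoc, Category.assoc]; exact sqT.w)
    obtain ⟨jL, hjL, -⟩ := exists_resMap (ν.left.preimage_mono (hle.trans inf_le_left))
    obtain ⟨jM, hjM, -⟩ := exists_resMap (ν.left.preimage_mono (hle.trans inf_le_right))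
    have eL : resι (w.left ⁻¹ᵁ L'') ≫ a = v ≫ jL := by
      rw [← cancel_mono (resι (ν.left ⁻¹ᵁ L.1)), Category.assoc, Category.assoc, hjL, sqN.lift_fst]
    have eM : resι (w.left ⁻¹ᵁ L'') ≫ b = v ≫ jM := by
      rw [← cancel_mono (resι (ν.left ⁻¹ᵁ M.1)), Category.assoc, Category.assoc, hjM, sqN.lift_fst,
        hab]
    rw [← Category.assoc, ← Category.assoc, ← Functor.map_comp, ← Functor.map_comp, eL, eM,
      Functor.map_comp, Functor.map_comp, Category.assoc, Category.assoc,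
      hres ⟨L'', hL''⟩ L (hle.trans inf_le_left) jL hjL,
      hres ⟨L'', hL''⟩ M (hle.trans inf_le_right) jM hjM]
  have hμ' : ∀ L, (yon S).map (resι (ν.left ⁻¹ᵁ L.1)) ≫ μ = m L := hμ
  have hμρ : μ ≫ ρ = (yon S).map ν := hom_ext_res fun x => by
    obtain ⟨L, hL, hx, -⟩ := hφ (ν.left x) ⊤ trivial
    refine ⟨ν.left ⁻¹ᵁ L, hx, ?_⟩
    rw [← Category.assoc, hμ' ⟨L, hL⟩, hmρ, Functor.map_comp]
  have hloc : ∀ (m' : (yon S).obj N ⟶ Z) (L : {L : U.left.Opens // φ L}),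
      f' ≫ m' = g → m' ≫ ρ = (yon S).map ν →
        (yon S).map (resι (ν.left ⁻¹ᵁ L.1)) ≫ m' = m L := fun m' L e₁ e₂ =>
    hmu L _ (by rw [Category.assoc, e₂, Functor.map_comp]) fun f'' e => by
      rw [← Category.assoc, e, Category.assoc, e₁]
  refine ⟨μ, ⟨Groth.AlgSp2.hom_ext_yon fun T x => hom_ext_res fun t => ?_, hμρ⟩,
    fun m' hm' => hom_ext_res fun x => ?_⟩
  · obtain ⟨w, hw⟩ := (yon S).map_surjective (x ≫ π)
    obtain ⟨L, hL, ht, -⟩ := hφ (w.left t) ⊤ trivial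
    refine ⟨w.left ⁻¹ᵁ L, ht, ?_⟩
    obtain ⟨wL, sqT⟩ := exists_isPullback_resι w L
    obtain ⟨νL, sqN⟩ := exists_isPullback_resι ν L
    let Λ : {L : U.left.Opens // φ L} := ⟨L, hL⟩
    let l := (sq Λ).lift ((yon S).map (resι _) ≫ x) ((yon S).map wL)
      (by rw [Category.assoc, ← hw, ← Functor.map_comp, ← Functor.map_comp, sqT.w])
    have hl : l ≫ qP Λ = (yon S).map (resι _) ≫ x := (sq Λ).lift_fst _ _ _
    let fL := (sqN.map (yon S)).lift (qP Λ ≫ f') (π' Λ)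
      (by rw [Category.assoc, hfac, (sq Λ).w])
    have hfL : fL ≫ (yon S).map (resι (ν.left ⁻¹ᵁ L)) = qP Λ ≫ f' :=
      (sqN.map (yon S)).lift_fst _ _ _
    rw [← Category.assoc _ x, ← Category.assoc _ x, ← hl, Category.assoc, Category.assoc,
      ← hmg Λ fL hfL, ← hμ' Λ, ← Category.assoc fL, hfL, Category.assoc]
  · obtain ⟨L, hL, hx, -⟩ := hφ (ν.left x) ⊤ trivial
    exact ⟨ν.left ⁻¹ᵁ L, hx, (hloc m' ⟨L, hL⟩ hm'.1 hm'.2).trans (hμ' ⟨L, hL⟩).symm⟩

namespace IsStable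

variable {P : Sp S} {U N : Over S} {π : P ⟶ (yon S).obj U} {ν : N ⟶ U}
  {f' : P ⟶ (yon S).obj N}

theorem baseChange (h : IsStable π ν f') {V : Over S} (c : V ⟶ U) [Etale c.left] {P' : Sp S}
    {qP : P' ⟶ P} {π' : P' ⟶ (yon S).obj V} (sq : IsPullback qP π' π ((yon S).map c))
    {N' : Over S} {qN : N' ⟶ N} {ν' : N' ⟶ V} (sqN : IsPullback qN ν' ν c)
    {f'' : P' ⟶ (yon S).obj N'} (h₁ : f'' ≫ (yon S).map ν' = π')
    (h₂ : f'' ≫ (yon S).map qN = qP ≫ f') : IsStable π' ν' f'' where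
  fac := h₁
  integral := MorphismProperty.of_isPullback (isPullback_left sqN) h.integral
  univ K hK d hd Q qQ πQ sqQ M qM νM sqM fM e₁ e₂ := by
    have : Etale d.left := hd
    refine h.univ hK (d ≫ c) (inferInstanceAs (Etale (d.left ≫ c.left))) (qQ ≫ qP) πQ ?_
      (qM ≫ qN) νM (sqM.paste_horiz sqN) fM e₁ ?_
    · rw [Functor.map_comp]
      exact sqQ.paste_horiz sq
    · rw [Functor.map_comp, ← Category.assoc fM, e₂, Category.assoc, h₂, Category.assoc]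

theorem isNormHom (h : IsStable π ν f') : IsNormHom π ν f' :=
  isNormHom_of_basis h.fac (fun L => IsAffineOpen L)
    (fun x V hx => by
      obtain ⟨_, ⟨L, hL, rfl⟩, hxL, hLV⟩ :=
        U.left.isBasis_affineOpens.exists_subset_of_mem_open hx V.isOpen
      exact ⟨L, hL, hxL, hLV⟩)
    fun L hL P' qP π' sq N' qN ν' sqN f'' e₁ e₂ =>
      h.univ (show IsAffine L.toScheme from hL) (resι L) (inferInstanceAs (Etale L.ι)) qP π' sq
        qN ν' sqN f'' e₁ e₂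

/-- Maps to spaces integral over any space receiving `U`. -/
theorem existsUnique_hom (h : IsStable π ν f') {B Z : Sp S}
    (hB : IsAlgSpace B) (hZ : IsAlgSpace Z) (e : (yon S).obj U ⟶ B) (ρ : Z ⟶ B)
    (hρ : IsIntegralMor ρ) (g : P ⟶ Z) (hg : g ≫ ρ = π ≫ e) :
    ∃! m : (yon S).obj N ⟶ Z, f' ≫ m = g ∧ m ≫ ρ = (yon S).map ν ≫ e := by
  have sqZ := IsPullback.of_hasPullback ρ e
  obtain ⟨m, ⟨h₁, h₂⟩, hu⟩ := h.isNormHom
    (isAlgSpace_of_isPullback sqZ hB.diag hZ (IsAlgSpace.yon_obj _)) (pullback.snd _ _)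
    (sqZ.lift g π hg)
    (affWith_isIntegralHom_iff.1 (affWith_of_isPullback sqZ (affWith_isIntegralHom_iff.2 hρ)))
    (sqZ.lift_snd _ _ _)
  refine ⟨m ≫ pullback.fst _ _, ⟨?_, ?_⟩, fun m' hm' => ?_⟩
  · rw [← Category.assoc, h₁, sqZ.lift_fst]
  · rw [Category.assoc, sqZ.w, ← Category.assoc, h₂]
  · rw [← hu (sqZ.lift m' ((yon S).map ν) hm'.2) ⟨sqZ.hom_ext ?_ ?_, sqZ.lift_snd _ _ _⟩,
      sqZ.lift_fst]
    · rw [Category.assoc, sqZ.lift_fst, sqZ.lift_fst, hm'.1]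
    · rw [Category.assoc, sqZ.lift_snd, sqZ.lift_snd, h.fac]

end IsStable

/-- Stable normalizations are Zariski local on the base. -/
theorem isStable_of_local {P : Sp S} {U N : Over S} {π : P ⟶ (yon S).obj U} {ν : N ⟶ U}
    {f' : P ⟶ (yon S).obj N} (hfac : f' ≫ (yon S).map ν = π)
    (hint : IsIntegralHom ν.left)
    (h : ∀ x : U.left, ∃ M : U.left.Opens, x ∈ M ∧ ∃ (PM : Sp S) (qM : PM ⟶ P)
      (πM : PM ⟶ (yon S).obj (resObj M)), IsPullback qM πM π ((yon S).map (resι M)) ∧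
      ∃ (NM : Over S) (qN : NM ⟶ N) (νM : NM ⟶ resObj M), IsPullback qN νM ν (resι M) ∧
        ∃ fM : PM ⟶ (yon S).obj NM, fM ≫ (yon S).map qN = qM ≫ f' ∧ IsStable πM νM fM) :
    IsStable π ν f' := by
  refine ⟨hfac, hint, fun K hK c hc P' qP π' sq N' qN ν' sqN f'' e₁ e₂ => ?_⟩
  choose M hxM PM qM πM sqM NM qNM νM sqNM fM hfM hSt using h
  refine isNormHom_of_basis e₁
    (fun L => IsAffineOpen L ∧ ∃ x, L ≤ c.left ⁻¹ᵁ M x) (fun y V hy => ?_) ?_
  · obtain ⟨_, ⟨L, hL, rfl⟩, hyL, hLV⟩ := K.left.isBasis_affineOpens.exists_subset_of_mem_open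
      (show y ∈ V ⊓ c.left ⁻¹ᵁ M (c.left y) from ⟨hy, hxM _⟩) (V ⊓ c.left ⁻¹ᵁ M (c.left y)).isOpen
    exact ⟨L, ⟨hL, c.left y, fun z hz => (hLV hz).2⟩, hyL, fun z hz => (hLV hz).1⟩
  rintro L ⟨hL, x, hle⟩ P₁ q₁ π₁ sq₁ N₁ r₁ ν₁ sqN₁ f₁ d₁ d₂
  obtain ⟨j, hj, hjo⟩ := exists_resMap hle
  obtain ⟨cM, sqc⟩ := exists_isPullback_resι c (M x)
  have hd : (j ≫ cM) ≫ resι (M x) = resι L ≫ c := by
    rw [Category.assoc, ← sqc.w, reassoc_of% hj]
  have hde : Etale (j ≫ cM).left := by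
    have : Etale cM.left := MorphismProperty.of_isPullback (isPullback_left sqc) hc
    exact inferInstanceAs (Etale (j.left ≫ cM.left))
  have w₁ : (q₁ ≫ qP) ≫ π = (π₁ ≫ (yon S).map (j ≫ cM)) ≫ (yon S).map (resι (M x)) := by
    rw [Category.assoc, sq.w, reassoc_of% sq₁.w, Category.assoc, ← Functor.map_comp,
      ← Functor.map_comp, hd]
  let u := (sqM x).lift (q₁ ≫ qP) _ w₁
  have hu : IsPullback u π₁ (πM x) ((yon S).map (j ≫ cM)) :=
    IsPullback.of_right (by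
      rw [(sqM x).lift_fst, ← Functor.map_comp, hd, Functor.map_comp]
      exact sq₁.paste_horiz sq) ((sqM x).lift_snd _ _ _) (sqM x)
  let v := (sqNM x).lift (r₁ ≫ qN) (ν₁ ≫ j ≫ cM) (by
    rw [Category.assoc, sqN.w, ← Category.assoc, sqN₁.w, Category.assoc, Category.assoc _ _
      (resι (M x)), hd])
  have hv : IsPullback v ν₁ (νM x) (j ≫ cM) :=
    IsPullback.of_right (by rw [(sqNM x).lift_fst, hd]; exact sqN₁.paste_horiz sqN)
      ((sqNM x).lift_snd _ _ _) (sqNM x)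
  refine (hSt x).univ (show IsAffine L.toScheme from hL) (j ≫ cM) hde u π₁ hu v ν₁ hv f₁ d₁
    (((sqNM x).map (yon S)).hom_ext ?_ ?_)
  · rw [Category.assoc, ← Functor.map_comp, (sqNM x).lift_fst, Category.assoc, hfM,
      ← Category.assoc u, (sqM x).lift_fst, Functor.map_comp, reassoc_of% d₂, e₂, Category.assoc]
  · rw [Category.assoc, ← Functor.map_comp, (sqNM x).lift_snd, Category.assoc, (hSt x).fac,
      (sqM x).lift_snd, Functor.map_comp, reassoc_of% d₁]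

end

end Groth.AlgSp3
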