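import Groth.Agent.AlgSp3.DimFacts
import Groth.Agent.AlgSpBasic.OpenSub
import Groth.Agent.FibreDim.Equidim
import Groth.Agent.FibreDim.Retrocompact
import Groth.Agent.S9798

/-!
# Properties holding in a neighbourhood of a point
-/

set_option autoImplicit false
set_option backward.isDefEq.respectTransparency.types false
universe u

open CategoryTheory CategoryTheory.Limits AlgebraicGeometry Topology TopologicalSpace Opposite AlgSp
  Groth.AlgSpBasic

namespace Groth.AlgSp3

theorem etMor_nbhd (P : MorphismProperty Scheme.{u}) [EtaleLocal P] :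
    EtMorInvariant.{u} fun U _ h u => ∃ W : U.Opens, u ∈ W ∧ P (W.ι ≫ h) where
  precomp {U' U V} e _ h u := by
    refine propext ⟨?_, ?_⟩
    · rintro ⟨W', hu, hW'⟩
      let O : U.Opens := ⟨e '' (W' : Set U'), e.isOpenMap _ W'.isOpen⟩
      have hr : Set.range (W'.ι ≫ e) ⊆ Set.range O.ι := by
        rintro _ ⟨z, rfl⟩
        rw [Scheme.Opens.range_ι, Scheme.Hom.comp_apply]
        exact ⟨_, z.2, rfl⟩
      let χ : W'.toScheme ⟶ O.toScheme := IsOpenImmersion.lift O.ι (W'.ι ≫ e) hr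
      have hχ : χ ≫ O.ι = W'.ι ≫ e := IsOpenImmersion.lift_fac _ _ _
      have : Etale (χ ≫ O.ι) := by rw [hχ]; infer_instance
      have hχe : Etale χ := Etale.of_comp _ O.ι
      have hχs : Surjective χ := ⟨fun ⟨_, w, hw, rfl⟩ => by
        refine ⟨⟨w, hw⟩, O.ι.isOpenEmbedding.injective ?_⟩
        rw [← Scheme.Hom.comp_apply, hχ]
        rfl⟩
      refine ⟨O, ⟨u, hu, rfl⟩, EtaleLocal.of_comp_surjective χ _ hχe hχs ?_⟩
      rwa [← Category.assoc, hχ, Category.assoc]
    · rintro ⟨W, hu, hW⟩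
      refine ⟨e ⁻¹ᵁ W, hu, ?_⟩
      have := P.comp_mem (e ∣_ W) _ (EtaleLocal.of_etale _ inferInstance) hW
      rwa [← Category.assoc, morphismRestrict_ι, Category.assoc] at this
  postcomp {U V V'} h e _ u := by
    refine propext ⟨?_, ?_⟩
    · rintro ⟨W, hu, hW⟩
      rw [← Category.assoc] at hW
      exact ⟨W, hu, EtaleLocal.of_comp_etale _ e hW⟩
    · rintro ⟨W, hu, hW⟩
      refine ⟨W, hu, ?_⟩
      rw [← Category.assoc]
      exact P.comp_mem _ e hW (EtaleLocal.of_etale _ inferInstance)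

theorem isZariskiLocalAtSource_inf (P A B : MorphismProperty Scheme.{u})
    [IsZariskiLocalAtSource A] [IsZariskiLocalAtSource B]
    (h : ∀ ⦃X Y : Scheme.{u}⦄ (g : X ⟶ Y), P g ↔ A g ∧ B g) : IsZariskiLocalAtSource P := by
  obtain rfl : P = A ⊓ B := by
    ext X Y g
    exact h g
  have : (A ⊓ B).RespectsIso := MorphismProperty.RespectsIso.mk _
    (fun e f hf => ⟨MorphismProperty.RespectsIso.precomp A e.hom f hf.1,
      MorphismProperty.RespectsIso.precomp B e.hom f hf.2⟩)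
    (fun e f hf => ⟨MorphismProperty.RespectsIso.postcomp A e.hom f hf.1,
      MorphismProperty.RespectsIso.postcomp B e.hom f hf.2⟩)
  refine IsZariskiLocalAtSource.mk' (fun {X Y} f U hf => ?_) fun {X Y} f ι U hU hf => ?_
  · exact ⟨IsZariskiLocalAtSource.comp hf.1 U.ι, IsZariskiLocalAtSource.comp hf.2 U.ι⟩
  · exact ⟨(IsZariskiLocalAtSource.iff_of_iSup_eq_top U hU).mpr fun i => (hf i).1,
      (IsZariskiLocalAtSource.iff_of_iSup_eq_top U hU).mpr fun i => (hf i).2⟩

/-- The seven standard properties are Zariski local at the source. -/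
theorem isZariskiLocalAtSource_of_std (P : MorphismProperty Scheme.{u})
    (hP : P = @LocallyOfFiniteType ∨ P = @LocallyOfFinitePresentation ∨ P = @Flat ∨ P = @Smooth ∨
      P = @Etale ∨
      (∀ ⦃A B : Scheme.{u}⦄ (g : A ⟶ B), P g ↔ (LocallyQuasiFinite g ∧ LocallyOfFiniteType g)) ∨
      (∀ ⦃A B : Scheme.{u}⦄ (g : A ⟶ B), P g ↔ (LocallyOfFiniteType g ∧ FormallyUnramified g))) :
    IsZariskiLocalAtSource P := by
  rcases hP with rfl | rfl | rfl | rfl | rfl | h | h
  iterate 5 infer_instance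
  · exact isZariskiLocalAtSource_inf P @LocallyQuasiFinite @LocallyOfFiniteType h
  · exact isZariskiLocalAtSource_inf P @LocallyOfFiniteType @FormallyUnramified h

theorem prop_of_nbhd (P : MorphismProperty Scheme.{u}) [IsZariskiLocalAtSource P] {U V : Scheme.{u}}
    (h : U ⟶ V) (H : ∀ u : U, ∃ W : U.Opens, u ∈ W ∧ P (W.ι ≫ h)) : P h := by
  choose W hu hW using H
  exact (IsZariskiLocalAtSource.iff_of_iSup_eq_top (P := P) W
    (eq_top_iff.2 fun u _ => Opens.mem_iSup.2 ⟨u, hu u⟩)).mpr hW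

variable {S : Scheme.{u}} (P : MorphismProperty Scheme.{u}) [EtaleLocal P]

theorem hasAtMor_nbhd_of_locP {X Y : Sp S} (hX : IsAlgSpace X) (hY : IsAlgSpace Y) {f : X ⟶ Y}
    (hf : LocP P f) (x : AlgSp.Points X) :
    HasAtMor (fun U _ h u => ∃ W : U.Opens, u ∈ W ∧ P (W.ι ≫ h)) f x := by
  obtain ⟨U, V, a, b, h, u, ha, hb, comm, hu⟩ := exists_chart_at hX hY f x
  exact ⟨U, V, a, b, h, u, ha, hb, comm, hu, ⊤, trivial,
    P.comp_mem _ _ (EtaleLocal.of_etale _ inferInstance) (hf a b h ha hb comm)⟩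

theorem isOpen_hasAtMor_nbhd {X Y : Sp S} (hX : IsAlgSpace X) (hY : IsAlgSpace Y) (f : X ⟶ Y) :
    IsOpen {x : AlgSp.Points X |
      HasAtMor (fun U _ h u => ∃ W : U.Opens, u ∈ W ∧ P (W.ι ≫ h)) f x} := by
  obtain ⟨U, V, a, b, h, ha, has, hb, -, comm⟩ := exists_charts hX hY f
  rw [← (isQuotientMap_ofPt ha has).isOpen_preimage]
  refine isOpen_iff_mem_nhds.mpr fun u hu => ?_
  obtain ⟨W, huW, hW⟩ := (hasAtMor_iff_of_chart (etMor_nbhd P) id hX.diag hY.diag ha hb comm u).mp hu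
  exact Filter.mem_of_superset (W.isOpen.mem_nhds huW) fun u' hu' =>
    (hasAtMor_iff_of_chart (etMor_nbhd P) id hX.diag hY.diag ha hb comm u').mpr ⟨W, hu', hW⟩

theorem locP_iff_forall_nbhd [IsZariskiLocalAtSource P] {X Y : Sp S} (hX : IsAlgSpace X)
    (hY : IsAlgSpace Y) {f : X ⟶ Y} :
    LocP P f ↔ ∀ x, HasAtMor (fun U _ h u => ∃ W : U.Opens, u ∈ W ∧ P (W.ι ≫ h)) f x := by
  refine ⟨fun hf x => hasAtMor_nbhd_of_locP P hX hY hf x, fun H => ?_⟩
  obtain ⟨U, V, a, b, h, ha, has, hb, -, comm⟩ := exists_charts hX hY f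
  exact locP_of_chart hX.diag hY.diag ha has hb comm (prop_of_nbhd P h.left fun u =>
    (hasAtMor_iff_of_chart (etMor_nbhd P) id hX.diag hY.diag ha hb comm u).mp (H _))

theorem hasAtMor_comp_openImmersion_iff {X' X Y : Sp S} (hX' : IsAlgSpace X') (hX : IsAlgSpace X)
    (hY : IsAlgSpace Y) {j : X' ⟶ X} (hj : RepWith @IsOpenImmersion j) (f : X ⟶ Y)
    {α : Type*} {inv : ∀ U V : Scheme.{u}, (U ⟶ V) → ↥U → α} (hinv : EtMorInvariant inv) (p : α → Prop)
    (x' : AlgSp.Points X') :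
    HasAtMor (fun U V h u => p (inv U V h u)) (j ≫ f) x' ↔
      HasAtMor (fun U V h u => p (inv U V h u)) f (AlgSp.Points.map j x') := by
  obtain ⟨U, V, a, b, h, u, ha, hb, comm, rfl⟩ := exists_chart_at hX' hY (j ≫ f) x'
  have hje : RepWith @Etale j := repWith_mono (P := @IsOpenImmersion) (Q := @Etale)
    (fun _ _ g (_ : IsOpenImmersion g) => inferInstance) hj
  rw [AlgSp.Points.map_ofPt, hasAtMor_iff_of_chart hinv p hX'.diag hY.diag ha hb comm u,
    hasAtMor_iff_of_chart hinv p hX.diag hY.diag (repWith_comp ha hje) hb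
      ((Category.assoc _ _ _).trans comm) u]

/-- An open subspace on which a neighbourhood property holds everywhere. -/
theorem exists_openSub_locP [IsZariskiLocalAtSource P] {X Y : AlgSp.Space S} (f : X ⟶ Y) :
    ∃ (X' : AlgSp.Space S) (j : X' ⟶ X), RepWith @IsOpenImmersion j.hom ∧ LocP P (j ≫ f).hom ∧
      Set.range (AlgSp.Points.map j.hom) = {x : AlgSp.Points X.obj |
        HasAtMor (fun U _ h u => ∃ W : U.Opens, u ∈ W ∧ P (W.ι ≫ h)) f.hom x} := by
  let W₀ := {x : AlgSp.Points X.obj |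
    HasAtMor (fun U _ h u => ∃ W : U.Opens, u ∈ W ∧ P (W.ι ≫ h)) f.hom x}
  have hW₀ : IsOpen W₀ := isOpen_hasAtMor_nbhd P X.property Y.property f.hom
  let X' : AlgSp.Space S := ⟨openSub X.obj W₀, isAlgSpace_openSub X.property hW₀⟩
  let j : X' ⟶ X := ObjectProperty.homMk (openSubι X.obj W₀)
  refine ⟨X', j, repWith_openSubι hW₀, ?_, range_map_openSubι⟩
  rw [locP_iff_forall_nbhd P X'.property Y.property]
  intro x
  refine (hasAtMor_comp_openImmersion_iff X'.property X.property Y.property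
    (repWith_openSubι hW₀) f.hom (etMor_nbhd P) id x).mpr ?_
  exact (range_map_openSubι).le ⟨x, rfl⟩

end Groth.AlgSp3

namespace Groth.AlgSp3

theorem nbhd_lqf_iff_fibreDimAt {U V : Scheme.{u}} (h : U ⟶ V) [LocallyOfFiniteType h] (u : U) :
    (∃ W : U.Opens, u ∈ W ∧ LocallyQuasiFinite (W.ι ≫ h) ∧ LocallyOfFiniteType (W.ι ≫ h)) ↔
      FlatMor.fibreDimAt h u = 0 := by
  constructor
  · rintro ⟨W, hu, _, -⟩
    exact (FibreDim.fibreDimAt_openImmersion_comp W.ι h ⟨u, hu⟩).symm.trans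
      (FibreDim.fibreDimAt_eq_zero_of_locallyQuasiFinite _ _)
  · intro hd
    suffices h.QuasiFiniteAt u from
      ⟨h.quasiFiniteLocus, this, inferInstance, inferInstance⟩
    rw [Scheme.Hom.quasiFiniteAt_iff_isOpen_singleton_asFiber]
    have : LocallyOfFiniteType (h.fiberToSpecResidueField (h u)) :=
      inferInstanceAs (LocallyOfFiniteType (pullback.snd h (V.fromSpecResidueField (h u))))
    have : IsLocallyNoetherian (h.fiber (h u)) :=
      LocallyOfFiniteType.isLocallyNoetherian (h.fiberToSpecResidueField (h u))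
    exact (Groth.Agent.S9798.result _ _).mp hd

theorem one_le_fibreDimAt {U V : Scheme.{u}} (h : U ⟶ V) [LocallyOfFiniteType h] (u : U)
    (hd : FlatMor.fibreDimAt h u ≠ 0) : 1 ≤ FlatMor.fibreDimAt h u := by
  obtain ⟨n, hn⟩ := FibreDim.fibreDimAt_ne_top h u
  rw [hn] at hd ⊢
  have : 1 ≤ n := Nat.one_le_iff_ne_zero.mpr fun h0 => hd (by rw [h0]; rfl)
  exact_mod_cast this

/-- The locally quasi-finite locus, read through fibre dimensions. -/
theorem hasAtMor_lqf_iff {S : Scheme.{u}} {X Y : Sp S} (hX : IsAlgSpace X) (hY : IsAlgSpace Y)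
    {f : X ⟶ Y} (hf : LocP @LocallyOfFiniteType f) (x : AlgSp.Points X) :
    HasAtMor (fun U _ h u => ∃ W : U.Opens, u ∈ W ∧ LocallyQuasiFinite (W.ι ≫ h) ∧
        LocallyOfFiniteType (W.ι ≫ h)) f x ↔
      HasAtMor (fun _ _ h u => FlatMor.fibreDimAt h u = 0) f x := by
  constructor
  all_goals
    rintro ⟨U, V, a, b, h, u, ha, hb, comm, hu, H⟩
    have : LocallyOfFiniteType h.left := hf a b h ha hb comm
  · exact ⟨U, V, a, b, h, u, ha, hb, comm, hu, (nbhd_lqf_iff_fibreDimAt h.left u).mp H⟩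
  · exact ⟨U, V, a, b, h, u, ha, hb, comm, hu, (nbhd_lqf_iff_fibreDimAt h.left u).mpr H⟩

end Groth.AlgSp3

namespace Groth.AlgSp3

theorem finite_quasiFinite_fibre {U V : Scheme.{u}} (h : U ⟶ V) [LocallyOfFiniteType h]
    [QuasiCompact h] (v : V) : {w : U | h w = v ∧ FlatMor.fibreDimAt h w = 0}.Finite := by
  have : LocallyOfFiniteType (h.fiberToSpecResidueField v) :=
    inferInstanceAs (LocallyOfFiniteType (pullback.snd h (V.fromSpecResidueField v)))
  have : QuasiCompact (h.fiberToSpecResidueField v) :=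
    inferInstanceAs (QuasiCompact (pullback.snd h (V.fromSpecResidueField v)))
  have : IsLocallyNoetherian (h.fiber v) :=
    LocallyOfFiniteType.isLocallyNoetherian (h.fiberToSpecResidueField v)
  have : CompactSpace ↥(h.fiber v) :=
    QuasiCompact.compactSpace_of_compactSpace (h.fiberToSpecResidueField v)
  have : AlgebraicGeometry.IsNoetherian (h.fiber v) := ⟨⟩
  let O : Set ↥(h.fiber v) := {z | IsOpen ({z} : Set ↥(h.fiber v))}
  have hO : O.Finite := by
    have hc : IsCompact O := NoetherianSpace.isCompact O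
    have : DiscreteTopology ↥O := discreteTopology_iff_isOpen_singleton.2 fun z =>
      isOpen_induced_iff.2 ⟨{z.1}, z.2, by ext x; simp [Subtype.ext_iff]⟩
    have : CompactSpace ↥O := isCompact_iff_compactSpace.1 hc
    have : Finite ↥O := finite_of_compact_of_discrete
    exact Set.toFinite O
  refine (hO.image (h.fiberι v)).subset ?_
  rintro w ⟨rfl, hw⟩
  exact ⟨h.asFiber w, (Groth.Agent.S9798.result _ _).mp hw, h.fiberι_asFiber w⟩

end Groth.AlgSp3
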