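import Groth.Agent.AlgSp3.NormRing
import Groth.Agent.AlgSpBasic.Compact
import Groth.Agent.AlgSpBasic.QComp
import Groth.Agent.AlgSpBasic.AffineDescent
import Groth.Agent.AlgSpBasic.Presentation
import Groth.Agent.AlgSpBasic.DiagProps
import Groth.Agent.AlgSp2.AffineRows
import Groth.Prelude.Def_AlgSpMor5

/-!
# The normalization of an affine scheme in an algebraic space
-/

set_option autoImplicit false
set_option backward.isDefEq.respectTransparency.types false
universe u

open CategoryTheory CategoryTheory.Limits AlgebraicGeometry Opposite AlgSp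

namespace Groth.AlgSp3

open Groth.AlgSpBasic

noncomputable section

variable {S : Scheme.{u}} {P : Sp S} {U N : Over S}

/-- `N → U` is initial among integral maps to `U` through which `π` factors. -/
def IsNormHom (π : P ⟶ (yon S).obj U) (ν : N ⟶ U) (f' : P ⟶ (yon S).obj N) : Prop :=
  ∀ ⦃Z : Sp S⦄, IsAlgSpace Z → ∀ (ρ : Z ⟶ (yon S).obj U) (g : P ⟶ Z), IsIntegralMor ρ →
    g ≫ ρ = π → ∃! m : (yon S).obj N ⟶ Z, f' ≫ m = g ∧ m ≫ ρ = (yon S).map ν

/-- A normalization of a scheme in a space which stays one over affine etale schemes over the base. -/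
structure IsStable (π : P ⟶ (yon S).obj U) (ν : N ⟶ U) (f' : P ⟶ (yon S).obj N) : Prop where
  fac : f' ≫ (yon S).map ν = π
  integral : IsIntegralHom ν.left
  univ : ∀ ⦃K : Over S⦄, IsAffine K.left → ∀ (c : K ⟶ U), Etale c.left →
    ∀ ⦃P' : Sp S⦄ (qP : P' ⟶ P) (π' : P' ⟶ (yon S).obj K),
      IsPullback qP π' π ((yon S).map c) → ∀ ⦃N' : Over S⦄ (qN : N' ⟶ N) (ν' : N' ⟶ K),
        IsPullback qN ν' ν c → ∀ f'' : P' ⟶ (yon S).obj N', f'' ≫ (yon S).map ν' = π' →
          f'' ≫ (yon S).map qN = qP ≫ f' → IsNormHom π' ν' f''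

/-- An affine etale covering of a space over an affine scheme, with an affine covering of its kernel pair. -/
structure AffCover (π : P ⟶ (yon S).obj U) where
  W : Over S
  W₃ : Over S
  affW : IsAffine W.left
  affW₃ : IsAffine W₃.left
  w : (yon S).obj W ⟶ P
  etale : RepWith @Etale w
  surj : Sheaf.IsLocallySurjective w
  α : W ⟶ U
  fac : w ≫ π = (yon S).map α
  a : W₃ ⟶ W
  b : W₃ ⟶ W
  eq : (yon S).map a ≫ w = (yon S).map b ≫ w
  locSurj : Sheaf.IsLocallySurjective (pullback.lift ((yon S).map a) ((yon S).map b) eq)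

namespace AffCover

variable {π : P ⟶ (yon S).obj U} (C : AffCover π)

theorem a_comp_α : C.a ≫ C.α = C.b ≫ C.α :=
  (yon S).map_injective (by
    rw [Functor.map_comp, Functor.map_comp, ← C.fac, ← Category.assoc, C.eq, Category.assoc])

/-- Maps out of `P` are maps out of `W` equalised on `W₃`. -/
theorem existsUnique_desc {Q : Sp S} (g : (yon S).obj C.W ⟶ Q)
    (h : (yon S).map C.a ≫ g = (yon S).map C.b ≫ g) : ∃! m : P ⟶ Q, C.w ≫ m = g := by
  have := C.surj
  have := C.locSurj
  obtain ⟨hc⟩ := isColimit_of_isLocallySurjective (IsPullback.of_hasPullback C.w C.w)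
  have h' : pullback.fst C.w C.w ≫ g = pullback.snd C.w C.w ≫ g := by
    rw [← cancel_epi (pullback.lift ((yon S).map C.a) ((yon S).map C.b) C.eq),
      pullback.lift_fst_assoc, pullback.lift_snd_assoc, h]
  exact Cofork.IsColimit.existsUnique hc g h'

theorem hom_ext {Q : Sp S} {m m' : P ⟶ Q} (h : C.w ≫ m = C.w ≫ m') : m = m' :=
  (C.existsUnique_desc (C.w ≫ m') (by rw [← Category.assoc, C.eq, Category.assoc])).unique h rfl

/-- Base change of the covering data. -/
theorem exists_baseChange [IsAffine U.left] {K : Over S} [IsAffine K.left] (c : K ⟶ U)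
    {P' : Sp S} {qP : P' ⟶ P} {π' : P' ⟶ (yon S).obj K}
    (sq : IsPullback qP π' π ((yon S).map c)) :
    ∃ (C' : AffCover π') (g : C'.W ⟶ C.W) (g₃ : C'.W₃ ⟶ C.W₃),
      IsPullback g C'.α C.α c ∧ IsPullback g₃ (C'.a ≫ C'.α) (C.a ≫ C.α) c ∧
        C'.a ≫ g = g₃ ≫ C.a ∧ C'.b ≫ g = g₃ ≫ C.b ∧ C'.w ≫ qP = (yon S).map g ≫ C.w := by
  have := C.affW
  have := C.affW₃
  obtain ⟨W', g, α', hW⟩ : ∃ (W' : Over S) (g : W' ⟶ C.W) (α' : W' ⟶ K),
      IsPullback g α' C.α c := ⟨_, _, _, IsPullback.of_hasPullback _ _⟩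
  obtain ⟨W₃', g₃, α₃, h₃⟩ : ∃ (W₃' : Over S) (g₃ : W₃' ⟶ C.W₃) (α₃ : W₃' ⟶ K),
      IsPullback g₃ α₃ (C.a ≫ C.α) c := ⟨_, _, _, IsPullback.of_hasPullback _ _⟩
  have hm : IsPullback ((yon S).map g) ((yon S).map α') (C.w ≫ π) ((yon S).map c) := by
    rw [C.fac]; exact hW.map (yon S)
  let w' : (yon S).obj W' ⟶ P' := sq.lift ((yon S).map g ≫ C.w) ((yon S).map α') (by
    rw [Category.assoc, hm.w])
  have hw : IsPullback ((yon S).map g) w' C.w qP :=
    IsPullback.of_bot (by rw [sq.lift_snd]; exact hm) (sq.lift_fst _ _ _).symm sq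
  let a' : W₃' ⟶ W' := hW.lift (g₃ ≫ C.a) α₃ (by rw [Category.assoc]; exact h₃.w)
  let b' : W₃' ⟶ W' := hW.lift (g₃ ≫ C.b) α₃ (by rw [Category.assoc, ← C.a_comp_α]; exact h₃.w)
  have heq : (yon S).map a' ≫ w' = (yon S).map b' ≫ w' := by
    apply sq.hom_ext
    · rw [Category.assoc, Category.assoc, sq.lift_fst, ← Category.assoc, ← Category.assoc,
        ← Functor.map_comp, ← Functor.map_comp, hW.lift_fst, hW.lift_fst, Functor.map_comp,
        Functor.map_comp, Category.assoc, Category.assoc, C.eq]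
    · rw [Category.assoc, Category.assoc, sq.lift_snd, ← Functor.map_comp, ← Functor.map_comp,
        hW.lift_snd, hW.lift_snd]
  -- the kernel pair of `w'` is the base change of the one of `w`
  let E := IsPullback.of_hasPullback C.w C.w
  let E' := IsPullback.of_hasPullback w' w'
  have he₀ : IsPullback (pullback.snd w' w' ≫ (yon S).map g) (pullback.fst w' w') C.w
      (w' ≫ qP) := E'.flip.paste_horiz hw
  let k : pullback w' w' ⟶ pullback C.w C.w := pullback.lift
    (pullback.fst w' w' ≫ (yon S).map g) (pullback.snd w' w' ≫ (yon S).map g) (by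
      rw [Category.assoc, Category.assoc, hw.w, pullback.condition_assoc])
  have he₁ : IsPullback k (pullback.fst w' w') (pullback.fst C.w C.w) ((yon S).map g) :=
    IsPullback.of_right (by rw [pullback.lift_snd, hw.w]; exact he₀) (pullback.lift_fst _ _ _)
      E.flip
  have he : IsPullback k (pullback.fst w' w' ≫ (yon S).map α')
      (pullback.fst C.w C.w ≫ (yon S).map C.α) ((yon S).map c) :=
    he₁.paste_vert (hW.map (yon S))
  have hl : IsPullback ((yon S).map g₃) (pullback.lift ((yon S).map a') ((yon S).map b') heq)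
      (pullback.lift ((yon S).map C.a) ((yon S).map C.b) C.eq) k := by
    refine IsPullback.of_bot ?_ ?_ he
    · rw [pullback.lift_fst_assoc, pullback.lift_fst_assoc, ← Functor.map_comp, hW.lift_snd,
        ← Functor.map_comp]
      exact h₃.map (yon S)
    · apply pullback.hom_ext
      · rw [Category.assoc, pullback.lift_fst, Category.assoc, pullback.lift_fst,
          pullback.lift_fst_assoc, ← Functor.map_comp, ← Functor.map_comp, hW.lift_fst]
      · rw [Category.assoc, pullback.lift_snd, Category.assoc, pullback.lift_snd,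
          pullback.lift_snd_assoc, ← Functor.map_comp, ← Functor.map_comp, hW.lift_fst]
  have : IsAffine W'.left := .of_isPullback (isPullback_left hW)
  have : IsAffine W₃'.left := .of_isPullback (isPullback_left h₃)
  have := C.surj
  have := C.locSurj
  let C' : AffCover π' :=
    { W := W'
      W₃ := W₃'
      affW := inferInstance
      affW₃ := inferInstance
      w := w'
      etale := repWith_of_isPullback hw C.etale
      surj := isLocallySurjective_of_isPullback hw
      α := α'
      fac := sq.lift_snd _ _ _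
      a := a'
      b := b'
      eq := heq
      locSurj := isLocallySurjective_of_isPullback hl }
  exact ⟨C', g, g₃, hW, (hW.lift_snd _ _ _).symm ▸ h₃, hW.lift_fst _ _ _, hW.lift_fst _ _ _,
    sq.lift_fst _ _ _⟩

end AffCover

/-- A quasi-compact quasi-separated space over an affine scheme has affine covering data. -/
theorem exists_affCover [IsAffine U.left] (hP : IsAlgSpace P) {π : P ⟶ (yon S).obj U}
    (hqc : IsQuasiCompactMor π) (hqs : IsQuasiSeparatedMor π) : Nonempty (AffCover π) := by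
  have hc : IsQuasiCompactSp P := hqc (IsAlgSpace.yon_obj U)
    ((isQuasiCompactSp_yon_iff _).2 (inferInstance : CompactSpace U.left)) (𝟙 _) (𝟙 _) π
    (IsPullback.of_id_fst)
  obtain ⟨W, w, hW, he, hs⟩ := exists_affine_chart hP hc
  have := isLocallySurjective_of_etale w he hs
  obtain ⟨α, hα⟩ := (yon S).map_surjective (w ≫ π)
  obtain ⟨R, t, s, sqR⟩ := exists_pullback_of_diag hP.diag w w
  obtain ⟨Q, q₁, q₂, hQ⟩ : ∃ (Q : Over S) (q₁ : Q ⟶ W) (q₂ : Q ⟶ W), IsPullback q₁ q₂ α α :=
    ⟨_, _, _, IsPullback.of_hasPullback _ _⟩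
  have sqQ : IsPullback ((yon S).map q₁) ((yon S).map q₂) (w ≫ π) (w ≫ π) := by
    rw [← hα]; exact hQ.map (yon S)
  have hd : RepWith @QuasiCompact (pullback.mapDesc w w π) := repWith_mapDesc w w π hqs
  obtain ⟨l, hl⟩ := (yon S).map_surjective
    (sqR.isoPullback.hom ≫ pullback.mapDesc w w π ≫ sqQ.isoPullback.inv)
  have hlq : QuasiCompact l.left := by
    rw [← repWith_yon_map_iff (@QuasiCompact) l, hl]
    exact repWith_comp (repWith_isIso _) (repWith_comp hd (repWith_isIso _))
  have : IsAffine Q.left := .of_isPullback (isPullback_left hQ)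
  have : CompactSpace R.left := QuasiCompact.compactSpace_of_compactSpace l.left
  obtain ⟨Y, φ, hφs, hφe, hY⟩ :=
    R.left.exists_hom_isAffine_of_isZariskiLocalAtSource @Etale
  let k : Over.mk (φ ≫ R.hom) ⟶ R := Over.homMk φ
  have hk : Sheaf.IsLocallySurjective ((yon S).map k) := isLocallySurjective_of_etale _
    ((repWith_yon_map_iff _ k).2 hφe) ((repWith_yon_map_iff _ k).2 hφs)
  have e : pullback.lift ((yon S).map (k ≫ t)) ((yon S).map (k ≫ s)) (by
      rw [Functor.map_comp, Functor.map_comp, Category.assoc, Category.assoc, sqR.w]) =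
      (yon S).map k ≫ sqR.isoPullback.hom := by
    apply pullback.hom_ext
    · rw [pullback.lift_fst, Category.assoc, IsPullback.isoPullback_hom_fst, Functor.map_comp]
    · rw [pullback.lift_snd, Category.assoc, IsPullback.isoPullback_hom_snd, Functor.map_comp]
  refine ⟨⟨W, _, hW, hY, w, he, inferInstance, α, hα.symm, k ≫ t, k ≫ s,
    by rw [Functor.map_comp, Functor.map_comp, Category.assoc, Category.assoc, sqR.w], ?_⟩⟩
  rw [e]
  infer_instance

theorem isIntegral_appTop {X Y : Scheme.{u}} (f : X ⟶ Y) [IsAffine Y] (h : IsIntegralHom f) :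
    f.appTop.hom.IsIntegral :=
  ((HasAffineProperty.iff_of_isAffine (P := @IsIntegralHom) (f := f)).1 h).2

theorem exists_hom_of_appTop {X Y : Scheme.{u}} [IsAffine X] [IsAffine Y]
    (φ : Γ(Y, ⊤) ⟶ Γ(X, ⊤)) : ∃ f : X ⟶ Y, f.appTop = φ := by
  refine ⟨X.isoSpec.hom ≫ Spec.map φ ≫ Y.isoSpec.inv, Spec.map_injective ?_⟩
  rw [← cancel_epi X.isoSpec.hom, Scheme.isoSpec_hom_naturality]
  simp

theorem exists_spec_over [IsAffine U.left] {C : CommRingCat.{u}} (φ : Γ(U.left, ⊤) ⟶ C) :
    ∃ (N : Over S) (ν : N ⟶ U) (e : Γ(N.left, ⊤) ≅ C), IsAffine N.left ∧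
      ν.left.appTop ≫ e.hom = φ ∧ (φ.hom.IsIntegral → IsIntegralHom ν.left) := by
  refine ⟨Over.mk ((Spec.map φ ≫ U.left.isoSpec.inv) ≫ U.hom), Over.homMk _ rfl,
    Scheme.ΓSpecIso C, inferInstanceAs (IsAffine (Spec C)), Spec.map_injective ?_, fun h => ?_⟩
  · have h := Scheme.isoSpec_hom_naturality (Spec.map φ ≫ U.left.isoSpec.inv)
    rw [Scheme.isoSpec_Spec_hom] at h
    refine (Spec.map_comp _ _).trans (h.trans ?_)
    simp
  · have := IsIntegralHom.SpecMap_iff.2 h
    exact inferInstanceAs (IsIntegralHom (Spec.map φ ≫ U.left.isoSpec.inv))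

/-- The ring theoretic description of the normalization over an affine base. -/
structure IsNormData {π : P ⟶ (yon S).obj U} (C : AffCover π) (ν : N ⟶ U) (n : C.W ⟶ N) : Prop where
  affine : IsAffine N.left
  integral : IsIntegralHom ν.left
  fac : n ≫ ν = C.α
  eq : C.a ≫ n = C.b ≫ n
  inj : Function.Injective n.left.appTop
  max : ∀ x, C.α.left.appTop.hom.IsIntegralElem x → C.a.left.appTop x = C.b.left.appTop x →
    x ∈ n.left.appTop.hom.range

theorem exists_isNormData [IsAffine U.left] {π : P ⟶ (yon S).obj U} (C : AffCover π) :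
    ∃ (N : Over S) (ν : N ⟶ U) (n : C.W ⟶ N), IsNormData C ν n := by
  have := C.affW
  have := C.affW₃
  let α := C.α.left.appTop
  let a := C.a.left.appTop
  let b := C.b.left.appTop
  have hab : α ≫ a = α ≫ b := by
    simp only [α, a, b, ← Scheme.Hom.comp_appTop, ← Over.comp_left, C.a_comp_α]
  let D : Subring Γ(C.W.left, ⊤) :=
    { carrier := {x | α.hom.IsIntegralElem x ∧ a x = b x}
      mul_mem' := fun hx hy => ⟨hx.1.mul _ hy.1, by rw [map_mul, map_mul, hx.2, hy.2]⟩
      one_mem' := ⟨α.hom.isIntegralElem_one, by rw [map_one, map_one]⟩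
      add_mem' := fun hx hy => ⟨hx.1.add _ hy.1, by rw [map_add, map_add, hx.2, hy.2]⟩
      zero_mem' := ⟨α.hom.isIntegralElem_zero, by rw [map_zero, map_zero]⟩
      neg_mem' := fun hx => ⟨hx.1.neg _, by rw [map_neg, map_neg, hx.2]⟩ }
  let φ : Γ(U.left, ⊤) ⟶ CommRingCat.of D := CommRingCat.ofHom <|
    α.hom.codRestrict D fun z => ⟨α.hom.isIntegralElem_map, ConcreteCategory.congr_hom hab z⟩
  have hφ : φ.hom.IsIntegral := by
    intro z
    obtain ⟨p, hp, hpz⟩ := z.2.1
    refine ⟨p, hp, Subtype.ext ?_⟩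
    rw [ZeroMemClass.coe_zero, ← hpz, ← D.subtype_apply, Polynomial.hom_eval₂]
    rfl
  obtain ⟨N, ν, e, hN, hν, hνi⟩ := exists_spec_over (S := S) φ
  obtain ⟨n₀, hn₀⟩ := exists_hom_of_appTop (X := C.W.left) (Y := N.left)
    (e.hom ≫ CommRingCat.ofHom D.subtype)
  have hfac : n₀ ≫ ν.left = C.α.left := ext_of_isAffine (by
    rw [Scheme.Hom.comp_appTop, hn₀, reassoc_of% hν]
    rfl)
  let n : C.W ⟶ N := Over.homMk n₀ (by rw [← Over.w ν, ← Category.assoc, hfac, Over.w])
  refine ⟨N, ν, n, hN, hνi hφ, Over.OverMorphism.ext hfac, Over.OverMorphism.ext (ext_of_isAffine ?_),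
    ?_, fun x hx hx' => ?_⟩
  · rw [Over.comp_left, Over.comp_left, Scheme.Hom.comp_appTop, Scheme.Hom.comp_appTop]
    show n₀.appTop ≫ a = n₀.appTop ≫ b
    rw [hn₀]
    ext z
    exact (e.hom z).2.2
  · show Function.Injective n₀.appTop
    rw [hn₀]
    exact Subtype.val_injective.comp (ConcreteCategory.bijective_of_isIso e.hom).1
  · obtain ⟨y, hy⟩ := (ConcreteCategory.bijective_of_isIso e.hom).2 (⟨x, hx, hx'⟩ : D)
    refine ⟨y, ?_⟩
    show n₀.appTop y = x
    rw [hn₀]
    exact congrArg Subtype.val hy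

/-- The criterion for a normalization over an affine base. -/
theorem isNormHom_of_isNormData [IsAffine U.left] {π : P ⟶ (yon S).obj U} {C : AffCover π}
    {ν : N ⟶ U} {n : C.W ⟶ N} (h : IsNormData C ν n) {f' : P ⟶ (yon S).obj N}
    (hf : C.w ≫ f' = (yon S).map n) : IsNormHom π ν f' := by
  intro Z hZ ρ g hρ hg
  have := h.affine
  have := C.affW
  have := C.affW₃
  obtain ⟨Z₀, z₀, fst, sq, hZ₀, hz₀⟩ := hρ (inferInstance : IsAffine U.left) (𝟙 _)
  have : IsIso fst := sq.isIso_fst_of_isIso
  have hfst : fst ≫ ρ = (yon S).map z₀ := sq.w.trans (Category.comp_id _)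
  obtain ⟨k, hk⟩ := (yon S).map_surjective (C.w ≫ g ≫ inv fst)
  have hkz : k ≫ z₀ = C.α := (yon S).map_injective (by
    rw [Functor.map_comp, hk, ← hfst, Category.assoc, Category.assoc, IsIso.inv_hom_id_assoc, hg,
      C.fac])
  have hkeq : C.a ≫ k = C.b ≫ k := (yon S).map_injective (by
    rw [Functor.map_comp, Functor.map_comp, hk, ← Category.assoc, C.eq, Category.assoc])
  have hr : ∀ z, k.left.appTop z ∈ n.left.appTop.hom.range := fun z => by
    refine h.max _ ?_ ?_
    · obtain ⟨p, hp, hpz⟩ := isIntegral_appTop z₀.left hz₀ z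
      refine ⟨p, hp, ?_⟩
      rw [show C.α.left.appTop = z₀.left.appTop ≫ k.left.appTop by
          rw [← Scheme.Hom.comp_appTop, ← Over.comp_left, hkz],
        CommRingCat.hom_comp, ← Polynomial.hom_eval₂, hpz, map_zero]
    · have := congrArg (fun m : C.W₃ ⟶ Z₀ => m.left.appTop) hkeq
      simp only [Over.comp_left, Scheme.Hom.comp_appTop] at this
      exact ConcreteCategory.congr_hom this z
  let eqv := RingEquiv.ofBijective n.left.appTop.hom.rangeRestrict
    ⟨fun x y e => h.inj (congrArg Subtype.val e), n.left.appTop.hom.rangeRestrict_surjective⟩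
  let ψ : Γ(Z₀.left, ⊤) ⟶ Γ(N.left, ⊤) :=
    CommRingCat.ofHom (eqv.symm.toRingHom.comp (k.left.appTop.hom.codRestrict _ hr))
  have hψ : ψ ≫ n.left.appTop = k.left.appTop := by
    ext z
    exact congrArg Subtype.val (eqv.apply_symm_apply ⟨_, hr z⟩)
  obtain ⟨m₀, hm₀⟩ := exists_hom_of_appTop ψ
  have hnm : n.left ≫ m₀ = k.left :=
    ext_of_isAffine (by rw [Scheme.Hom.comp_appTop, hm₀, hψ])
  have hmz : m₀ ≫ z₀.left = ν.left := ext_of_isAffine (by
    ext z
    apply h.inj
    rw [← CommRingCat.comp_apply, ← CommRingCat.comp_apply, ← Scheme.Hom.comp_appTop,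
      ← Scheme.Hom.comp_appTop, ← Category.assoc, hnm, ← Over.comp_left, hkz, ← Over.comp_left,
      h.fac])
  let m : N ⟶ Z₀ := Over.homMk m₀ (by rw [← Over.w z₀, ← Category.assoc, hmz, Over.w])
  refine ⟨(yon S).map m ≫ fst, ⟨C.hom_ext ?_, ?_⟩, ?_⟩
  · rw [← Category.assoc C.w f', hf, ← Category.assoc, ← Functor.map_comp,
      show n ≫ m = k from Over.OverMorphism.ext hnm, hk, Category.assoc, Category.assoc,
      IsIso.inv_hom_id, Category.comp_id]
  · rw [Category.assoc, hfst, ← Functor.map_comp,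
      show m ≫ z₀ = ν from Over.OverMorphism.ext hmz]
  · rintro m' ⟨h₁, -⟩
    obtain ⟨m₁, hm₁⟩ := (yon S).map_surjective (m' ≫ inv fst)
    have e : n ≫ m₁ = k := (yon S).map_injective (by
      rw [Functor.map_comp, hm₁, hk, ← hf, Category.assoc, ← Category.assoc f', h₁])
    have : m₁ = m := Over.OverMorphism.ext (ext_of_isAffine (by
      ext z
      apply h.inj
      rw [← CommRingCat.comp_apply, ← CommRingCat.comp_apply, ← Scheme.Hom.comp_appTop,
        ← Scheme.Hom.comp_appTop, ← Over.comp_left, ← Over.comp_left, e,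
        show n ≫ m = k from Over.OverMorphism.ext hnm]))
    rw [← this, hm₁, Category.assoc, IsIso.inv_hom_id, Category.comp_id]

/-- The ring theoretic description is stable under etale base change between affines. -/
theorem isNormHom_baseChange [IsAffine U.left] {π : P ⟶ (yon S).obj U} {C : AffCover π}
    {ν : N ⟶ U} {n : C.W ⟶ N} (h : IsNormData C ν n) {f' : P ⟶ (yon S).obj N}
    (hf : C.w ≫ f' = (yon S).map n) {K : Over S} [IsAffine K.left] (c : K ⟶ U) [Etale c.left]
    {P' : Sp S} {qP : P' ⟶ P} {π' : P' ⟶ (yon S).obj K}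
    (sq : IsPullback qP π' π ((yon S).map c)) {N' : Over S} {qN : N' ⟶ N} {ν' : N' ⟶ K}
    (sqN : IsPullback qN ν' ν c) {f'' : P' ⟶ (yon S).obj N'}
    (hf₁ : f'' ≫ (yon S).map ν' = π') (hf₂ : f'' ≫ (yon S).map qN = qP ≫ f') :
    IsNormHom π' ν' f'' := by
  have := h.affine
  have := C.affW
  have := C.affW₃
  obtain ⟨C', g, g₃, hW, h₃, hag, hbg, hwq⟩ := C.exists_baseChange c sq
  have := C'.affW
  have := C'.affW₃
  have : IsAffine N'.left := .of_isPullback (isPullback_left sqN)
  let n' : C'.W ⟶ N' := sqN.lift (g ≫ n) C'.α (by rw [Category.assoc, h.fac, hW.w])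
  have hfn : C'.w ≫ f'' = (yon S).map n' := by
    apply (sqN.map (yon S)).hom_ext
    · rw [Category.assoc, hf₂, ← Functor.map_comp, sqN.lift_fst, ← Category.assoc, hwq,
        Category.assoc, hf, Functor.map_comp]
    · rw [Category.assoc, hf₁, C'.fac, ← Functor.map_comp, sqN.lift_snd]
  have hint : IsIntegralHom ν'.left := MorphismProperty.of_isPullback (isPullback_left sqN) h.integral
  have key := pushout_integralClosure_equalizer
    (HasRingHomProperty.appTop (P := @Smooth) (f := c.left) inferInstance)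
    (isPushout_appTop_of_isPullback (isPullback_left hW).flip)
    (isPushout_appTop_of_isPullback (isPullback_left h₃).flip)
    (isPushout_appTop_of_isPullback (isPullback_left sqN).flip)
    (α := C.a.left.appTop) (β := C.b.left.appTop)
    (by rw [← Scheme.Hom.comp_appTop, ← Over.comp_left])
    (by rw [← Scheme.Hom.comp_appTop, ← Over.comp_left, C.a_comp_α])
    (α' := C'.a.left.appTop) (β' := C'.b.left.appTop)
    (by simp only [← Scheme.Hom.comp_appTop, ← Over.comp_left, hag])
    (by simp only [← Scheme.Hom.comp_appTop, ← Over.comp_left])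
    (by simp only [← Scheme.Hom.comp_appTop, ← Over.comp_left, hbg])
    (by simp only [← Scheme.Hom.comp_appTop, ← Over.comp_left, C'.a_comp_α])
    (n := n.left.appTop)
    (by rw [← Scheme.Hom.comp_appTop, ← Over.comp_left, h.fac]) h.inj
    (by simp only [← Scheme.Hom.comp_appTop, ← Over.comp_left, h.eq])
    (isIntegral_appTop ν.left h.integral) h.max
    (n' := n'.left.appTop)
    (by rw [← Scheme.Hom.comp_appTop, ← Scheme.Hom.comp_appTop, ← Over.comp_left, ← Over.comp_left,
      sqN.lift_fst])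
    (by rw [← Scheme.Hom.comp_appTop, ← Over.comp_left, sqN.lift_snd])
  refine isNormHom_of_isNormData
    ⟨inferInstance, hint, sqN.lift_snd _ _ _, sqN.hom_ext ?_ ?_, key.1, key.2⟩ hfn
  · simp only [Category.assoc, IsPullback.lift_fst]
    rw [← Category.assoc, ← Category.assoc, hag, hbg, Category.assoc, Category.assoc, h.eq]
  · simp only [Category.assoc, IsPullback.lift_snd, C'.a_comp_α]

/-- A quasi-compact quasi-separated space over an affine scheme has a stable normalization. -/
theorem exists_isStable_of_isAffine [IsAffine U.left] (hP : IsAlgSpace P)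
    {π : P ⟶ (yon S).obj U} (hqc : IsQuasiCompactMor π) (hqs : IsQuasiSeparatedMor π) :
    ∃ (N : Over S) (ν : N ⟶ U) (f' : P ⟶ (yon S).obj N), IsStable π ν f' := by
  obtain ⟨C⟩ := exists_affCover hP hqc hqs
  obtain ⟨N, ν, n, h⟩ := exists_isNormData C
  obtain ⟨f', hf, -⟩ := C.existsUnique_desc ((yon S).map n)
    (by rw [← Functor.map_comp, ← Functor.map_comp, h.eq])
  refine ⟨N, ν, f', C.hom_ext ?_, h.integral, fun K hK c hc P' qP π' sq N' qN ν' sqN f'' h₁ h₂ =>
    isNormHom_baseChange h hf c sq sqN h₁ h₂⟩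
  rw [← Category.assoc, hf, ← Functor.map_comp, h.fac, C.fac]

end

end Groth.AlgSp3
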