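import Mathlib.AlgebraicGeometry.Morphisms.Flat
import Mathlib.AlgebraicGeometry.Morphisms.SchemeTheoreticallyDominant
import Mathlib.AlgebraicGeometry.IdealSheaf.Functorial
import Groth.Agent.Flatmor4.ImageDom
/-!
# Kernels of morphisms and flat surjections
-/

set_option autoImplicit false
set_option backward.isDefEq.respectTransparency.types false
universe u

open CategoryTheory CategoryTheory.Limits AlgebraicGeometry

namespace Groth.AlgSp3

theorem ker_eq_bot_of_flat_of_surjective {X Y : Scheme.{u}} (g : X ⟶ Y) [Flat g] [Surjective g] :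
    g.ker = ⊥ := by
  ext U x
  simp only [Scheme.IdealSheafData.ideal_bot, Pi.bot_apply, Ideal.mem_bot]
  refine ⟨fun hx => ?_, fun hx => hx ▸ zero_mem _⟩
  have hx' : g.app U x = 0 := g.ideal_ker_le U hx
  refine Y.IsSheaf.section_ext fun y hy => ?_
  obtain ⟨z, rfl⟩ := g.surjective y
  have hinj : Function.Injective (g.stalkMap z) := by
    algebraize [(g.stalkMap z).hom]
    have : Module.FaithfullyFlat (Y.presheaf.stalk (g z)) (X.presheaf.stalk z) :=
      @Module.FaithfullyFlat.of_flat_of_isLocalHom _ _ _ _ _ _ _ (Flat.stalkMap g z)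
        (g.toLRSHom.prop z)
    exact ‹RingHom.FaithfullyFlat _›.injective
  have h0 : Y.presheaf.germ U.1 (g z) hy x = 0 := by
    apply hinj
    rw [map_zero, Scheme.Hom.germ_stalkMap_apply, hx', map_zero]
  obtain ⟨W, hyW, iU, iU', e⟩ := Y.presheaf.germ_eq (g z) hy hy x 0 (by rw [h0, map_zero])
  exact ⟨W, iU.le, hyW, e⟩

theorem ker_flat_surjective_comp {W X Y : Scheme.{u}} (q : W ⟶ X) [Flat q] [Surjective q]
    (g : X ⟶ Y) : (q ≫ g).ker = g.ker := by
  rw [Scheme.Hom.ker_comp, ker_eq_bot_of_flat_of_surjective, Scheme.IdealSheafData.map_bot]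

/-- Forming the kernel of a quasi-compact morphism commutes with flat base change. -/
theorem ker_of_isPullback_of_flat {W' W U' U : Scheme.{u}} {g' : W' ⟶ W} {a' : W' ⟶ U'}
    {a : W ⟶ U} {g : U' ⟶ U} (sq : IsPullback g' a' a g) [QuasiCompact a] [Flat g] :
    a'.ker = a.ker.comap g := by
  have : IsSchemeTheoreticallyDominant a.toImage :=
    Groth.Flatmor4.isSchemeTheoreticallyDominant_toImage a
  let sqZ := IsPullback.of_hasPullback g a.imageι
  let t : W' ⟶ pullback g a.imageι := pullback.lift a' (g' ≫ a.toImage) (by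
    rw [Category.assoc, a.toImage_imageι, sq.w])
  have hsq : IsPullback g' t a.toImage (pullback.snd g a.imageι) := by
    refine IsPullback.of_bot ?_ (pullback.lift_snd _ _ _).symm sqZ.flip
    rwa [pullback.lift_fst, a.toImage_imageι]
  have := IsSchemeTheoreticallyDominant.of_isPullback hsq
  have e : a' = t ≫ pullback.fst g a.imageι := (pullback.lift_fst _ _ _).symm
  rw [e, Scheme.Hom.ker_comp, t.ker_eq_bot, Scheme.IdealSheafData.map_bot,
    Scheme.IdealSheafData.ker_fst_of_isClosedImmersion]
  exact congrArg (Scheme.IdealSheafData.comap · g) (Scheme.IdealSheafData.ker_subschemeι _)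

end Groth.AlgSp3
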