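import Groth.Agent.AlgSp3.SubSheaf
import Groth.Agent.AlgSp3.KerFlat
/-!
# Closed subspaces and invariant ideals on a chart
-/

set_option autoImplicit false
set_option backward.isDefEq.respectTransparency.types false
universe u

open CategoryTheory CategoryTheory.Limits AlgebraicGeometry Opposite AlgSp Groth.AlgSpBasic

namespace Groth.AlgSp3

noncomputable section

theorem exists_lift_iff_comap_eq_bot {V U A : Scheme.{u}} (i : V ⟶ U) [IsClosedImmersion i]
    (a : A ⟶ U) : (∃ c, c ≫ i = a) ↔ i.ker.comap a = ⊥ := by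
  rw [← le_bot_iff (a := i.ker.comap a), ← Scheme.IdealSheafData.le_map_iff_comap_le,
    Scheme.IdealSheafData.map_bot]
  constructor
  · rintro ⟨c, rfl⟩
    exact Scheme.Hom.le_ker_comp c i
  · intro h
    exact ⟨IsClosedImmersion.lift i a h, IsClosedImmersion.lift_fac _ _ _⟩

theorem comap_sSup_eq {U A : Scheme.{u}} (s : Set U.IdealSheafData) (a : A ⟶ U) :
    (sSup s).comap a = ⨆ I ∈ s, I.comap a :=
  (Scheme.IdealSheafData.map_gc a).l_sSup

variable {S : Scheme.{u}} {X Y Z : Sp S} {U : Over S}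

theorem exists_over_lift_iff_comap_eq_bot {V T : Over S} (i : V ⟶ U) [IsClosedImmersion i.left]
    (a : T ⟶ U) : (∃ c, c ≫ i = a) ↔ i.left.ker.comap a.left = ⊥ := by
  rw [← exists_lift_iff_comap_eq_bot i.left a.left]
  refine ⟨fun ⟨c, hc⟩ => ⟨c.left, by rw [← hc]; rfl⟩, fun ⟨c, hc⟩ => ?_⟩
  exact ⟨Over.homMk c (by rw [← Over.w i, ← Category.assoc, hc, Over.w]), Over.OverMorphism.ext hc⟩

/-- An ideal on a chart is invariant if its pullbacks along two points with the same image agree. -/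
def IsInvIdeal (p : (yon S).obj U ⟶ X) (I : U.left.IdealSheafData) : Prop :=
  ∀ ⦃T : Over S⦄ (a b : T ⟶ U), (yon S).map a ≫ p = (yon S).map b ≫ p →
    I.comap a.left = I.comap b.left

theorem isInvIdeal_sSup {p : (yon S).obj U ⟶ X} {s : Set U.left.IdealSheafData}
    (h : ∀ I ∈ s, IsInvIdeal p I) : IsInvIdeal p (sSup s) := fun _ a b e => by
  rw [comap_sSup_eq, comap_sSup_eq]
  exact iSup_congr fun I => iSup_congr fun hI => h I hI a b e

variable {p : (yon S).obj U ⟶ X} {i : Z ⟶ X} {V : Over S} {fst : (yon S).obj V ⟶ Z}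
  {snd : V ⟶ U}

/-- Points of the chart lift to a closed subspace as the ideal pulls back to zero. -/
theorem exists_lift_map_comp_iff (hi : RepWith @IsClosedImmersion i)
    (sq : IsPullback fst ((yon S).map snd) i p) {T : Over S} (a : T ⟶ U) :
    (∃ g : (yon S).obj T ⟶ Z, g ≫ i = (yon S).map a ≫ p) ↔
      snd.left.ker.comap a.left = ⊥ := by
  have : IsClosedImmersion snd.left := hi.property p fst snd sq
  rw [← exists_over_lift_iff_comap_eq_bot snd a]
  constructor
  · rintro ⟨g, hg⟩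
    obtain ⟨c, hc⟩ := (yon S).map_surjective (sq.lift g ((yon S).map a) hg)
    exact ⟨c, (yon S).map_injective (by rw [Functor.map_comp, hc, sq.lift_snd])⟩
  · rintro ⟨c, rfl⟩
    exact ⟨(yon S).map c ≫ fst, by rw [Category.assoc, sq.w, Functor.map_comp, Category.assoc]⟩

theorem isInvIdeal_ker (hi : RepWith @IsClosedImmersion i)
    (sq : IsPullback fst ((yon S).map snd) i p) : IsInvIdeal p snd.left.ker := by
  have key : ∀ ⦃T : Over S⦄ (a b : T ⟶ U), (yon S).map a ≫ p = (yon S).map b ≫ p →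
      snd.left.ker.comap b.left ≤ snd.left.ker.comap a.left := by
    intro T a b e
    let K := snd.left.ker.comap a.left
    let κ : Over.mk (K.subschemeι ≫ T.hom) ⟶ T := Over.homMk K.subschemeι
    have hb : ∀ J : T.left.IdealSheafData, J.comap κ.left = ⊥ ↔ J ≤ K := fun J => by
      rw [← le_bot_iff, ← Scheme.IdealSheafData.le_map_iff_comap_le, Scheme.IdealSheafData.map_bot]
      exact iff_of_eq (congrArg (J ≤ ·) (Scheme.IdealSheafData.ker_subschemeι K))
    rw [← hb, ← Scheme.IdealSheafData.comap_comp, ← Over.comp_left,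
      ← exists_lift_map_comp_iff hi sq, Functor.map_comp, Category.assoc, ← e, ← Category.assoc,
      ← Functor.map_comp, exists_lift_map_comp_iff hi sq, Over.comp_left,
      Scheme.IdealSheafData.comap_comp, hb]
  exact fun T a b e => le_antisymm (key b a e.symm) (key a b e)

/-- Factorisation through a closed subspace is read off on charts. -/
theorem exists_lift_iff_comap_eq_bot_of_chart (hi : RepWith @IsClosedImmersion i)
    (sq : IsPullback fst ((yon S).map snd) i p) (f : Y ⟶ X) {W : Over S}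
    {a : (yon S).obj W ⟶ Y} (ha : RepWith @Etale a) (has : RepWith @Surjective a) {α : W ⟶ U}
    (hα : a ≫ f = (yon S).map α ≫ p) :
    (∃ g, g ≫ i = f) ↔ snd.left.ker.comap α.left = ⊥ := by
  have : Mono i := mono_of_repWith (fun _ _ g (_ : IsClosedImmersion g) => inferInstance) hi
  rw [← exists_lift_map_comp_iff hi sq α]
  refine ⟨fun ⟨g, hg⟩ => ⟨a ≫ g, by rw [Category.assoc, hg, hα]⟩, fun ⟨g, hg⟩ => ?_⟩
  refine exists_lift_of_isIso_left hi.rep f ha has fun {W' fst' snd'} sq' => ?_
  have : IsClosedImmersion snd'.left := hi.property _ fst' snd' sq'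
  obtain ⟨σ, hσ⟩ := (yon S).map_surjective
    (sq'.lift g ((yon S).map (𝟙 W)) (by
      rw [hg, CategoryTheory.Functor.map_id, Category.id_comp, hα]))
  have e : σ ≫ snd' = 𝟙 W := (yon S).map_injective (by rw [Functor.map_comp, hσ, sq'.lift_snd])
  have : IsSplitEpi snd'.left :=
    IsSplitEpi.mk' ⟨σ.left, by rw [← Over.comp_left, e, Over.id_left]⟩
  exact isIso_of_mono_of_isSplitEpi _

/-- Inclusions of closed subspaces correspond to reverse inclusions of ideals. -/
theorem exists_lift_closed_iff_le {Z' : Sp S} {i' : Z' ⟶ X} {V' : Over S}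
    {fst' : (yon S).obj V' ⟶ Z'} {snd' : V' ⟶ U}
    (hp : RepWith @Etale p) (hps : RepWith @Surjective p) (hi : RepWith @IsClosedImmersion i)
    (sq : IsPullback fst ((yon S).map snd) i p) (sq' : IsPullback fst' ((yon S).map snd') i' p) :
    (∃ k, k ≫ i = i') ↔ snd.left.ker ≤ snd'.left.ker := by
  rw [exists_lift_iff_comap_eq_bot_of_chart hi sq i' (repWith_of_isPullback sq'.flip hp)
    (repWith_of_isPullback sq'.flip hps) sq'.w, ← le_bot_iff,
    ← Scheme.IdealSheafData.le_map_iff_comap_le, Scheme.IdealSheafData.map_bot]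

/-- Every invariant ideal on a chart comes from a closed subspace. -/
theorem exists_closedSub (hX : IsAlgSpace X) (hp : RepWith @Etale p) (hps : RepWith @Surjective p)
    {I : U.left.IdealSheafData} (hI : IsInvIdeal p I) :
    ∃ (Z : Sp S) (i : Z ⟶ X) (fst : (yon S).obj (Over.mk (I.subschemeι ≫ U.hom)) ⟶ Z),
      IsAlgSpace Z ∧ RepWith @IsClosedImmersion i ∧
      IsPullback fst
        ((yon S).map (Over.homMk I.subschemeι : Over.mk (I.subschemeι ≫ U.hom) ⟶ U)) i p := by
  let ι : Over.mk (I.subschemeι ≫ U.hom) ⟶ U := Over.homMk I.subschemeι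
  have : IsClosedImmersion ι.left := inferInstanceAs (IsClosedImmersion I.subschemeι)
  have : Mono ι := Over.mono_of_mono_left ι
  have hk : ι.left.ker = I := Scheme.IdealSheafData.ker_subschemeι I
  have hinv : IsInvariant p ι := fun T a b e => by
    rw [exists_over_lift_iff_comap_eq_bot, exists_over_lift_iff_comap_eq_bot, hk, hI a b e]
    exact id
  obtain ⟨q, sq⟩ := exists_isPullback_subι p ι hinv
  exact ⟨subSp p ι, subι p ι, q, isAlgSpace_subSp p ι hX hp hps hinv,
    repWith_isClosedImmersion_of_cover hX hp hps sq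
      ((repWith_yon_map_iff _ ι).2 ‹IsClosedImmersion ι.left›), sq⟩

/-- The ideal on the chart of the scheme theoretic image. -/
def imageIdeal (p : (yon S).obj U ⟶ X) {W : Over S} (α : W ⟶ U) : U.left.IdealSheafData :=
  sSup {I | IsInvIdeal p I ∧ I ≤ α.left.ker}

theorem isInvIdeal_imageIdeal {W : Over S} (α : W ⟶ U) : IsInvIdeal p (imageIdeal p α) :=
  isInvIdeal_sSup fun _ h => h.1

theorem imageIdeal_le_ker {W : Over S} (α : W ⟶ U) : imageIdeal p α ≤ α.left.ker :=
  sSup_le fun _ h => h.2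

theorem imageIdeal_eq_ker {W : Over S} {α : W ⟶ U} (h : IsInvIdeal p α.left.ker) :
    imageIdeal p α = α.left.ker :=
  le_antisymm (imageIdeal_le_ker α) (le_sSup ⟨h, le_rfl⟩)

theorem le_ker_iff_comap_eq_bot {A B : Scheme.{u}} (I : B.IdealSheafData) (a : A ⟶ B) :
    I ≤ a.ker ↔ I.comap a = ⊥ := by
  rw [← le_bot_iff (a := I.comap a), ← Scheme.IdealSheafData.le_map_iff_comap_le,
    Scheme.IdealSheafData.map_bot]

/-- The scheme theoretic image is the closed subspace of the image ideal. -/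
theorem exists_schImage (hX : IsAlgSpace X) (hp : RepWith @Etale p) (hps : RepWith @Surjective p)
    (f : Y ⟶ X) {W : Over S} {a : (yon S).obj W ⟶ Y} (ha : RepWith @Etale a)
    (has : RepWith @Surjective a) {α : W ⟶ U} (hα : a ≫ f = (yon S).map α ≫ p) :
    ∃ (Z : Sp S) (i : Z ⟶ X)
      (fst : (yon S).obj (Over.mk ((imageIdeal p α).subschemeι ≫ U.hom)) ⟶ Z),
      IsAlgSpace Z ∧ IsSchImage f i ∧ IsPullback fst ((yon S).map (Over.homMk
        (imageIdeal p α).subschemeι : Over.mk ((imageIdeal p α).subschemeι ≫ U.hom) ⟶ U)) i p := by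
  obtain ⟨Z, i, fst, hZ, hi, sq⟩ := exists_closedSub hX hp hps (isInvIdeal_imageIdeal (p := p) α)
  refine ⟨Z, i, fst, hZ, ⟨hi, ?_, ?_⟩, sq⟩
  · rw [exists_lift_iff_comap_eq_bot_of_chart hi sq f ha has hα, ← le_ker_iff_comap_eq_bot]
    exact (Scheme.IdealSheafData.ker_subschemeι _).trans_le (imageIdeal_le_ker α)
  · intro Z' i' hZ' hi' hf
    obtain ⟨V', snd', fst', sq'⟩ := hi'.rep p
    rw [exists_lift_iff_comap_eq_bot_of_chart hi' sq' f ha has hα,
      ← le_ker_iff_comap_eq_bot] at hf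
    rw [exists_lift_closed_iff_le hp hps hi' sq' sq]
    exact (le_sSup (show snd'.left.ker ∈ {I | IsInvIdeal p I ∧ I ≤ α.left.ker} from
      ⟨isInvIdeal_ker hi' sq', hf⟩)).trans_eq (Scheme.IdealSheafData.ker_subschemeι _).symm

/-- The ideal of a scheme theoretic image. -/
theorem ker_eq_imageIdeal_of_isSchImage (hX : IsAlgSpace X) (hp : RepWith @Etale p)
    (hps : RepWith @Surjective p) {f : Y ⟶ X} {W : Over S} {a : (yon S).obj W ⟶ Y}
    (ha : RepWith @Etale a) (has : RepWith @Surjective a) {α : W ⟶ U}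
    (hα : a ≫ f = (yon S).map α ≫ p) (hf : IsSchImage f i) (hZ : IsAlgSpace Z)
    (sq : IsPullback fst ((yon S).map snd) i p) : snd.left.ker = imageIdeal p α := by
  obtain ⟨Z₀, i₀, fst₀, hZ₀, h₀, sq₀⟩ := exists_schImage hX hp hps f ha has hα
  have h₁ := (exists_lift_closed_iff_le hp hps h₀.1 sq₀ sq).1 (hf.2.2 i₀ hZ₀ h₀.1 h₀.2.1)
  have h₂ := (exists_lift_closed_iff_le hp hps hf.1 sq sq₀).1 (h₀.2.2 i hZ hf.1 hf.2.1)
  exact le_antisymm (h₂.trans_eq (Scheme.IdealSheafData.ker_subschemeι _))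
    ((Scheme.IdealSheafData.ker_subschemeι _).symm.trans_le h₁)

/-- A closed subspace with the image ideal on a chart is the scheme theoretic image. -/
theorem isSchImage_of_ker_eq (hp : RepWith @Etale p) (hps : RepWith @Surjective p) {f : Y ⟶ X}
    {W : Over S} {a : (yon S).obj W ⟶ Y} (ha : RepWith @Etale a) (has : RepWith @Surjective a)
    {α : W ⟶ U} (hα : a ≫ f = (yon S).map α ≫ p) (hi : RepWith @IsClosedImmersion i)
    (sq : IsPullback fst ((yon S).map snd) i p) (e : snd.left.ker = imageIdeal p α) :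
    IsSchImage f i := by
  refine ⟨hi, ?_, fun Z' i' _ hi' hf => ?_⟩
  · rw [exists_lift_iff_comap_eq_bot_of_chart hi sq f ha has hα, ← le_ker_iff_comap_eq_bot, e]
    exact imageIdeal_le_ker α
  · obtain ⟨V', snd', fst', sq'⟩ := hi'.rep p
    rw [exists_lift_iff_comap_eq_bot_of_chart hi' sq' f ha has hα,
      ← le_ker_iff_comap_eq_bot] at hf
    rw [exists_lift_closed_iff_le hp hps hi' sq' sq, e]
    exact le_sSup ⟨isInvIdeal_ker hi' sq', hf⟩

end

end Groth.AlgSp3
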