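import Groth.Agent.AlgSp3.ShriekDef
import Groth.Agent.AlgSpBasic.Quotient

/-!
# Algebraic spaces and extension along a change of base
-/

set_option autoImplicit false
set_option backward.isDefEq.respectTransparency.types false
universe u

open CategoryTheory CategoryTheory.Limits AlgebraicGeometry Opposite AlgSp

namespace Groth.AlgSp3

open Groth.AlgSpBasic

noncomputable section

variable {S S' : Scheme.{u}} (g : S ⟶ S')

/-- The map of an extension to the sheaf of the new base. -/
def shriekToBase (F : Sp S) : (shriek g).obj F ⟶ (yon S').obj (Over.mk g) := ⟨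
  { app := fun T => ↾fun p => ULift.up (Over.homMk p.1.1 p.1.2 : unop T ⟶ Over.mk g)
    naturality := fun T T' φ => by
      ext p
      exact ULift.ext _ _ (Over.OverMorphism.ext rfl) }⟩

theorem shriekToBase_naturality {F F' : Sp S} (α : F ⟶ F') :
    (shriek g).map α ≫ shriekToBase g F' = shriekToBase g F := by
  ext T p
  exact ULift.ext _ _ (Over.OverMorphism.ext rfl)

/-- The extension of a representable sheaf. -/
def shriekYonIso (X : Over S) : (shriek g).obj ((yon S).obj X) ≅ (yon S').obj ((Over.map g).obj X) :=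
  (fullyFaithfulSheafToPresheaf _ _).preimageIso (NatIso.ofComponents (fun T => Equiv.toIso
    { toFun := fun p => ULift.up (Over.homMk p.2.down.left (by
        show p.2.down.left ≫ X.hom ≫ g = (unop T).hom
        rw [← Category.assoc]
        exact (congrArg (· ≫ g) (Over.w p.2.down)).trans (p : shriekObj g _ (unop T)).1.2) :
          unop T ⟶ (Over.map g).obj X)
      invFun := fun b => ⟨⟨b.down.left ≫ X.hom, (Category.assoc _ _ _).trans (Over.w b.down)⟩,
        ULift.up (Over.homMk b.down.left rfl)⟩
      left_inv := fun p => shriekObj_ext _ _ (Over.w p.2.down)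
        (ULift.ext _ _ (Over.OverMorphism.ext (Category.id_comp p.2.down.left)))
      right_inv := fun b => ULift.ext _ _ (Over.OverMorphism.ext rfl) })
    fun φ => by
      ext p
      exact ULift.ext _ _ (Over.OverMorphism.ext rfl))

@[reassoc]
theorem shriekYonIso_naturality {X X' : Over S} (k : X ⟶ X') :
    (shriek g).map ((yon S).map k) ≫ (shriekYonIso g X').hom =
      (shriekYonIso g X).hom ≫ (yon S').map ((Over.map g).map k) := by
  ext T p
  exact ULift.ext _ _ (Over.OverMorphism.ext rfl)

theorem yon_map_shriekYonIso_inv {X X' : Over S} (k : X ⟶ X') :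
    (yon S').map ((Over.map g).map k) ≫ (shriekYonIso g X').inv =
      (shriekYonIso g X).inv ≫ (shriek g).map ((yon S).map k) := by
  rw [Iso.comp_inv_eq, Category.assoc, shriekYonIso_naturality, Iso.inv_hom_id_assoc]

theorem isPullback_shriek {A B C D : Sp S} {a : A ⟶ B} {b : A ⟶ C} {c : B ⟶ D} {d : C ⟶ D}
    (sq : IsPullback a b c d) :
    IsPullback ((shriek g).map a) ((shriek g).map b) ((shriek g).map c) ((shriek g).map d) := by
  refine IsPullback.of_map (sheafToPresheaf (J S') (Type (u + 1)))
    (by rw [← Functor.map_comp, ← Functor.map_comp, sq.w])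
    (IsPullback.of_forall_isPullback_app fun T => ?_)
  have h := fun Z : Over S => (Types.isPullback_iff _ _ _ _).1
    ((sq.map (sheafToPresheaf (J S) (Type (u + 1)))).map ((evaluation _ _).obj (op Z)))
  rw [Types.isPullback_iff]
  refine ⟨?_, ?_, ?_⟩
  · ext p
    exact congrArg (fun z => (⟨p.1, z⟩ : shriekObj g D (unop T)))
      (ConcreteCategory.congr_hom (h (Over.mk p.1.1)).1 p.2)
  · rintro ⟨x, z⟩ ⟨x', z'⟩ ⟨e₁, e₂⟩
    obtain rfl : x = x' := congrArg (fun p : shriekObj g B (unop T) => p.1) e₁
    exact congrArg (fun z => (⟨x, z⟩ : shriekObj g A (unop T)))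
      ((h (Over.mk x.1)).2.1 z z' ⟨eq_of_heq (Sigma.mk.inj e₁).2, eq_of_heq (Sigma.mk.inj e₂).2⟩)
  · rintro ⟨x, z⟩ ⟨x', z'⟩ e
    obtain rfl : x = x' := congrArg (fun p : shriekObj g D (unop T) => p.1) e
    obtain ⟨w, hw₁, hw₂⟩ := (h (Over.mk x.1)).2.2 z z' (eq_of_heq (Sigma.mk.inj e).2)
    exact ⟨⟨x, w⟩, congrArg (fun z => (⟨x, z⟩ : shriekObj g B (unop T))) hw₁,
      congrArg (fun z => (⟨x, z⟩ : shriekObj g C (unop T))) hw₂⟩

theorem shriek_faithful {F F' : Sp S} {a b : F ⟶ F'} (e : (shriek g).map a = (shriek g).map b) :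
    a = b := by
  ext Z s
  have h := ConcreteCategory.congr_hom (congrArg (fun k : (shriek g).obj F ⟶ (shriek g).obj F' =>
    k.hom.app (op ((Over.map g).obj (unop Z)))) e) (shriekMk s)
  have h' : (⟨(shriekMk (g := g) s).1, a.hom.app _ (shriekMk (g := g) s).2⟩ :
      shriekObj g F' ((Over.map g).obj (unop Z))) = ⟨_, b.hom.app _ (shriekMk (g := g) s).2⟩ := h
  have h'' := shriekVal_congr h' rfl rfl
  rw [shriekVal, shriekVal, ← NatTrans.naturality_apply a.hom,
    ← NatTrans.naturality_apply b.hom] at h''
  have e1 : shriekVal (shriekMk (g := g) s) rfl = s := shriekVal_shriekMk s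
  rw [shriekVal] at e1
  rwa [e1] at h''

theorem isIso_of_isIso_shriek {F F' : Sp S} (α : F ⟶ F') [IsIso ((shriek g).map α)] : IsIso α := by
  have hb : ∀ T, Function.Bijective (((shriek g).map α).hom.app T) := fun T => by
    have : IsIso ((sheafToPresheaf _ _).map ((shriek g).map α)) := inferInstance
    exact (isIso_iff_bijective _).1 (inferInstanceAs
      (IsIso (((sheafToPresheaf _ _).map ((shriek g).map α)).app T)))
  have hα : ∀ Z, Function.Bijective (α.hom.app (op Z)) := fun Z => by
    constructor
    · intro s s' e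
      have := (hb (op ((Over.map g).obj Z))).1 (a₁ := shriekMk s) (a₂ := shriekMk s')
        (congrArg (fun z => (⟨(shriekMk (g := g) s).1, z⟩ :
          shriekObj g F' ((Over.map g).obj Z))) (by
            rw [NatTrans.naturality_apply, NatTrans.naturality_apply]
            exact congrArg _ e))
      exact (shriekVal_shriekMk s).symm.trans ((shriekVal_congr this rfl rfl).trans
        (shriekVal_shriekMk s'))
    · intro s'
      obtain ⟨p, hp⟩ := (hb (op ((Over.map g).obj Z))).2 (shriekMk s')
      have hp' : (⟨p.1, α.hom.app _ p.2⟩ : shriekObj g F' ((Over.map g).obj Z)) = shriekMk s' := hp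
      have hp1 : p.1.1 = Z.hom := congrArg (fun q : shriekObj g F' _ => q.1.1) hp'
      refine ⟨shriekVal p hp1, ?_⟩
      rw [NatTrans.naturality_apply]
      exact (shriekVal_congr hp' hp1 rfl).trans (shriekVal_shriekMk s')
  have : ∀ Z, IsIso (((sheafToPresheaf _ _).map α).app Z) := fun Z =>
    (isIso_iff_bijective _).2 (hα (unop Z))
  have : IsIso ((sheafToPresheaf _ _).map α) := NatIso.isIso_of_isIso_app _
  exact isIso_of_reflects_iso α (sheafToPresheaf _ _)

/-- Maps from representable sheaves into an extension. -/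
theorem exists_shriek_lift {F : Sp S} {T : Over S'} (b : (yon S').obj T ⟶ (shriek g).obj F) :
    ∃ (A : Over S) (e : (Over.map g).obj A ≅ T) (s : (yon S).obj A ⟶ F),
      (yon S').map e.hom ≫ b = (shriekYonIso g A).inv ≫ (shriek g).map s := by
  let p : shriekObj g F T := yEquiv b
  let A : Over S := Over.mk p.1.1
  let e : (Over.map g).obj A ≅ T :=
    Over.isoMk (Iso.refl _) ((Category.id_comp _).trans p.1.2.symm)
  refine ⟨A, e, yEquiv.symm p.2, yEquiv.injective ?_⟩
  refine ((J S').uliftYonedaEquiv_naturality b e.hom).symm.trans ?_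
  show shriekRes g (overBase g p.1) p = _
  refine (shriekRes_overBase p).trans ?_
  show _ = (⟨⟨𝟙 T.left ≫ p.1.1, _⟩,
    (yEquiv.symm p.2 : (yon S).obj A ⟶ F).hom.app _
      (ULift.up (Over.homMk (𝟙 T.left) rfl : Over.mk (𝟙 T.left ≫ p.1.1) ⟶ A))⟩ :
    shriekObj g F ((Over.map g).obj A))
  refine shriekObj_ext _ _ (Category.id_comp p.1.1).symm ?_
  have h : ((yEquiv.symm p.2 : (yon S).obj A ⟶ F)).hom.app (op A) ⟨𝟙 A⟩ = p.2 :=
    (GrothendieckTopology.uliftYonedaEquiv_apply _ _).symm.trans (Equiv.apply_symm_apply _ _)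
  refine (map_map_eq _ _ (Over.homMk (𝟙 _) rfl : Over.mk (𝟙 T.left ≫ p.1.1) ⟶ A) ?_ _).trans ?_
  · exact Category.id_comp _
  · refine (congrArg _ h.symm).trans ((NatTrans.naturality_apply _ _ _).symm.trans (congrArg _ ?_))
    exact ULift.ext _ _ (Over.OverMorphism.ext (Category.comp_id _))

/-- Maps from representable sheaves into an extension lying over the given lift. -/
theorem exists_shriek_lift_of_base {F : Sp S} {A : Over S}
    (b : (yon S').obj ((Over.map g).obj A) ⟶ (shriek g).obj F)
    (hb : b ≫ shriekToBase g F = (shriekYonIso g A).inv ≫ shriekToBase g ((yon S).obj A)) :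
    ∃ s : (yon S).obj A ⟶ F, b = (shriekYonIso g A).inv ≫ (shriek g).map s := by
  let p : shriekObj g F ((Over.map g).obj A) := yEquiv b
  have h0 : p.1.1 = 𝟙 A.left ≫ A.hom :=
    congrArg (fun q : ULift ((Over.map g).obj A ⟶ Over.mk g) => q.down.left)
      (congrArg yEquiv hb : _ = _)
  have h : p.1.1 = A.hom := h0.trans (Category.id_comp _)
  refine ⟨yEquiv.symm (shriekVal p h), yEquiv.injective ?_⟩
  show p = (⟨⟨𝟙 A.left ≫ A.hom, _⟩,
    (yEquiv.symm (shriekVal p h) : (yon S).obj A ⟶ F).hom.app _
      (ULift.up (Over.homMk (𝟙 A.left) rfl : Over.mk (𝟙 A.left ≫ A.hom) ⟶ A))⟩ :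
    shriekObj g F ((Over.map g).obj A))
  refine shriekObj_ext _ _ (h.trans (Category.id_comp _).symm) ?_
  have h' : ((yEquiv.symm (shriekVal p h) : (yon S).obj A ⟶ F)).hom.app (op A) ⟨𝟙 A⟩ =
      shriekVal p h :=
    (GrothendieckTopology.uliftYonedaEquiv_apply _ _).symm.trans (Equiv.apply_symm_apply _ _)
  refine Eq.trans ?_ ((congrArg _ h'.symm).trans ((NatTrans.naturality_apply _
    (Over.homMk (𝟙 A.left) rfl : Over.mk (𝟙 A.left ≫ A.hom) ⟶ A).op _).symm.trans (congrArg _ ?_)))
  · exact (map_map_eq _ _ _ (Category.id_comp _) _).symm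
  · exact ULift.ext _ _ (Over.OverMorphism.ext (Category.comp_id _))

@[reassoc]
theorem shriek_map_toBase {F F' : Sp S} (α : F ⟶ F') :
    (shriek g).map α ≫ shriekToBase g F' = shriekToBase g F := shriekToBase_naturality g α

/-- A property of a map of sheaves is preserved by extension. -/
theorem repWith_shriek_map {P : MorphismProperty Scheme.{u}} [P.RespectsIso] {F₁ F₂ : Sp S}
    {f : F₁ ⟶ F₂} (hf : RepWith P f) : RepWith (S := S') P ((shriek g).map f) := by
  refine repWith_of_exists fun T b => ?_
  obtain ⟨A, e, s, hs⟩ := exists_shriek_lift g b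
  obtain ⟨W, snd, fst, sq⟩ := hf.rep s
  refine ⟨(Over.map g).obj W, (shriekYonIso g W).inv ≫ (shriek g).map fst,
    (Over.map g).map snd ≫ e.hom, ?_, ?_⟩
  · refine (isPullback_shriek g sq).of_iso (shriekYonIso g W) (Iso.refl _)
      (shriekYonIso g A ≪≫ (yon S').mapIso e) (Iso.refl _) (by simp) ?_ (by simp) ?_
    · simp only [Iso.trans_hom, Functor.mapIso_hom, Functor.map_comp]
      rw [shriekYonIso_naturality_assoc]
    · simp only [Iso.trans_hom, Functor.mapIso_hom, Iso.refl_hom, Category.comp_id, Category.assoc]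
      rw [hs, Iso.hom_inv_id_assoc]
  · show P (snd.left ≫ e.hom.left)
    have : IsIso e.hom.left := inferInstanceAs (IsIso ((Over.forget S').map e.hom))
    exact (P.cancel_right_of_respectsIso snd.left e.hom.left).2 (hf.property s fst snd sq)

/-- A property of a map of sheaves is reflected by extension. -/
theorem repWith_of_shriek_map {P : MorphismProperty Scheme.{u}} [P.RespectsIso] {F₁ F₂ : Sp S}
    {f : F₁ ⟶ F₂} (hf : RepWith (S := S') P ((shriek g).map f)) : RepWith P f := by
  refine repWith_of_exists fun A s => ?_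
  let b := (shriekYonIso g A).inv ≫ (shriek g).map s
  obtain ⟨W', snd', fst', sq'⟩ := hf.rep b
  let W : Over S := Over.mk (snd'.left ≫ A.hom)
  let k : W ⟶ A := Over.homMk snd'.left rfl
  let eW : (Over.map g).obj W ≅ W' := Over.isoMk (Iso.refl _) (by
    show 𝟙 _ ≫ W'.hom = (snd'.left ≫ A.hom) ≫ g
    rw [Category.id_comp, Category.assoc]
    exact (Over.w snd').symm)
  have sqW : IsPullback ((yon S').map eW.hom ≫ fst') ((yon S').map ((Over.map g).map k))
      ((shriek g).map f) b :=
    sq'.of_iso ((yon S').mapIso eW).symm (Iso.refl _) (Iso.refl _) (Iso.refl _)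
      (by simp only [Iso.symm_hom, Functor.mapIso_inv, Iso.refl_hom, Category.comp_id,
        ← Category.assoc, ← Functor.map_comp, Iso.inv_hom_id, CategoryTheory.Functor.map_id,
        Category.id_comp])
      (by
        simp only [Iso.symm_hom, Functor.mapIso_inv, Iso.refl_hom, Category.comp_id,
          ← Functor.map_comp]
        congr 1)
      (by simp) (by simp)
  obtain ⟨a, ha⟩ := exists_shriek_lift_of_base g ((yon S').map eW.hom ≫ fst') (by
    rw [← shriekToBase_naturality g f, ← Category.assoc, sqW.w, Category.assoc]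
    simp only [b, Category.assoc]
    rw [shriekToBase_naturality, ← Category.assoc, yon_map_shriekYonIso_inv, Category.assoc,
      shriekToBase_naturality])
  have hw : a ≫ f = (yon S).map k ≫ s := shriek_faithful g (by
    have h := sqW.w
    rw [ha, Category.assoc, ← Functor.map_comp, ← Category.assoc, yon_map_shriekYonIso_inv,
      Category.assoc, ← Functor.map_comp] at h
    exact (cancel_epi _).1 h)
  have sqP := IsPullback.of_hasPullback f s
  let c := sqP.lift a ((yon S).map k) hw
  have hsq := isPullback_shriek g sqP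
  have sqW' : IsPullback ((shriek g).map a) ((shriek g).map ((yon S).map k)) ((shriek g).map f)
      ((shriek g).map s) :=
    sqW.of_iso (shriekYonIso g W).symm (Iso.refl _) (shriekYonIso g A).symm (Iso.refl _)
      (by simp only [Iso.symm_hom, Iso.refl_hom, Category.comp_id]; exact ha.symm ▸ rfl)
      (by simp only [Iso.symm_hom]; exact (yon_map_shriekYonIso_inv g k).symm)
      (by simp) (by simp [b])
  have : IsIso ((shriek g).map c) := by
    have h : (shriek g).map c = (sqW'.isoIsPullback _ _ hsq).hom := by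
      apply hsq.hom_ext
      · rw [← Functor.map_comp, sqP.lift_fst, IsPullback.isoIsPullback_hom_fst]
      · rw [← Functor.map_comp, sqP.lift_snd, IsPullback.isoIsPullback_hom_snd]
    rw [h]; infer_instance
  have := isIso_of_isIso_shriek g c
  refine ⟨W, a, k, IsPullback.of_iso_pullback ⟨hw⟩ (asIso c) (sqP.lift_fst _ _ _)
    (sqP.lift_snd _ _ _), ?_⟩
  exact hf.property b fst' snd' sq'

theorem isAlgSpace_shriek_iff (F : Sp S) : IsAlgSpace ((shriek g).obj F) ↔ IsAlgSpace F := by
  constructor
  · intro h
    obtain ⟨T, p, he, hs⟩ := h.atlas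
    obtain ⟨A, e, s, hes⟩ := exists_shriek_lift g p
    have key : ∀ {P : MorphismProperty Scheme.{u}} [P.RespectsIso],
        RepWith (S := S') P p → RepWith (S := S') P ((shriek g).map s) := fun {P} _ hp => by
      have h1 : (shriek g).map s = (shriekYonIso g A).hom ≫ (yon S').map e.hom ≫ p := by
        rw [hes, Iso.hom_inv_id_assoc]
      rw [h1]
      exact MorphismProperty.RespectsIso.precomp _ (shriekYonIso g A).hom _
        (MorphismProperty.RespectsIso.precomp _ ((yon S').map e.hom) _ hp)
    exact isAlgSpace_of_chart (repWith_of_shriek_map g (key he))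
      (repWith_of_shriek_map g (key hs))
  · intro h
    obtain ⟨A, p, he, hs⟩ := h.atlas
    exact isAlgSpace_of_chart (π := (shriekYonIso g A).inv ≫ (shriek g).map p)
      (MorphismProperty.RespectsIso.precomp _ (shriekYonIso g A).inv _ (repWith_shriek_map g he))
      (MorphismProperty.RespectsIso.precomp _ (shriekYonIso g A).inv _ (repWith_shriek_map g hs))

/-- Extending a restriction gives the product with the sheaf of the new base. -/
theorem nonempty_shriek_restrict_iso (G : Sp S') :
    Nonempty ((shriek g).obj ((Scheme.fppfTopology.overMapPullback (Type (u + 1)) g).obj G) ≅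
      ((yon S').obj (Over.mk g) ⨯ G)) := by
  let R := Scheme.fppfTopology.overMapPullback (Type (u + 1)) g
  let π₂ : (shriek g).obj (R.obj G) ⟶ G := (shriekAdj g).counit.app G
  have hπ₂ : ∀ (T : Over S') (p : shriekObj g (R.obj G) T), π₂.hom.app (op T) p =
      G.obj.map (Over.homMk (𝟙 T.left) ((Category.id_comp _).trans p.1.2) :
        T ⟶ (Over.map g).obj (Over.mk p.1.1)).op p.2 := fun T p => rfl
  have hb : ∀ T : Over S', Function.Bijective (fun p : shriekObj g (R.obj G) T =>
      ((shriekToBase g (R.obj G)).hom.app (op T) p, π₂.hom.app (op T) p)) := by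
    intro T
    constructor
    · intro p q e
      obtain ⟨x, y⟩ := p
      obtain ⟨x', y'⟩ := q
      obtain rfl : x = x' := Subtype.ext
        (congrArg (fun z => CommaMorphism.left (ULift.down z.1)) e)
      have e2 := congrArg Prod.snd e
      simp only [hπ₂] at e2
      let i : T ≅ (Over.map g).obj (Over.mk x.1) :=
        Over.isoMk (Iso.refl _) ((Category.id_comp _).trans x.2)
      have : Function.Injective (G.obj.map i.hom.op) :=
        ((G.obj.mapIso i.op).toEquiv).injective
      exact congrArg (fun z => (⟨x, z⟩ : shriekObj g (R.obj G) T)) (this e2)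
    · rintro ⟨⟨b⟩, y⟩
      let x : BasePt g T := ⟨b.left, Over.w b⟩
      refine ⟨⟨x, G.obj.map (overBase g x).op y⟩, Prod.ext (ULift.ext _ _
        (Over.OverMorphism.ext rfl)) ?_⟩
      show π₂.hom.app (op T) ⟨x, _⟩ = y
      rw [hπ₂]
      rw [← Functor.map_comp_apply, ← op_comp]
      refine Eq.trans ?_ (Functor.map_id_apply G.obj _ y)
      congr 2
  let h : (shriek g).obj (R.obj G) ⟶ (yon S').obj (Over.mk g) ⨯ G :=
    prod.lift (shriekToBase g _) π₂
  have : ∀ T, IsIso (((sheafToPresheaf _ _).map h).app T) := fun T => by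
    let E := sheafToPresheaf (J S') (Type (u + 1)) ⋙ (evaluation _ _).obj T
    let φ := Types.binaryProductIso (E.obj ((yon S').obj (Over.mk g))) (E.obj G)
    have : IsIso (E.map h ≫ prodComparison E _ _ ≫ φ.hom) := by
      rw [isIso_iff_bijective]
      refine (congrArg Function.Bijective (funext fun p => ?_)).mpr (hb (unop T))
      refine Prod.ext ?_ ?_
      · have : (E.map h ≫ prodComparison E _ _ ≫ φ.hom) ≫ (↾Prod.fst) =
            E.map (shriekToBase g (R.obj G)) := by
          rw [Category.assoc, Category.assoc, Types.binaryProductIso_hom_comp_fst,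
            prodComparison_fst, ← Functor.map_comp, prod.lift_fst]
        exact ConcreteCategory.congr_hom this p
      · have : (E.map h ≫ prodComparison E _ _ ≫ φ.hom) ≫ (↾Prod.snd) = E.map π₂ := by
          rw [Category.assoc, Category.assoc, Types.binaryProductIso_hom_comp_snd,
            prodComparison_snd, ← Functor.map_comp, prod.lift_snd]
        exact ConcreteCategory.congr_hom this p
    exact IsIso.of_isIso_comp_right (E.map h) (prodComparison E _ _ ≫ φ.hom)
  have : IsIso ((sheafToPresheaf _ _).map h) := NatIso.isIso_of_isIso_app _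
  have : IsIso h := isIso_of_reflects_iso h (sheafToPresheaf _ _)
  exact ⟨asIso h⟩

end

end Groth.AlgSp3
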