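import Groth.Agent.AlgSp3.FibreInv
import Groth.Prelude.Def_AlgSpDec

/-!
# Invariants of morphisms of algebraic spaces read on chart diagrams
-/

set_option autoImplicit false
set_option backward.isDefEq.respectTransparency.types false
universe u v

open CategoryTheory CategoryTheory.Limits AlgebraicGeometry Topology Opposite AlgSp Groth.AlgSpBasic

namespace Groth.AlgSp3

variable {S : Scheme.{u}}

/-- An invariant of pointed morphisms of schemes, unchanged by etale maps at source and target. -/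
structure EtMorInvariant {α : Type v} (inv : ∀ U V : Scheme.{u}, (U ⟶ V) → ↥U → α) : Prop where
  precomp : ∀ {U' U V : Scheme.{u}} (e : U' ⟶ U) [Etale e] (h : U ⟶ V) (u : U'),
    inv U' V (e ≫ h) u = inv U V h (e u)
  postcomp : ∀ {U V V' : Scheme.{u}} (h : U ⟶ V) (e : V ⟶ V') [Etale e] (u : U),
    inv U V' (h ≫ e) u = inv U V h u

theorem EtMorInvariant.map {α : Type v} {β : Type*} {inv : ∀ U V : Scheme.{u}, (U ⟶ V) → ↥U → α}
    (hinv : EtMorInvariant inv) (g : α → β) :
    EtMorInvariant fun U V h u => g (inv U V h u) where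
  precomp e _ h u := congrArg g (hinv.precomp e h u)
  postcomp h e _ u := congrArg g (hinv.postcomp h e u)

theorem etMor_fibreDimAt : EtMorInvariant.{u} fun _ _ h u => FlatMor.fibreDimAt h u where
  precomp e _ h u := fibreDimAt_etale_comp e h u
  postcomp h e _ u := fibreDimAt_comp_etale h e u

theorem etMor_resTrdeg : EtMorInvariant.{u} fun _ _ h u => Dual3.resTrdeg h u where
  precomp e _ h u := resTrdeg_etale_comp e h u
  postcomp h e _ u := resTrdeg_comp_etale h e u

theorem etMor_fibreStalkDim : EtMorInvariant.{u} fun _ _ h u =>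
    ringKrullDim ↥((h.fiber (h u)).presheaf.stalk (h.asFiber u)) where
  precomp e _ h u := ringKrullDim_fiber_stalk_etale_comp e h u
  postcomp h e _ u := ringKrullDim_fiber_stalk_comp_etale h e u

variable {α : Type v} {inv : ∀ U V : Scheme.{u}, (U ⟶ V) → ↥U → α}

/-- Two chart diagrams through the same point give the same invariant. -/
theorem inv_eq_of_charts (hinv : EtMorInvariant inv) {X Y : Sp S}
    (hX : Representable (Limits.diag X)) (hY : Representable (Limits.diag Y)) {f : X ⟶ Y}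
    {U V U' V' : Over S} {a : (yon S).obj U ⟶ X} {b : (yon S).obj V ⟶ Y} {h : U ⟶ V}
    {a' : (yon S).obj U' ⟶ X} {b' : (yon S).obj V' ⟶ Y} {h' : U' ⟶ V'}
    (ha : RepWith @Etale a) (hb : RepWith @Etale b) (comm : a ≫ f = (yon S).map h ≫ b)
    (ha' : RepWith @Etale a') (hb' : RepWith @Etale b') (comm' : a' ≫ f = (yon S).map h' ≫ b')
    {u : ↥U.left} {u' : ↥U'.left} (hu : AlgSp.Points.ofPt a u = AlgSp.Points.ofPt a' u') :
    inv U.left V.left h.left u = inv U'.left V'.left h'.left u' := by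
  obtain ⟨W, α, α', hW⟩ := exists_pullback_of_diag hX a a'
  obtain ⟨T, β, β', hT⟩ := exists_pullback_of_diag hY b b'
  have : Etale α.left := repWith_fst_of_isPullback hW.flip ha'
  have : Etale α'.left := repWith_fst_of_isPullback hW ha
  have : Etale β.left := repWith_fst_of_isPullback hT.flip hb'
  have : Etale β'.left := repWith_fst_of_isPullback hT hb
  have e : (yon S).map (α ≫ h) ≫ b = (yon S).map (α' ≫ h') ≫ b' := by
    rw [Functor.map_comp, Functor.map_comp, Category.assoc, Category.assoc, ← comm, ← comm',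
      ← Category.assoc, hW.w, Category.assoc]
  obtain ⟨w, hw⟩ := (yon S).map_surjective (hT.lift _ _ e)
  have e₁ : w.left ≫ β.left = α.left ≫ h.left := congrArg CommaMorphism.left
    ((yon S).map_injective (by rw [Functor.map_comp, hw, hT.lift_fst]) : w ≫ β = α ≫ h)
  have e₂ : w.left ≫ β'.left = α'.left ≫ h'.left := congrArg CommaMorphism.left
    ((yon S).map_injective (by rw [Functor.map_comp, hw, hT.lift_snd]) : w ≫ β' = α' ≫ h')
  obtain ⟨z, rfl, rfl⟩ := (ofPt_eq_ofPt_iff hW u u').mp hu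
  rw [← hinv.precomp α.left, ← e₁, hinv.postcomp, ← hinv.precomp α'.left, ← e₂, hinv.postcomp]

/-- There is a chart diagram through every point. -/
theorem exists_chart_at {X Y : Sp S} (hX : IsAlgSpace X) (hY : IsAlgSpace Y) (f : X ⟶ Y)
    (x : AlgSp.Points X) :
    ∃ (U V : Over S) (a : (yon S).obj U ⟶ X) (b : (yon S).obj V ⟶ Y) (h : U ⟶ V) (u : ↥U.left),
      RepWith @Etale a ∧ RepWith @Etale b ∧ a ≫ f = (yon S).map h ≫ b ∧
        AlgSp.Points.ofPt a u = x := by
  obtain ⟨U, V, a, b, h, ha, has, hb, -, comm⟩ := exists_charts hX hY f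
  obtain ⟨u, hu⟩ := surjective_ofPt_of_repWith has x
  exact ⟨U, V, a, b, h, u, ha, hb, comm, hu⟩

theorem hasAtMor_iff_of_chart (hinv : EtMorInvariant inv) (P : α → Prop) {X Y : Sp S}
    (hX : Representable (Limits.diag X)) (hY : Representable (Limits.diag Y)) {f : X ⟶ Y}
    {U V : Over S} {a : (yon S).obj U ⟶ X} {b : (yon S).obj V ⟶ Y} {h : U ⟶ V}
    (ha : RepWith @Etale a) (hb : RepWith @Etale b) (comm : a ≫ f = (yon S).map h ≫ b)
    (u : ↥U.left) :
    HasAtMor (fun U V h u => P (inv U V h u)) f (AlgSp.Points.ofPt a u) ↔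
      P (inv U.left V.left h.left u) := by
  constructor
  · rintro ⟨U', V', a', b', h', u', ha', hb', comm', hu', hP⟩
    have e := inv_eq_of_charts hinv hX hY ha' hb' comm' ha hb comm hu'
    exact e ▸ hP
  · exact fun hP => ⟨U, V, a, b, h, u, ha, hb, comm, rfl, hP⟩

theorem hasAtMor_iff_forall (hinv : EtMorInvariant inv) (P : α → Prop) {X Y : Sp S}
    (hX : IsAlgSpace X) (hY : IsAlgSpace Y) (f : X ⟶ Y) (x : AlgSp.Points X) :
    HasAtMor (fun U V h u => P (inv U V h u)) f x ↔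
      ∀ (U V : Over S) (a : (yon S).obj U ⟶ X) (b : (yon S).obj V ⟶ Y) (h : U ⟶ V) (u : ↥U.left),
        RepWith @Etale a → RepWith @Etale b → a ≫ f = (yon S).map h ≫ b →
          AlgSp.Points.ofPt a u = x → P (inv U.left V.left h.left u) := by
  constructor
  · rintro hx U V a b h u ha hb comm rfl
    exact (hasAtMor_iff_of_chart hinv P hX.diag hY.diag ha hb comm u).mp hx
  · intro hx
    obtain ⟨U, V, a, b, h, u, ha, hb, comm, hu⟩ := exists_chart_at hX hY f x
    exact ⟨U, V, a, b, h, u, ha, hb, comm, hu, hx U V a b h u ha hb comm hu⟩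

/-- The value of the invariant at a point. -/
theorem exists_hasAtMor_eq {X Y : Sp S} (hX : IsAlgSpace X) (hY : IsAlgSpace Y) (f : X ⟶ Y)
    (x : AlgSp.Points X) :
    ∃ d : α, HasAtMor (fun U V h u => inv U V h u = d) f x := by
  obtain ⟨U, V, a, b, h, u, ha, hb, comm, hu⟩ := exists_chart_at hX hY f x
  exact ⟨_, U, V, a, b, h, u, ha, hb, comm, hu, rfl⟩

theorem eq_of_hasAtMor (hinv : EtMorInvariant inv) {X Y : Sp S} (hX : IsAlgSpace X)
    (hY : IsAlgSpace Y) {f : X ⟶ Y} {x : AlgSp.Points X} {d d' : α}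
    (h₁ : HasAtMor (fun U V h u => inv U V h u = d) f x)
    (h₂ : HasAtMor (fun U V h u => inv U V h u = d') f x) : d = d' := by
  obtain ⟨U, V, a, b, h, u, ha, hb, comm, rfl, rfl⟩ := h₁
  exact (hasAtMor_iff_of_chart hinv (· = d') hX.diag hY.diag ha hb comm u).mp h₂

/-- A chart of a composite through a given point. -/
theorem exists_chart_comp {X Y Z : Sp S} (hX : IsAlgSpace X) (hY : IsAlgSpace Y) (hZ : IsAlgSpace Z)
    (f : X ⟶ Y) (g : Y ⟶ Z) (x : AlgSp.Points X) :
    ∃ (U V W : Over S) (a : (yon S).obj U ⟶ X) (b : (yon S).obj V ⟶ Y) (c : (yon S).obj W ⟶ Z)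
      (h : U ⟶ V) (k : V ⟶ W) (u : ↥U.left),
      RepWith @Etale a ∧ RepWith @Etale b ∧ RepWith @Etale c ∧ a ≫ f = (yon S).map h ≫ b ∧
        b ≫ g = (yon S).map k ≫ c ∧ a ≫ f ≫ g = (yon S).map (h ≫ k) ≫ c ∧
          AlgSp.Points.ofPt a u = x ∧
            AlgSp.Points.ofPt b (h.left u) = AlgSp.Points.map f x := by
  obtain ⟨V, W, b, c, k, hb, hbs, hc, -, comm⟩ := exists_charts hY hZ g
  obtain ⟨U, a, h, ha, has, comm'⟩ := exists_chart_over hX hY.diag f b hb hbs
  obtain ⟨u, rfl⟩ := surjective_ofPt_of_repWith has x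
  refine ⟨U, V, W, a, b, c, h, k, u, ha, hb, hc, comm', comm, ?_, rfl, ?_⟩
  · rw [Functor.map_comp, Category.assoc, ← comm, ← Category.assoc, comm', Category.assoc]
  · rw [AlgSp.Points.map_ofPt, comm', ofPt_comp_yon]

/-- A chart of a base change through a given point. -/
theorem exists_chart_baseChange {X Y Y' X' : Sp S} {g' : X' ⟶ X} {f' : X' ⟶ Y'} {f : X ⟶ Y}
    {g : Y' ⟶ Y} (hX : IsAlgSpace X) (hY : IsAlgSpace Y) (hY' : IsAlgSpace Y')
    (sq : IsPullback g' f' f g) (x' : AlgSp.Points X') :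
    ∃ (U V V' U' : Over S) (a : (yon S).obj U ⟶ X) (b : (yon S).obj V ⟶ Y)
      (b' : (yon S).obj V' ⟶ Y') (a' : (yon S).obj U' ⟶ X') (h : U ⟶ V) (k : V' ⟶ V)
      (p : U' ⟶ U) (h' : U' ⟶ V') (u' : ↥U'.left),
      RepWith @Etale a ∧ RepWith @Etale b ∧ RepWith @Etale b' ∧ RepWith @Etale a' ∧
        a ≫ f = (yon S).map h ≫ b ∧ b' ≫ g = (yon S).map k ≫ b ∧
          a' ≫ f' = (yon S).map h' ≫ b' ∧ a' ≫ g' = (yon S).map p ≫ a ∧
            IsPullback p.left h'.left h.left k.left ∧ AlgSp.Points.ofPt a' u' = x' ∧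
              AlgSp.Points.ofPt a (p.left u') = AlgSp.Points.map g' x' := by
  obtain ⟨U, V, a, b, h, ha, has, hb, hbs, comm⟩ := exists_charts hX hY f
  obtain ⟨V₀, b₀, hb₀, hb₀s⟩ := hY'.atlas
  obtain ⟨M, m₁, m₂, r, hM, hr₁, hr₂, hr⟩ := exists_chart_of_isPullback sq hY.diag a b₀
  obtain ⟨T, t₁, t₂, hT⟩ := exists_pullback_of_diag hY.diag b (b₀ ≫ g)
  have e : (yon S).map (m₁ ≫ h) ≫ b = (yon S).map m₂ ≫ b₀ ≫ g := by
    rw [Functor.map_comp, Category.assoc, ← comm]; exact hM.w
  obtain ⟨w, hw⟩ := (yon S).map_surjective (hT.lift _ _ e)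
  have e₁ : w ≫ t₁ = m₁ ≫ h := (yon S).map_injective (by rw [Functor.map_comp, hw, hT.lift_fst])
  have e₂ : w ≫ t₂ = m₂ := (yon S).map_injective (by rw [Functor.map_comp, hw, hT.lift_snd])
  have hM' : IsPullback ((yon S).map m₁) ((yon S).map m₂) ((yon S).map h ≫ b) (b₀ ≫ g) := by
    rw [← comm]; exact hM
  have hpb : IsPullback ((yon S).map w) ((yon S).map m₁) ((yon S).map t₁) ((yon S).map h) := by
    refine IsPullback.of_right (t := hT.flip) ?_ (by rw [← Functor.map_comp, ← Functor.map_comp, e₁])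
    rw [← Functor.map_comp, e₂]
    exact hM'.flip
  obtain ⟨u', rfl⟩ := surjective_ofPt_of_repWith (hr @Surjective has hb₀s) x'
  refine ⟨U, V, T, M, a, b, (yon S).map t₂ ≫ b₀, r, h, t₁, m₁, w, u', ha, hb,
    repWith_comp (repWith_of_isPullback hT hb) hb₀, hr @Etale ha hb₀, comm, ?_, ?_, hr₁,
    (isPullback_left (isPullback_of_yon hpb)).flip, rfl, ?_⟩
  · rw [Category.assoc]; exact hT.w.symm
  · rw [hr₂, ← Category.assoc, ← Functor.map_comp, e₂]
  · rw [AlgSp.Points.map_ofPt, hr₁, ofPt_comp_yon]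

end Groth.AlgSp3
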