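import Groth.Agent.AlgSp3.Shriek
import Groth.Agent.AlgSpBasic.AlgSpace
import Groth.Prelude.Def_AlgSp
import Mathlib.CategoryTheory.Equivalence

/-!
# Algebraic spaces over a scheme as algebraic spaces with a map to it
-/

set_option autoImplicit false
set_option backward.isDefEq.respectTransparency.types false
universe u

open CategoryTheory CategoryTheory.Limits AlgebraicGeometry Opposite AlgSp

namespace Groth.AlgSp3

open Groth.AlgSpBasic

noncomputable section

variable {S S' : Scheme.{u}} (g : S ⟶ S')

/-- A representable sheaf is represented by its scheme. -/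
def yonRepresentableBy (X : Over S) : ((yon S).obj X).obj.RepresentableBy X where
  homEquiv := Equiv.ulift.symm
  homEquiv_comp _ _ := rfl

/-- The restriction of a representable sheaf is represented by the base change. -/
def restrictYonRepresentableBy (X' : Over S') :
    ((Scheme.fppfTopology.overMapPullback (Type (u + 1)) g).obj ((yon S').obj X')).obj.RepresentableBy
      (Over.mk (pullback.snd X'.hom g)) where
  homEquiv {Z} :=
    { toFun := fun a => ULift.up (Over.homMk (a.left ≫ pullback.fst X'.hom g) (by
        show (a.left ≫ pullback.fst X'.hom g) ≫ X'.hom = Z.hom ≫ g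
        rw [Category.assoc, pullback.condition, ← Category.assoc]
        exact congrArg (· ≫ g) (Over.w a)) : (Over.map g).obj Z ⟶ X')
      invFun := fun b => Over.homMk (pullback.lift b.down.left Z.hom (Over.w b.down))
        (pullback.lift_snd _ _ _)
      left_inv := fun a => Over.OverMorphism.ext (pullback.hom_ext (pullback.lift_fst _ _ _)
        ((pullback.lift_snd _ _ _).trans (Over.w a).symm))
      right_inv := fun b => ULift.ext _ _ (Over.OverMorphism.ext (pullback.lift_fst _ _ _)) }
  homEquiv_comp a b := ULift.ext _ _ (Over.OverMorphism.ext (Category.assoc _ _ _))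

/-- Products of algebraic spaces are algebraic spaces. -/
theorem isAlgSpace_prod {X Y : Sp S} (hX : IsAlgSpace X) (hY : IsAlgSpace Y) :
    IsAlgSpace (X ⨯ Y) := by
  let ht : IsTerminal ((yon S).obj (Over.mk (𝟙 S))) :=
    IsTerminal.isTerminalObj (yon S) _ Over.mkIdTerminal
  exact isAlgSpace_of_isPullback (IsPullback.of_is_product' (prodIsProd X Y) ht)
    (IsAlgSpace.yon_obj _).diag hX hY

theorem isAlgSpace_restrict {F' : Sp S'} (hF : IsAlgSpace F') :
    IsAlgSpace ((Scheme.fppfTopology.overMapPullback (Type (u + 1)) g).obj F') := by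
  obtain ⟨e⟩ := nonempty_shriek_restrict_iso g F'
  exact (isAlgSpace_shriek_iff g _).1 ((isAlgSpace_iff_of_iso e).2
    (isAlgSpace_prod (IsAlgSpace.yon_obj _) hF))

/-- A map of extensions over the new base comes from a unique map. -/
theorem exists_of_over {F F' : Sp S} (α : (shriek g).obj F ⟶ (shriek g).obj F')
    (hα : α ≫ shriekToBase g F' = shriekToBase g F) : ∃ a : F ⟶ F', (shriek g).map a = α := by
  have h1 : ∀ (T : Over S') (p : shriekObj g F T),
      (α.hom.app (op T) p : shriekObj g F' T).1.1 = p.1.1 := fun T p => by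
    have h : (shriekToBase g F').hom.app (op T) (α.hom.app (op T) p) =
        (shriekToBase g F).hom.app (op T) p := by
      rw [← hα]
      rfl
    exact congrArg (fun z : ULift.{u + 1} (T ⟶ Over.mk g) => z.down.left) h
  refine ⟨⟨
    { app := fun Z => ↾fun s => shriekVal (α.hom.app (op ((Over.map g).obj (unop Z))) (shriekMk s))
        ((h1 _ _).trans rfl)
      naturality := fun Z Z' k => by
        refine ConcreteCategory.hom_ext _ _ fun s => ?_
        refine Eq.trans ?_ (shriekVal_res k.unop _ ((h1 _ _).trans rfl))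
        refine shriekVal_congr ?_ ((h1 _ _).trans rfl) _
        refine Eq.trans (congrArg (fun p => α.hom.app _ p) (shriekRes_shriekMk k.unop s).symm) ?_
        exact NatTrans.naturality_apply α.hom ((Over.map g).map k.unop).op (shriekMk s) }⟩, ?_⟩
  ext T p
  refine shriekObj_ext _ _ (h1 (unop T) p).symm ?_
  have hres : α.hom.app (op ((Over.map g).obj (Over.mk (p : shriekObj g F (unop T)).1.1)))
      (shriekMk p.2) = shriekRes g (overBase g p.1) (α.hom.app T p) :=
    (congrArg (fun q => α.hom.app _ q) (shriekRes_overBase p).symm).trans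
      (NatTrans.naturality_apply α.hom (overBase g p.1).op p)
  refine (congrArg _ (shriekVal_congr hres ((h1 _ _).trans rfl)
    ((Category.id_comp _).trans (h1 _ _)))).trans ?_
  refine (congrArg _ (map_map_eq _ _ (Over.homMk (𝟙 _) ((Category.id_comp _).trans (h1 _ _)) :
      Over.mk (p : shriekObj g F (unop T)).1.1 ⟶ Over.mk (α.hom.app (op (unop T)) p : shriekObj g F' (unop T)).1.1)
    (Category.id_comp _) _)).trans ?_
  exact (map_map_eq _ _ (𝟙 _) (Category.id_comp _) _).trans (map_eq_self _ rfl _)

section Fibre

variable {G : Sp S'} (π : G ⟶ (yon S').obj (Over.mk g))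

/-- Sections of the fibre of a sheaf over the new base. -/
abbrev fibreObj (Z : Over S) : Type (u + 1) :=
  {x : G.obj.obj (op ((Over.map g).obj Z)) // (π.hom.app _ x).down.left = Z.hom}

/-- The fibre of a sheaf over the new base as a presheaf. -/
def fibreP : (Over S)ᵒᵖ ⥤ Type (u + 1) where
  obj Z := fibreObj g π (unop Z)
  map {Z Z'} k := ↾fun x => (⟨G.obj.map ((Over.map g).map k.unop).op x.1, by
    rw [NatTrans.naturality_apply]
    exact (congrArg (k.unop.left ≫ ·) x.2).trans (Over.w k.unop)⟩ : fibreObj g π (unop Z'))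
  map_id Z := ConcreteCategory.hom_ext _ _ fun x => Subtype.ext (by
    show G.obj.map ((Over.map g).map (𝟙 (unop Z))).op _ = _
    rw [CategoryTheory.Functor.map_id, op_id, Functor.map_id_apply]
    rfl)
  map_comp k l := ConcreteCategory.hom_ext _ _ fun x => Subtype.ext (by
    show G.obj.map ((Over.map g).map (l.unop ≫ k.unop)).op _ = _
    rw [Functor.map_comp, op_comp, Functor.map_comp_apply]
    rfl)

theorem isSheaf_fibreP : Presieve.IsSheaf (J S) (fibreP g π) := by
  intro Z R hR x hx
  let RG := (Scheme.fppfTopology.overMapPullback (Type (u + 1)) g).obj G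
  have hG : Presieve.IsSheaf (J S) RG.obj := (isSheaf_iff_isSheaf_of_type _ _).1 RG.property
  let Rh := (Scheme.fppfTopology.overMapPullback (Type (u + 1)) g).obj ((yon S').obj (Over.mk g))
  have hH : Presieve.IsSheaf (J S) Rh.obj := (isSheaf_iff_isSheaf_of_type _ _).1 Rh.property
  let y : Presieve.FamilyOfElements RG.obj R.arrows := fun W k hk => (x k hk : fibreObj g π W).1
  have hy : y.Compatible := fun Y₁ Y₂ W g₁ g₂ f₁ f₂ h₁ h₂ e =>
    congrArg (fun z : fibreObj g π W => z.1) (hx g₁ g₂ h₁ h₂ e)
  obtain ⟨s, hs, hsu⟩ := hG R hR y hy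
  have hπ : π.hom.app _ s = ULift.up (Over.homMk Z.hom rfl : (Over.map g).obj Z ⟶ Over.mk g) := by
    refine (hH R hR).isSeparatedFor.ext fun W k hk => ?_
    refine (NatTrans.naturality_apply π.hom _ s).symm.trans ?_
    refine (congrArg (fun z => π.hom.app _ z) (hs k hk)).trans ?_
    exact ULift.ext _ _ (Over.OverMorphism.ext ((x k hk : fibreObj g π W).2.trans (Over.w k).symm))
  refine ⟨(⟨s, congrArg (fun z => CommaMorphism.left (ULift.down z)) hπ⟩ : fibreObj g π Z),
    fun W k hk => Subtype.ext (hs k hk), fun s' hs' => ?_⟩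
  exact Subtype.ext (hsu (s' : fibreObj g π Z).1 fun W k hk =>
    congrArg (fun z : fibreObj g π W => z.1) (hs' k hk))

/-- The fibre of a sheaf over the new base. -/
def fibre : Sp S := ⟨fibreP g π, (isSheaf_iff_isSheaf_of_type _ _).2 (isSheaf_fibreP g π)⟩

theorem exists_shriek_fibre_iso :
    ∃ e : (shriek g).obj (fibre g π) ≅ G, e.hom ≫ π = shriekToBase g (fibre g π) := by
  let incl : fibre g π ⟶ (Scheme.fppfTopology.overMapPullback (Type (u + 1)) g).obj G :=
    ⟨{ app := fun Z => ↾fun x => (x : fibreObj g π (unop Z)).1 }⟩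
  let k : (shriek g).obj (fibre g π) ⟶ G := (shriekHomEquiv g _ _).symm incl
  have hk : ∀ (T : Over S') (p : shriekObj g (fibre g π) T), k.hom.app (op T) p =
      G.obj.map (Over.homMk (𝟙 T.left) ((Category.id_comp _).trans p.1.2) :
        T ⟶ (Over.map g).obj (Over.mk p.1.1)).op (p.2 : fibreObj g π (Over.mk p.1.1)).1 :=
    fun T p => rfl
  have hkπ : ∀ (T : Over S') (p : shriekObj g (fibre g π) T),
      π.hom.app (op T) (k.hom.app (op T) p) = (shriekToBase g (fibre g π)).hom.app (op T) p := by
    intro T p
    rw [hk, NatTrans.naturality_apply]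
    exact ULift.ext _ _ (Over.OverMorphism.ext
      ((Category.id_comp _).trans (p.2 : fibreObj g π (Over.mk p.1.1)).2))
  have hb : ∀ T : Over S', Function.Bijective (k.hom.app (op T)) := by
    intro T
    constructor
    · intro p q e
      have e1 : p.1 = q.1 := Subtype.ext (congrArg (fun z => CommaMorphism.left (ULift.down z))
        ((hkπ T p).symm.trans ((congrArg _ e).trans (hkπ T q))))
      obtain ⟨x, z⟩ := p
      obtain ⟨x', z'⟩ := q
      obtain rfl : x = x' := e1
      rw [hk, hk] at e
      let i : T ≅ (Over.map g).obj (Over.mk x.1) :=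
        Over.isoMk (Iso.refl _) ((Category.id_comp _).trans x.2)
      have : Function.Injective (G.obj.map i.hom.op) := ((G.obj.mapIso i.op).toEquiv).injective
      have ez : z = z' := Subtype.ext (this e)
      rw [ez]
    · intro y
      let b : T ⟶ Over.mk g := (π.hom.app (op T) y).down
      let x : BasePt g T := ⟨b.left, Over.w b⟩
      refine ⟨⟨x, (⟨G.obj.map (overBase g x).op y, ?_⟩ : fibreObj g π (Over.mk x.1))⟩, ?_⟩
      · rw [NatTrans.naturality_apply]
        exact Category.id_comp _
      · rw [hk]
        show G.obj.map _ (G.obj.map _ y) = y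
        rw [← Functor.map_comp_apply, ← op_comp]
        refine Eq.trans ?_ (Functor.map_id_apply G.obj _ y)
        congr 2
  have : ∀ T, IsIso (((sheafToPresheaf _ _).map k).app T) := fun T =>
    (isIso_iff_bijective _).2 (hb (unop T))
  have : IsIso ((sheafToPresheaf _ _).map k) := NatIso.isIso_of_isIso_app _
  have : IsIso k := isIso_of_reflects_iso k (sheafToPresheaf _ _)
  refine ⟨asIso k, ?_⟩
  ext T p
  exact hkπ (unop T) p

end Fibre

/-- Algebraic spaces over `S` as algebraic spaces over `S'` with a map to `S`. -/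
def spaceShriek : Space S ⥤ Over ((ofScheme S').obj (Over.mk g)) where
  obj F := Over.mk (Y := (⟨(shriek g).obj F.obj, (isAlgSpace_shriek_iff g _).2 F.property⟩ : Space S'))
    (ObjectProperty.homMk (shriekToBase g F.obj))
  map a := Over.homMk (ObjectProperty.homMk ((shriek g).map a.hom))
    (ObjectProperty.hom_ext _ (shriekToBase_naturality g a.hom))
  map_id F := Over.OverMorphism.ext (ObjectProperty.hom_ext _ ((shriek g).map_id F.obj))
  map_comp a b := Over.OverMorphism.ext (ObjectProperty.hom_ext _ ((shriek g).map_comp a.hom b.hom))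

instance spaceShriek_faithful : (spaceShriek g).Faithful where
  map_injective {F F' a b} e :=
    ObjectProperty.hom_ext _ (shriek_faithful g (congrArg (fun k => k.left.hom) e))

instance spaceShriek_full : (spaceShriek g).Full where
  map_surjective {F F'} α := by
    obtain ⟨a, ha⟩ := exists_of_over g α.left.hom (congrArg (fun k => k.hom) (Over.w α))
    exact ⟨ObjectProperty.homMk a, Over.OverMorphism.ext (ObjectProperty.hom_ext _ ha)⟩

instance spaceShriek_essSurj : (spaceShriek g).EssSurj where
  mem_essImage Y := by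
    obtain ⟨e, he⟩ := exists_shriek_fibre_iso g (G := Y.left.obj) Y.hom.hom
    have hA : IsAlgSpace (fibre g (G := Y.left.obj) Y.hom.hom) :=
      (isAlgSpace_shriek_iff g _).1 ((isAlgSpace_iff_of_iso e).2 Y.left.property)
    refine ⟨⟨_, hA⟩, ⟨Over.isoMk (ObjectProperty.isoMk _ e) (ObjectProperty.hom_ext _ he)⟩⟩

instance spaceShriek_isEquivalence : (spaceShriek g).IsEquivalence where

/-- The compatibility with the extension of sheaves. -/
def spaceShriekIso : spaceShriek g ⋙ Over.forget _ ⋙ ObjectProperty.ι (IsAlgSpace (S := S')) ≅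
    ObjectProperty.ι (IsAlgSpace (S := S)) ⋙ (Over.map g).sheafPullback (Type (u + 1)) (J S) (J S') :=
  (NatIso.ofComponents (fun _ => Iso.refl _) (fun a =>
    (Category.comp_id _).trans (Category.id_comp _).symm) :
      spaceShriek g ⋙ Over.forget _ ⋙ ObjectProperty.ι (IsAlgSpace (S := S')) ≅
        ObjectProperty.ι (IsAlgSpace (S := S)) ⋙ shriek g) ≪≫
    Functor.isoWhiskerLeft _ (shriekIso g).symm

end

end Groth.AlgSp3
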