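import Mathlib.RingTheory.Etale.StandardEtale
import Mathlib.RingTheory.Unramified.LocalStructure
import Mathlib.RingTheory.Ideal.GoingUp
/-!
# Sections vanishing over a schematically dense set of a standard etale algebra
-/

set_option autoImplicit false
universe u v w

namespace Groth.AlgSp3

variable {R : Type u} [CommRing R] (H : Set R)

/-- A set of elements is separating if on every principal open the union of their loci is
schematically dense. -/
def IsSeparatingSet : Prop :=
  ∀ r c : R, (∀ h ∈ H, ∃ k, (r * h) ^ k * c = 0) → ∃ k, r ^ k * c = 0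

variable {H}

theorem eq_zero_of_isSeparatingSet (hH : IsSeparatingSet H) {C : Type v} [CommRing C] [Algebra R C]
    [Module.Finite R C] [Module.Free R C] (g : C) {B : Type w} [CommRing B] [Algebra R B]
    [Algebra C B] [IsScalarTower R C B] [IsLocalization.Away g B] (s : B)
    (hs : ∀ h ∈ H, ∃ k, algebraMap R B (h ^ k) * s = 0) : s = 0 := by
  classical
  by_contra hs0
  let J : Ideal B := LinearMap.ker (LinearMap.toSpanSingleton B B s)
  have hJ : ∀ {b : B}, b ∈ J ↔ b * s = 0 := fun {b} => Iff.rfl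
  have hne : J.comap (algebraMap R B) ≠ ⊤ := by
    intro h
    apply hs0
    have h1 : (1 : B) ∈ J := by rw [← (algebraMap R B).map_one]; exact Ideal.eq_top_iff_one _ |>.1 h
    rwa [hJ, one_mul] at h1
  obtain ⟨m, hm, hm'⟩ := Ideal.exists_le_maximal _ hne
  have := hm.isPrime
  obtain ⟨p, hp, -⟩ := Ideal.exists_minimalPrimes_le hm'
  have := hp.1.1
  let JC : Ideal C := J.comap (algebraMap C B)
  -- no prime over `p` contains both the annihilator and `g`
  have key : ¬ (JC ⊔ Ideal.span {g}).comap (algebraMap R C) ≤ p := by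
    intro h
    obtain ⟨y, hy, hyp, hyR⟩ := Ideal.exists_ideal_over_prime_of_isIntegral p _ h
    obtain ⟨x, hx, hxy⟩ := Ideal.exists_minimalPrimes_le (le_sup_left.trans hy)
    obtain ⟨X, hX, hJX, hXx⟩ := Ideal.exists_comap_eq_of_mem_minimalPrimes (algebraMap C B) x hx
    subst hXx
    have hgX : g ∉ X.comap (algebraMap C B) := fun hg =>
      hX.ne_top' (X.eq_top_of_isUnit_mem (x := algebraMap C B g) hg (IsLocalization.Away.algebraMap_isUnit g))
    have hgy : g ∈ y := hy (Ideal.mem_sup_right (Ideal.mem_span_singleton_self g))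
    have hlt := Ideal.comap_lt_comap_of_integral_mem_sdiff hxy ⟨hgy, hgX⟩
      (Algebra.IsIntegral.isIntegral (R := R) g)
    rw [hyR, Ideal.comap_comap, ← IsScalarTower.algebraMap_eq] at hlt
    exact hlt.not_ge (hp.2 ⟨inferInstance, Ideal.comap_mono hJX⟩ hlt.le)
  obtain ⟨r, hr, hrp⟩ := SetLike.not_le_iff_exists.1 key
  obtain ⟨j, hj, q, hq, hjq⟩ := Submodule.mem_sup.1 hr
  obtain ⟨c, rfl⟩ := Ideal.mem_span_singleton'.1 hq
  obtain ⟨⟨a, d⟩, ha⟩ := IsLocalization.surj (Submonoid.powers g) s
  obtain ⟨l, hl⟩ := d.2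
  -- annihilate by `j`
  obtain ⟨n, hn⟩ : ∃ n, g ^ n * (j * a) = 0 := by
    have : algebraMap C B (j * a) = algebraMap C B 0 := by
      rw [map_mul, map_zero, ← ha, ← mul_assoc, hJ.1 hj, zero_mul]
    obtain ⟨⟨_, n, rfl⟩, hn⟩ := (IsLocalization.eq_iff_exists (Submonoid.powers g) B).1 this
    exact ⟨n, by simpa using hn⟩
  let a₀ := g ^ n * a
  have ha₀ : j * a₀ = 0 := by rw [mul_left_comm, hn]
  have hvan : ∀ h ∈ H, ∃ k, (algebraMap R C (r * h)) ^ k * a₀ = 0 := by
    intro h hh
    obtain ⟨k, hk⟩ := hs h hh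
    have : algebraMap C B (algebraMap R C (h ^ k) * a₀) = algebraMap C B 0 := by
      rw [map_mul, map_mul, map_zero, ← IsScalarTower.algebraMap_apply, ← ha,
        mul_left_comm, ← mul_assoc _ s, hk, zero_mul, mul_zero]
    obtain ⟨⟨_, e, rfl⟩, he⟩ := (IsLocalization.eq_iff_exists (Submonoid.powers g) B).1 this
    replace he : g ^ e * (algebraMap R C (h ^ k) * a₀) = 0 := by simpa using he
    refine ⟨e + k, ?_⟩
    obtain ⟨t, ht⟩ : j ∣ (algebraMap R C r) ^ e - (c * g) ^ e :=
      (dvd_of_eq (by rw [← hjq]; ring : j = algebraMap R C r - c * g)).trans (sub_dvd_pow_sub_pow _ _ e)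
    calc algebraMap R C (r * h) ^ (e + k) * a₀
        = algebraMap R C r ^ k * algebraMap R C h ^ e *
            (algebraMap R C r ^ e * (algebraMap R C (h ^ k) * a₀)) := by
          rw [map_mul, map_pow, mul_pow, pow_add, pow_add]; ring
      _ = algebraMap R C r ^ k * algebraMap R C h ^ e *
            (c ^ e * (g ^ e * (algebraMap R C (h ^ k) * a₀)) +
              t * algebraMap R C (h ^ k) * (j * a₀)) := by
          rw [eq_add_of_sub_eq ht, mul_pow]; ring
      _ = 0 := by rw [he, ha₀]; ring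
  let b := Module.Free.chooseBasis R C
  have hcoord : ∀ i, ∃ k, r ^ k * b.repr a₀ i = 0 := fun i => hH r _ fun h hh => by
    obtain ⟨k, hk⟩ := hvan h hh
    refine ⟨k, ?_⟩
    have : b.repr ((r * h) ^ k • a₀) i = 0 := by
      rw [Algebra.smul_def, map_pow, hk, map_zero]
      rfl
    rwa [map_smul, Finsupp.smul_apply, smul_eq_mul] at this
  choose k hk using hcoord
  have hzero : algebraMap R C (r ^ Finset.univ.sup k) * a₀ = 0 := by
    apply b.repr.injective
    ext i
    rw [← Algebra.smul_def, map_smul, map_zero]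
    obtain ⟨e, he⟩ := Nat.exists_eq_add_of_le (Finset.le_sup (f := k) (Finset.mem_univ i))
    rw [Finsupp.smul_apply, smul_eq_mul, he, pow_add, mul_right_comm, hk, zero_mul]
    rfl
  refine hrp (Ideal.IsPrime.mem_of_pow_mem inferInstance _ (hp.1.2 (show r ^ Finset.univ.sup k ∈ J.comap (algebraMap R B) from hJ.2 ?_)))
  have hu : IsUnit (algebraMap C B (g ^ n) * algebraMap C B g ^ l) := by
    rw [map_pow]
    exact ((IsLocalization.Away.algebraMap_isUnit g).pow n).mul
      ((IsLocalization.Away.algebraMap_isUnit g).pow l)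
  refine hu.mul_right_eq_zero.1 ?_
  have hd : algebraMap C B (d : C) = algebraMap C B g ^ l := by rw [← map_pow]; exact congrArg _ hl.symm
  calc algebraMap C B (g ^ n) * algebraMap C B g ^ l * (algebraMap R B (r ^ Finset.univ.sup k) * s)
      = algebraMap R B (r ^ Finset.univ.sup k) *
          (algebraMap C B (g ^ n) * (s * algebraMap C B (d : C))) := by rw [hd]; ring
    _ = algebraMap C B (algebraMap R C (r ^ Finset.univ.sup k) * a₀) := by
        rw [ha, map_mul, map_mul, ← IsScalarTower.algebraMap_apply]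
    _ = 0 := by rw [hzero, map_zero]

theorem eq_zero_of_isSeparatingSet_of_isStandardEtale (hH : IsSeparatingSet H) {B : Type v}
    [CommRing B] [Algebra R B] [Algebra.IsStandardEtale R B] (s : B)
    (hs : ∀ h ∈ H, ∃ k, algebraMap R B (h ^ k) * s = 0) : s = 0 := by
  obtain ⟨P⟩ := Algebra.IsStandardEtale.nonempty_standardEtalePresentation (R := R) (S := B)
  let e : B ≃ₐ[R] Localization.Away (AdjoinRoot.mk P.P.f P.P.g) :=
    P.equivRing.trans P.P.equivAwayAdjoinRoot
  have := P.P.monic_f.free_adjoinRoot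
  have := P.P.monic_f.finite_adjoinRoot
  apply e.injective
  rw [map_zero]
  refine eq_zero_of_isSeparatingSet hH (AdjoinRoot.mk P.P.f P.P.g) (e s) fun h hh => ?_
  obtain ⟨k, hk⟩ := hs h hh
  exact ⟨k, by rw [← e.commutes, ← map_mul, hk, map_zero]⟩

end Groth.AlgSp3
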