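import Groth.Agent.AlgSp3.ImmersionImage
import Groth.Agent.AlgSp3.DenseAlg
/-!
# Scheme theoretic density on charts
-/

set_option autoImplicit false
set_option backward.isDefEq.respectTransparency.types false
universe u

open CategoryTheory CategoryTheory.Limits AlgebraicGeometry Opposite AlgSp Groth.AlgSpBasic
  TopologicalSpace

namespace Groth.AlgSp3

noncomputable section

theorem res_basicOpen_eq_zero_iff {A : Scheme.{u}} {K : A.Opens} (hK : IsAffineOpen K)
    (h c : Γ(A, K)) :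
    A.presheaf.map (homOfLE (A.basicOpen_le h)).op c = 0 ↔ ∃ k, h ^ k * c = 0 := by
  have := hK.isLocalization_basicOpen h
  rw [← (A.presheaf.map (homOfLE (A.basicOpen_le h)).op).hom.map_zero]
  refine (IsLocalization.eq_iff_exists (Submonoid.powers h) Γ(A, A.basicOpen h)
    (x := c) (y := 0)).trans ⟨?_, ?_⟩
  · rintro ⟨⟨_, k, rfl⟩, hk⟩
    exact ⟨k, by simpa using hk⟩
  · rintro ⟨k, hk⟩
    exact ⟨⟨_, k, rfl⟩, by simpa using hk⟩

/-- Schematic density is preserved by etale base change. -/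
theorem isSchematicallyDense_preimage_of_etale {M A : Scheme.{u}} (q : M ⟶ A) [Etale q]
    {W : A.Opens} (hW : CInt.IsSchematicallyDense W) : CInt.IsSchematicallyDense (q ⁻¹ᵁ W) := by
  intro V
  rw [injective_iff_map_eq_zero]
  intro s hs
  refine M.IsSheaf.section_ext fun x hx => ?_
  obtain ⟨_, ⟨R₀, hR, rfl⟩, hxR, -⟩ :=
    A.isBasis_affineOpens.exists_subset_of_mem_open (Set.mem_univ (q x)) isOpen_univ
  obtain ⟨_, ⟨B₀, hB, rfl⟩, hxB, hBle⟩ := M.isBasis_affineOpens.exists_subset_of_mem_open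
    (show x ∈ V ⊓ q ⁻¹ᵁ R₀ from ⟨hx, hxR⟩) (V ⊓ q ⁻¹ᵁ R₀).isOpen
  have hBV : B₀ ≤ V := fun y hy => (hBle hy).1
  have hBR : B₀ ≤ q ⁻¹ᵁ R₀ := fun y hy => (hBle hy).2
  have het : (q.appLE R₀ B₀ hBR).hom.Etale :=
    HasRingHomProperty.appLE @Etale q inferInstance ⟨R₀, hR⟩ ⟨B₀, hB⟩ hBR
  algebraize [(q.appLE R₀ B₀ hBR).hom]
  have : Algebra.Etale Γ(A, R₀) Γ(M, B₀) := het.toAlgebra
  have : (hB.primeIdealOf ⟨x, hxB⟩).asIdeal.IsPrime := (hB.primeIdealOf ⟨x, hxB⟩).isPrime
  obtain ⟨f, hf, hstd⟩ := Algebra.IsEtaleAt.exists_isStandardEtale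
    (R := Γ(A, R₀)) (hB.primeIdealOf ⟨x, hxB⟩).asIdeal
  let H : Set Γ(A, R₀) := {h | A.basicOpen h ≤ W}
  have hH : IsSeparatingSet H := by
    intro r c hc
    refine (res_basicOpen_eq_zero_iff hR r c).1 (hW (A.basicOpen r) ?_)
    rw [map_zero]
    refine A.IsSheaf.section_ext fun y hy => ?_
    obtain ⟨h, hhW, hyh⟩ := hR.exists_basicOpen_le (V := W) ⟨y, hy.2⟩ (A.basicOpen_le r hy.1)
    have hle : A.basicOpen (r * h) ≤ A.basicOpen r ⊓ W := by
      rw [Scheme.basicOpen_mul]; exact inf_le_inf_left _ hhW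
    refine ⟨A.basicOpen (r * h), hle, by rw [Scheme.basicOpen_mul]; exact ⟨hy.1, hyh⟩, ?_⟩
    rw [map_zero, ← CommRingCat.comp_apply, ← Functor.map_comp, ← CommRingCat.comp_apply,
      ← Functor.map_comp]
    exact (res_basicOpen_eq_zero_iff hR (r * h) c).2 (hc h hhW)
  let t := M.presheaf.map (homOfLE hBV).op s
  have h0 := eq_zero_of_isSeparatingSet_of_isStandardEtale hH
    (algebraMap Γ(M, B₀) (Localization.Away f) t) fun h hh => by
    obtain ⟨k, hk⟩ := (res_basicOpen_eq_zero_iff hB (q.appLE R₀ B₀ hBR h) t).1 (by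
      have hle : M.basicOpen (q.appLE R₀ B₀ hBR h) ≤ V ⊓ q ⁻¹ᵁ W := by
        refine le_inf ((M.basicOpen_le _).trans hBV) ?_
        rw [Scheme.Hom.appLE, CommRingCat.comp_apply, Scheme.basicOpen_res,
          ← Scheme.preimage_basicOpen]
        exact inf_le_right.trans (q.preimage_mono hh)
      have e := congrArg (M.presheaf.map (homOfLE hle).op) hs
      rw [map_zero, ← CommRingCat.comp_apply, ← Functor.map_comp] at e
      rw [← CommRingCat.comp_apply, ← Functor.map_comp]
      exact e)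
    refine ⟨k, ?_⟩
    rw [IsScalarTower.algebraMap_apply Γ(A, R₀) Γ(M, B₀) (Localization.Away f), ← map_mul, map_pow]
    exact (congrArg (algebraMap Γ(M, B₀) (Localization.Away f)) hk).trans (map_zero _)
  rw [← (algebraMap Γ(M, B₀) (Localization.Away f)).map_zero] at h0
  obtain ⟨⟨_, k, rfl⟩, hk⟩ := (IsLocalization.eq_iff_exists (Submonoid.powers f) _).1 h0
  refine ⟨M.basicOpen f, (M.basicOpen_le f).trans hBV, ?_, ?_⟩
  · suffices h : hB.fromSpec (hB.primeIdealOf ⟨x, hxB⟩) ∈ M.basicOpen f by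
      rwa [hB.fromSpec_primeIdealOf ⟨x, hxB⟩] at h
    show hB.primeIdealOf ⟨x, hxB⟩ ∈ hB.fromSpec ⁻¹ᵁ M.basicOpen f
    rw [hB.fromSpec_preimage_basicOpen]
    exact hf
  · have e := (res_basicOpen_eq_zero_iff hB f t).2 ⟨k, by simpa using hk⟩
    rw [← CommRingCat.comp_apply, ← Functor.map_comp] at e
    rw [map_zero]
    exact e

theorem app_injective_of_flat_surjective {X Y : Scheme.{u}} (g : X ⟶ Y) [Flat g] [Surjective g]
    (V : Y.Opens) : Function.Injective (g.app V) := by
  rw [injective_iff_map_eq_zero]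
  intro s hs
  refine Y.IsSheaf.section_ext fun y hy => ?_
  obtain ⟨z, rfl⟩ := g.surjective y
  have hinj : Function.Injective (g.stalkMap z) := by
    algebraize [(g.stalkMap z).hom]
    have : Module.FaithfullyFlat (Y.presheaf.stalk (g z)) (X.presheaf.stalk z) :=
      @Module.FaithfullyFlat.of_flat_of_isLocalHom _ _ _ _ _ _ _ (Flat.stalkMap g z)
        (g.toLRSHom.prop z)
    exact ‹RingHom.FaithfullyFlat _›.injective
  have h0 : Y.presheaf.germ V (g z) hy s = 0 := by
    apply hinj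
    rw [map_zero, Scheme.Hom.germ_stalkMap_apply, hs, map_zero]
  obtain ⟨W, hyW, iU, iU', e⟩ := Y.presheaf.germ_eq (g z) hy hy s 0 (by rw [h0, map_zero])
  exact ⟨W, iU.le, hyW, e⟩

/-- Schematic density descends along flat surjections. -/
theorem isSchematicallyDense_of_preimage {X Y : Scheme.{u}} (g : X ⟶ Y) [Flat g] [Surjective g]
    {W : Y.Opens} (hW : CInt.IsSchematicallyDense (g ⁻¹ᵁ W)) : CInt.IsSchematicallyDense W := by
  intro V a b hab
  apply app_injective_of_flat_surjective g V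
  apply hW (g ⁻¹ᵁ V)
  have := congrArg (g.app (V ⊓ W)) hab
  rw [← CommRingCat.comp_apply, ← CommRingCat.comp_apply, g.naturality] at this
  exact this

variable {S : Scheme.{u}} {X G : Sp S} {j : G ⟶ X}

/-- The inverse image in a chart of an open subspace. -/
def preimageOpens (hj : RepWith @IsOpenImmersion j) {V : Over S} (φ : (yon S).obj V ⟶ X) :
    V.left.Opens :=
  ⟨Points.ofPt φ ⁻¹' Set.range (Points.map j), by
    obtain ⟨M, m, fst, sq⟩ := hj.rep φ
    rw [← range_left_eq_preimage sq]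
    exact (hj.property φ fst m sq).base_open.isOpen_range⟩

theorem preimageOpens_comp (hj : RepWith @IsOpenImmersion j) {V V' : Over S}
    (φ : (yon S).obj V ⟶ X) (c : V' ⟶ V) :
    preimageOpens hj ((yon S).map c ≫ φ) = c.left ⁻¹ᵁ preimageOpens hj φ := by
  ext v
  show Points.ofPt _ v ∈ Set.range (Points.map j) ↔ _
  rw [ofPt_comp_yon]
  rfl

theorem eq_preimageOpens_of_isPullback (hj : RepWith @IsOpenImmersion j) {V : Over S}
    {φ : (yon S).obj V ⟶ X} {W : V.left.Opens}
    {fst : (yon S).obj (Over.mk (W.ι ≫ V.hom)) ⟶ G}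
    (sq : IsPullback fst
      ((yon S).map (Over.homMk W.ι : Over.mk (W.ι ≫ V.hom) ⟶ V)) j φ) :
    W = preimageOpens hj φ :=
  TopologicalSpace.Opens.ext ((Scheme.Opens.range_ι W).symm.trans (range_left_eq_preimage sq))

theorem exists_isPullback_preimageOpens (hj : RepWith @IsOpenImmersion j) {V : Over S}
    (φ : (yon S).obj V ⟶ X) :
    ∃ fst, IsPullback fst ((yon S).map (Over.homMk (preimageOpens hj φ).ι :
      Over.mk ((preimageOpens hj φ).ι ≫ V.hom) ⟶ V)) j φ := by
  obtain ⟨M, m, fst, sq⟩ := hj.rep φ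
  have : IsOpenImmersion m.left := hj.property φ fst m sq
  have hr : Set.range m.left = Set.range (preimageOpens hj φ).ι := by
    rw [Scheme.Opens.range_ι]; exact range_left_eq_preimage sq
  let e : Over.mk ((preimageOpens hj φ).ι ≫ V.hom) ≅ M :=
    Over.isoMk (IsOpenImmersion.isoOfRangeEq _ m.left hr.symm) (by
      show _ ≫ M.hom = (preimageOpens hj φ).ι ≫ V.hom
      rw [← Over.w m, ← Category.assoc, IsOpenImmersion.isoOfRangeEq_hom_fac (preimageOpens hj φ).ι m.left hr.symm])
  have he : e.hom ≫ m = Over.homMk (preimageOpens hj φ).ι :=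
    Over.OverMorphism.ext (IsOpenImmersion.isoOfRangeEq_hom_fac (preimageOpens hj φ).ι m.left hr.symm)
  exact ⟨(yon S).map e.hom ≫ fst, sq.of_iso ((yon S).mapIso e.symm) (Iso.refl _) (Iso.refl _)
    (Iso.refl _) (by simp [← Functor.map_comp_assoc]) (by
      simp only [Functor.mapIso_hom, Iso.symm_hom, Iso.refl_hom, Category.comp_id,
        ← Functor.map_comp]
      congr 1
      rw [← he, Iso.inv_hom_id_assoc]) (by simp) (by simp)⟩

theorem isSchDense_of_chart (hj : RepWith @IsOpenImmersion j) {V : Over S}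
    {φ : (yon S).obj V ⟶ X} (hφ : RepWith @Etale φ) (hφs : RepWith @Surjective φ)
    (h : CInt.IsSchematicallyDense (preimageOpens hj φ)) : IsSchDense j := by
  obtain ⟨fst, sq⟩ := exists_isPullback_preimageOpens hj φ
  exact ⟨hj, V, φ, _, fst, hφ, hφs, sq, h⟩

/-- Schematic density holds on every etale chart. -/
theorem isSchematicallyDense_preimageOpens (hX : IsAlgSpace X) (hd : IsSchDense j) {V : Over S}
    {φ : (yon S).obj V ⟶ X} (hφ : RepWith @Etale φ) :
    CInt.IsSchematicallyDense (preimageOpens hd.1 φ) := by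
  obtain ⟨hj, V₀, φ₀, W₀, fst₀, h₀, h₀s, sq₀, hd₀⟩ := hd
  obtain ⟨M, m, n, sq⟩ := exists_pullback_of_diag hX.diag φ₀ φ
  have : Etale m.left := (repWith_yon_map_iff _ m).1 (repWith_of_isPullback sq.flip hφ)
  have : Etale n.left := (repWith_yon_map_iff _ n).1 (repWith_of_isPullback sq h₀)
  have : Surjective n.left := (repWith_yon_map_iff _ n).1 (repWith_of_isPullback sq h₀s)
  have h := isSchematicallyDense_preimage_of_etale m.left hd₀
  rw [eq_preimageOpens_of_isPullback hj sq₀, ← preimageOpens_comp, sq.w, preimageOpens_comp] at h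
  exact isSchematicallyDense_of_preimage n.left h

theorem quasiCompact_preimageOpens_ι (hj : RepWith @IsOpenImmersion j)
    (hq : IsQuasiCompactMor j) {V : Over S} (φ : (yon S).obj V ⟶ X) :
    QuasiCompact (preimageOpens hj φ).ι := by
  obtain ⟨fst, sq⟩ := exists_isPullback_preimageOpens hj φ
  exact (repWith_of_isQuasiCompactMor hj.rep hq).property φ fst _ sq

end

end Groth.AlgSp3
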