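import Groth.Agent.AlgSpBasic.ImmersionDescent
/-!
# Subspaces descending from an invariant monomorphism into a chart
-/

set_option autoImplicit false
set_option backward.isDefEq.respectTransparency.types false
universe u

open CategoryTheory CategoryTheory.Limits AlgebraicGeometry Opposite AlgSp Groth.AlgSpBasic

namespace Groth.AlgSp3

noncomputable section

variable {S : Scheme.{u}}

/-- Factorisation through a monomorphism of sheaves is local on the source. -/
theorem exists_lift_of_mono_of_covering {A B : Sp S} (k : A ⟶ B) [Mono k] {T : Over S}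
    (g : (yon S).obj T ⟶ B) {R : Sieve T} (hR : R ∈ J S T)
    (h : ∀ ⦃T' : Over S⦄ (φ : T' ⟶ T), R φ →
      ∃ c : (yon S).obj T' ⟶ A, c ≫ k = (yon S).map φ ≫ g) :
    ∃ c : (yon S).obj T ⟶ A, c ≫ k = g := by
  choose c hc using h
  have hkm : Mono ((sheafToPresheaf (J S) (Type (u + 1))).map k) := inferInstance
  have hinj : ∀ T' : (Over S)ᵒᵖ, Function.Injective (k.hom.app T') := fun T' =>
    (CategoryTheory.mono_iff_injective _).1 ((NatTrans.mono_iff_mono_app _).1 hkm T')
  let x : Presieve.FamilyOfElements A.obj R.arrows := fun T' φ hφ => yEquiv (c φ hφ)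
  have hx : ∀ ⦃T' : Over S⦄ (φ : T' ⟶ T) (hφ : R φ),
      k.hom.app (op T') (x φ hφ) = B.obj.map φ.op (yEquiv g) := fun T' φ hφ =>
    ((J S).uliftYonedaEquiv_comp _ k).symm.trans ((congrArg yEquiv (hc φ hφ)).trans
      ((J S).uliftYonedaEquiv_naturality g φ).symm)
  have hcompat : x.Compatible := by
    intro T₁ T₂ Z g₁ g₂ f₁ f₂ h₁ h₂ e
    apply hinj
    have n : ∀ {T₁} (g₁ : Z ⟶ T₁) (f₁ : T₁ ⟶ T) (h₁ : R f₁),
        k.hom.app (op Z) (A.obj.map g₁.op (x f₁ h₁)) = B.obj.map (g₁ ≫ f₁).op (yEquiv g) := by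
      intro T₁ g₁ f₁ h₁
      refine (ConcreteCategory.congr_hom (k.hom.naturality g₁.op) _).trans ?_
      refine (congrArg (B.obj.map g₁.op) (hx f₁ h₁)).trans ?_
      exact (ConcreteCategory.congr_hom (B.obj.map_comp f₁.op g₁.op) _).symm
    exact (n g₁ f₁ h₁).trans ((congrArg (fun w => B.obj.map (Quiver.Hom.op w) (yEquiv g)) e).trans
      (n g₂ f₂ h₂).symm)
  have hA := (isSheaf_iff_isSheaf_of_type _ _).1 A.property R hR
  have hB := ((isSheaf_iff_isSheaf_of_type _ _).1 B.property R hR).isSeparatedFor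
  refine ⟨yEquiv.symm (hA.amalgamate x hcompat), yEquiv.injective ?_⟩
  refine ((J S).uliftYonedaEquiv_comp _ k).trans (hB.ext fun T' φ hφ => ?_)
  rw [Equiv.apply_symm_apply]
  refine (ConcreteCategory.congr_hom (k.hom.naturality φ.op) _).symm.trans ?_
  exact (congrArg (k.hom.app (op T')) (hA.valid_glue hcompat φ hφ)).trans (hx φ hφ)

variable {X : Sp S} {U Z' : Over S}

/-- A monomorphism into a chart is invariant if two points of the chart with the same image
in the space lie in it together. -/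
def IsInvariant (p : (yon S).obj U ⟶ X) (i : Z' ⟶ U) : Prop :=
  ∀ ⦃T : Over S⦄ (a b : T ⟶ U), (yon S).map a ≫ p = (yon S).map b ≫ p →
    (∃ c, c ≫ i = a) → ∃ c, c ≫ i = b

variable (p : (yon S).obj U ⟶ X) (i : Z' ⟶ U)

/-- The sections all of whose lifts to the chart factor through `i`. -/
def subFunctor : Subfunctor X.obj where
  obj T := {x | ∀ ⦃T' : Over S⦄ (φ : T' ⟶ unop T) (v : T' ⟶ U),
    (yon S).map v ≫ p = (yon S).map φ ≫ yEquiv.symm x → ∃ c, c ≫ i = v}
  map {T T'} f x hx T'' φ v e := by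
    refine hx (φ ≫ f.unop) v ?_
    rw [e, Functor.map_comp, Category.assoc]
    exact congrArg _ ((J S).uliftYonedaEquiv_symm_map f x)

theorem subFunctor_isSheaf [Mono i] : Presheaf.IsSheaf (J S) (subFunctor p i).toFunctor := by
  rw [isSheaf_iff_isSheaf_of_type,
    Subfunctor.isSheaf_iff (h := (isSheaf_iff_isSheaf_of_type _ _).1 X.property)]
  intro T x hx T' φ v e
  obtain ⟨c, hc⟩ := exists_lift_of_mono_of_covering ((yon S).map i) ((yon S).map v)
    ((J S).pullback_stable φ hx) fun T'' f hf => by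
      have hmem : X.obj.map (f ≫ φ).op x ∈ (subFunctor p i).obj (op T'') := hf
      obtain ⟨c, hc⟩ := hmem (𝟙 _) (f ≫ v) (by
        rw [CategoryTheory.Functor.map_id, Category.id_comp, Functor.map_comp, Category.assoc, e,
          ← Category.assoc, ← Functor.map_comp]
        exact ((J S).uliftYonedaEquiv_symm_map (f ≫ φ).op x).symm)
      exact ⟨(yon S).map c, by rw [← Functor.map_comp, hc, Functor.map_comp]⟩
  obtain ⟨c, rfl⟩ := (yon S).map_surjective c
  exact ⟨c, (yon S).map_injective ((Functor.map_comp _ _ _).trans hc)⟩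

variable [Mono i]

/-- The subspace cut out by an invariant monomorphism. -/
def subSp : Sp S := ⟨(subFunctor p i).toFunctor, subFunctor_isSheaf p i⟩

/-- The inclusion of the subspace cut out by an invariant monomorphism. -/
def subι : subSp p i ⟶ X := ObjectProperty.homMk (subFunctor p i).ι

theorem exists_lift_subι_iff {T : Over S} (g : (yon S).obj T ⟶ X) :
    (∃ g' : (yon S).obj T ⟶ subSp p i, g' ≫ subι p i = g) ↔
      ∀ ⦃T' : Over S⦄ (φ : T' ⟶ T) (v : T' ⟶ U),
        (yon S).map v ≫ p = (yon S).map φ ≫ g → ∃ c, c ≫ i = v := by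
  constructor
  · rintro ⟨g', rfl⟩ T' φ v e
    refine (yEquiv g').2 φ v (e.trans (congrArg _ ?_))
    apply yEquiv.injective
    rw [Equiv.apply_symm_apply]
    exact (J S).uliftYonedaEquiv_comp g' (subι p i)
  · intro h
    refine ⟨yEquiv.symm (⟨yEquiv g, fun T' φ v e => h φ v (by rwa [Equiv.symm_apply_apply] at e)⟩ :
      (subSp p i).obj.obj (op T)), yEquiv.injective ?_⟩
    refine ((J S).uliftYonedaEquiv_comp _ (subι p i)).trans ?_
    rw [Equiv.apply_symm_apply]
    rfl

instance : Mono (subι p i) :=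
  have : Mono (subFunctor p i).ι := inferInstance
  (sheafToPresheaf (J S) (Type (u + 1))).mono_of_mono_map this

theorem exists_isPullback_subι (hi : IsInvariant p i) :
    ∃ q : (yon S).obj Z' ⟶ subSp p i, IsPullback q ((yon S).map i) (subι p i) p := by
  obtain ⟨q, hq⟩ := (exists_lift_subι_iff p i ((yon S).map i ≫ p)).2 fun T' φ v e =>
    hi (φ ≫ i) v (by rw [Functor.map_comp, Category.assoc, e]) ⟨φ, rfl⟩
  refine ⟨q, isPullback_of_lifts hq ?_ ?_⟩
  · intro T b c e
    obtain ⟨γ, rfl⟩ := (yon S).map_surjective c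
    obtain ⟨δ, hδ⟩ := (exists_lift_subι_iff p i _).1 ⟨b, e⟩ (𝟙 T) γ
      (by rw [CategoryTheory.Functor.map_id, Category.id_comp])
    refine ⟨(yon S).map δ, (cancel_mono (subι p i)).1 ?_, by rw [← Functor.map_comp, hδ]⟩
    rw [Category.assoc, hq, ← Category.assoc, ← Functor.map_comp, hδ, e]
  · intro T a a' _ e
    exact (cancel_mono ((yon S).map i)).1 e

theorem isAlgSpace_subSp (hX : IsAlgSpace X) (hp : RepWith @Etale p) (hps : RepWith @Surjective p)
    (hi : IsInvariant p i) : IsAlgSpace (subSp p i) where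
  diag := representable_diag_of_jointlyMono (subι p i) (subι p i)
    (fun _ a b e _ => (cancel_mono (subι p i)).1 e) hX.diag hX.diag
  atlas := by
    obtain ⟨q, sq⟩ := exists_isPullback_subι p i hi
    exact ⟨Z', q, repWith_of_isPullback sq.flip hp, repWith_of_isPullback sq.flip hps⟩

end

end Groth.AlgSp3
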