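import Groth.Agent.AlgSp3.NormGlobal
import Groth.Agent.AlgSp3.ImmersionImage
import Groth.Agent.AlgSp2.FiniteMor
import Mathlib.AlgebraicGeometry.Normalization

/-!
# Properties of the normalization of an algebraic space in another
-/

set_option autoImplicit false
set_option backward.isDefEq.respectTransparency.types false
universe u

open CategoryTheory CategoryTheory.Limits AlgebraicGeometry Opposite AlgSp

namespace Groth.AlgSp3

open Groth.AlgSpBasic

noncomputable section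

variable {S : Scheme.{u}} {X Y X' : Sp S} {f : Y ⟶ X} {ν : X' ⟶ X} {f' : Y ⟶ X'}

/-- The normalization is unique up to isomorphism. -/
theorem exists_iso_of_isRelNormalization {X'' : Sp S} {ν' : X'' ⟶ X} {f'' : Y ⟶ X''}
    (hX' : IsAlgSpace X') (hX'' : IsAlgSpace X'') (h : IsRelNormalization f ν f')
    (h' : IsRelNormalization f ν' f'') :
    ∃ e : X'' ≅ X', e.hom ≫ ν = ν' ∧ f'' ≫ e.hom = f' := by
  obtain ⟨a, ⟨ha₁, ha₂⟩, -⟩ := h'.2.2 hX' ν f' h.2.1 h.1
  obtain ⟨b, ⟨hb₁, hb₂⟩, -⟩ := h.2.2 hX'' ν' f'' h'.2.1 h'.1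
  refine ⟨⟨a, b, ?_, ?_⟩, ha₂, ha₁⟩
  · exact (h'.2.2 hX'' ν' f'' h'.2.1 h'.1).unique
      ⟨by rw [← Category.assoc, ha₁, hb₁], by rw [Category.assoc, hb₂, ha₂]⟩
      ⟨Category.comp_id _, Category.id_comp _⟩
  · exact (h.2.2 hX' ν f' h.2.1 h.1).unique
      ⟨by rw [← Category.assoc, hb₁, ha₁], by rw [Category.assoc, ha₂, hb₂]⟩
      ⟨Category.comp_id _, Category.id_comp _⟩

/-- A given normalization has a stable chart. -/
theorem exists_stable_chart (hX : IsAlgSpace X) (hY : IsAlgSpace Y) (hX' : IsAlgSpace X')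
    (hqc : IsQuasiCompactMor f) (hqs : IsQuasiSeparatedMor f) (hn : IsRelNormalization f ν f') :
    ∃ (U : Over S) (p : (yon S).obj U ⟶ X) (P : Sp S)
      (qP : P ⟶ Y) (π : P ⟶ (yon S).obj U) (N : Over S) (q : (yon S).obj N ⟶ X') (ν₀ : N ⟶ U)
      (f₀ : P ⟶ (yon S).obj N),
      RepWith @Etale p ∧ RepWith @Surjective p ∧
        IsPullback qP π f p ∧ IsPullback q ((yon S).map ν₀) ν p ∧ f₀ ≫ q = qP ≫ f' ∧
          IsStable π ν₀ f₀ := by
  obtain ⟨X'', ν', f'', U, p, P, qP, π, N, q, ν₀, f₀, hX'', hn', he, hs, sqP, sqN, hf₀, h⟩ :=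
    exists_normalization hX hY f hqc hqs
  obtain ⟨e, he₁, he₂⟩ := exists_iso_of_isRelNormalization hX' hX'' hn hn'
  exact ⟨U, p, P, qP, π, N, q ≫ e.hom, ν₀, f₀, he, hs, sqP,
    sqN.of_iso (Iso.refl _) e (Iso.refl _) (Iso.refl _) (by simp) (by simp) (by simp [he₁])
      (by simp), by rw [reassoc_of% hf₀, he₂], h⟩

/-- Normalizations commute with etale base change. -/
theorem isRelNormalization_etale_baseChange {W YW X'W : Sp S} (hX : IsAlgSpace X)
    (hY : IsAlgSpace Y) (hX' : IsAlgSpace X') (hW : IsAlgSpace W) (hqc : IsQuasiCompactMor f)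
    (hqs : IsQuasiSeparatedMor f) (hn : IsRelNormalization f ν f') {w : W ⟶ X} (hw : IsEtaleMor w)
    {a : YW ⟶ Y} {fW : YW ⟶ W} (sq1 : IsPullback a fW f w) {b : X'W ⟶ X'} {νW : X'W ⟶ W}
    (sq2 : IsPullback b νW ν w) {f'W : YW ⟶ X'W} (c1 : f'W ≫ νW = fW) (c2 : f'W ≫ b = a ≫ f') :
    IsRelNormalization fW νW f'W := by
  obtain ⟨U, p, P, qP, π, N, q, ν₀, f₀, hp, hps, sqP, sqN, hf₀, h⟩ :=
    exists_stable_chart hX hY hX' hqc hqs hn
  obtain ⟨W₀, p₀, hp₀, hps₀⟩ := hW.atlas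
  obtain ⟨M, m₁, m₂, sqM⟩ := exists_pullback_of_diag hX.diag p (p₀ ≫ w)
  have hm₁ : Etale m₁.left :=
    (repWith_yon_map_iff _ m₁).1 (repWith_of_isPullback sqM.flip (hw p₀ hp₀))
  let e : (yon S).obj M ⟶ W := (yon S).map m₂ ≫ p₀
  have he : RepWith @Etale e := repWith_comp (repWith_of_isPullback sqM hp) hp₀
  have hes : RepWith @Surjective e := repWith_comp (repWith_of_isPullback sqM hps) hps₀
  have hew : e ≫ w = (yon S).map m₁ ≫ p := by rw [Category.assoc, sqM.w]
  obtain ⟨Q, qQ, πQ, sqQ⟩ : ∃ (Q : Sp S) (qQ : Q ⟶ P) (πQ : Q ⟶ (yon S).obj M),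
      IsPullback qQ πQ π ((yon S).map m₁) := ⟨_, _, _, IsPullback.of_hasPullback _ _⟩
  obtain ⟨N', qN, ν', sqN'⟩ : ∃ (N' : Over S) (qN : N' ⟶ N) (ν' : N' ⟶ M),
      IsPullback qN ν' ν₀ m₁ := ⟨_, _, _, IsPullback.of_hasPullback _ _⟩
  obtain ⟨fQ, hfQ₁, hfQ₂⟩ : ∃ fQ : Q ⟶ (yon S).obj N',
      fQ ≫ (yon S).map qN = qQ ≫ f₀ ∧ fQ ≫ (yon S).map ν' = πQ := by
    have := sqN'.map (yon S)
    have w : (qQ ≫ f₀) ≫ (yon S).map ν₀ = πQ ≫ (yon S).map m₁ := by
      rw [Category.assoc, h.fac, sqQ.w]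
    exact ⟨_, this.lift_fst _ _ w, this.lift_snd _ _ w⟩
  have := hm₁
  have hSt := h.baseChange m₁ sqQ sqN' hfQ₂ hfQ₁
  have wu : (qQ ≫ qP) ≫ f = (πQ ≫ e) ≫ w := by
    rw [Category.assoc, Category.assoc, hew, sqP.w, reassoc_of% sqQ.w]
  obtain ⟨u, hu₁, hu₂⟩ : ∃ u : Q ⟶ YW, u ≫ a = qQ ≫ qP ∧ u ≫ fW = πQ ≫ e :=
    ⟨_, sq1.lift_fst _ _ wu, sq1.lift_snd _ _ wu⟩
  have hu : IsPullback u πQ fW e :=
    IsPullback.of_right (by rw [hu₁, hew]; exact sqQ.paste_horiz sqP) hu₂ sq1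
  have wr : ((yon S).map qN ≫ q) ≫ ν = ((yon S).map ν' ≫ e) ≫ w := by
    rw [Category.assoc, Category.assoc, hew, sqN.w, ← Category.assoc, ← Category.assoc,
      ← Functor.map_comp, ← Functor.map_comp, sqN'.w]
  obtain ⟨r, hr₁, hr₂⟩ : ∃ r : (yon S).obj N' ⟶ X'W,
      r ≫ b = (yon S).map qN ≫ q ∧ r ≫ νW = (yon S).map ν' ≫ e :=
    ⟨_, sq2.lift_fst _ _ wr, sq2.lift_snd _ _ wr⟩
  have hr : IsPullback r ((yon S).map ν') νW e :=
    IsPullback.of_right (by rw [hr₁, hew]; exact (sqN'.map (yon S)).paste_horiz sqN) hr₂ sq2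
  have hν : IsIntegralMor νW :=
    affWith_isIntegralHom_iff.1 (affWith_of_isPullback sq2 (affWith_isIntegralHom_iff.2 hn.2.1))
  refine isRelNormalization_of_isStable hW he hes c1 hν hu hr (sq2.hom_ext ?_ ?_) hSt
  · rw [Category.assoc, Category.assoc, c2, hr₁, reassoc_of% hu₁, reassoc_of% hfQ₁, hf₀]
  · rw [Category.assoc, Category.assoc, c1, hr₂, hu₂, reassoc_of% hfQ₂]

/-- The induced map to an integral space is again a normalization. -/
theorem isRelNormalization_desc {Z : Sp S} (hX : IsAlgSpace X) (hX' : IsAlgSpace X')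
    (hZ : IsAlgSpace Z) (hn : IsRelNormalization f ν f') {π : Z ⟶ X} (hπ : IsIntegralMor π)
    {g : Y ⟶ Z} (hg : g ≫ π = f) {h : X' ⟶ Z} (h1 : f' ≫ h = g) (h2 : h ≫ π = ν) :
    IsRelNormalization g h f' := by
  have hπ' := (AlgSp2.isIntegralMor_iff hZ hX).1 hπ
  have hs : IsSeparatedMor π := (AlgSp2.repWith_isSeparated_iff hπ'.rep).2
    (repWith_mono (Q := @IsSeparated) (fun _ _ k (_ : IsIntegralHom k) => inferInstance) hπ')
  refine ⟨h1, (AlgSp2.finite_integral_of_comp_separated hX' hZ hX hs).2 (h2 ▸ hn.2.1),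
    fun W hW ρ k hρ hk => ?_⟩
  have hρπ : IsIntegralMor (ρ ≫ π) :=
    (AlgSp2.isIntegralMor_iff hW hX).2 (repWith_comp ((AlgSp2.isIntegralMor_iff hW hZ).1 hρ) hπ')
  obtain ⟨m, ⟨hm₁, hm₂⟩, hmu⟩ := hn.2.2 hW (ρ ≫ π) k hρπ (by rw [reassoc_of% hk, hg])
  refine ⟨m, ⟨hm₁, (hn.2.2 hZ π g hπ hg).unique ⟨?_, ?_⟩ ⟨h1, h2⟩⟩, fun m' hm' => ?_⟩
  · rw [reassoc_of% hm₁, hk]
  · rw [Category.assoc, hm₂]
  · exact hmu m' ⟨hm'.1, by rw [reassoc_of% hm'.2, h2]⟩

/-- Relative normalization of schemes is the normalization of spaces. -/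
theorem isRelNormalization_of_scheme {V U N : Over S} (g : V ⟶ U) [QuasiCompact g.left]
    [QuasiSeparated g.left] (k : V ⟶ N) (n : N ⟶ U) (e : N.left ≅ g.left.normalization)
    (he1 : k.left ≫ e.hom = g.left.toNormalization)
    (he2 : e.hom ≫ g.left.fromNormalization = n.left) :
    IsRelNormalization ((yon S).map g) ((yon S).map n) ((yon S).map k) := by
  have hfac : k ≫ n = g := Over.OverMorphism.ext (by
    rw [Over.comp_left, ← he2, ← Category.assoc, he1, Scheme.Hom.toNormalization_fromNormalization])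
  have hint : IsIntegralHom n.left := by
    rw [← he2]
    infer_instance
  refine ⟨by rw [← Functor.map_comp, hfac], isIntegralMor_yon_map n hint, fun Z hZ π g' hπ hg => ?_⟩
  have hπ' := (AlgSp2.isIntegralMor_iff hZ (IsAlgSpace.yon_obj U)).1 hπ
  obtain ⟨Z₀, z, fst, sq⟩ := hπ'.rep (𝟙 ((yon S).obj U))
  have : IsIntegralHom z.left := hπ'.property _ fst z sq
  have : IsIso fst := sq.isIso_fst_of_isIso
  have hfst : fst ≫ π = (yon S).map z := sq.w.trans (Category.comp_id _)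
  obtain ⟨l, hl⟩ := (yon S).map_surjective (g' ≫ inv fst)
  have hlz : l ≫ z = g := (yon S).map_injective (by
    rw [Functor.map_comp, hl, ← hfst, Category.assoc, IsIso.inv_hom_id_assoc, hg])
  have H : g.left = l.left ≫ z.left := congrArg CommaMorphism.left hlz.symm
  let m : N ⟶ Z₀ := Over.homMk (e.hom ≫ g.left.normalizationDesc l.left z.left H) (by
    rw [Category.assoc, ← Over.w z, Scheme.Hom.normalizationDesc_comp_assoc, ← Category.assoc, he2,
      Over.w])
  have hm₁ : k ≫ m = l := Over.OverMorphism.ext (by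
    rw [Over.comp_left]
    show k.left ≫ e.hom ≫ g.left.normalizationDesc l.left z.left H = l.left
    rw [← Category.assoc, he1, Scheme.Hom.toNormalization_normalizationDesc])
  have hm₂ : m ≫ z = n := Over.OverMorphism.ext (by
    rw [Over.comp_left]
    show (e.hom ≫ g.left.normalizationDesc l.left z.left H) ≫ z.left = n.left
    rw [Category.assoc, Scheme.Hom.normalizationDesc_comp, he2])
  refine ⟨(yon S).map m ≫ fst, ⟨?_, ?_⟩, fun m' hm' => ?_⟩
  · rw [← Category.assoc, ← Functor.map_comp, hm₁, hl, Category.assoc, IsIso.inv_hom_id,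
      Category.comp_id]
  · rw [Category.assoc, hfst, ← Functor.map_comp, hm₂]
  · obtain ⟨m₁, hm₁'⟩ := (yon S).map_surjective (m' ≫ inv fst)
    have e₁ : k ≫ m₁ = l := (yon S).map_injective (by
      rw [Functor.map_comp, hm₁', hl, ← Category.assoc, hm'.1])
    have e₂ : m₁ ≫ z = n := (yon S).map_injective (by
      rw [Functor.map_comp, hm₁', ← hfst, Category.assoc, IsIso.inv_hom_id_assoc, hm'.2])
    have : m₁ = m := Over.OverMorphism.ext ((cancel_epi e.inv).1 (by
      refine Scheme.Hom.normalization.hom_ext g.left _ _ z.left ?_ ?_ ?_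
      · rw [← he1]
        simp only [Category.assoc, Iso.hom_inv_id_assoc]
        rw [← Over.comp_left, ← Over.comp_left, e₁, hm₁]
      · rw [Category.assoc, ← Over.comp_left, e₂, ← he2, Iso.inv_hom_id_assoc]
      · rw [Category.assoc, ← Over.comp_left, hm₂, ← he2, Iso.inv_hom_id_assoc]))
    rw [← this, hm₁', Category.assoc, IsIso.inv_hom_id, Category.comp_id]

/-- The normalization in a reduced space is reduced. -/
theorem isReducedSp_of_isRelNormalization (hX : IsAlgSpace X) (hY : IsAlgSpace Y)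
    (hX' : IsAlgSpace X') (hqc : IsQuasiCompactMor f) (hqs : IsQuasiSeparatedMor f)
    (hn : IsRelNormalization f ν f') (hr : IsReducedSp Y) : IsReducedSp X' := by
  obtain ⟨U, p, P, qP, π, N, q, ν₀, f₀, hp, hps, sqP, sqN, hf₀, h⟩ :=
    exists_stable_chart hX hY hX' hqc hqs hn
  refine ⟨N, q, repWith_of_isPullback sqN.flip hp, repWith_of_isPullback sqN.flip hps, ?_⟩
  let 𝒰 := N.left.openCoverOfIsOpenCover
    (fun L : U.left.affineOpens => ν₀.left ⁻¹ᵁ L.1) (eq_top_iff.2 fun x _ => by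
    obtain ⟨_, ⟨L, hL, rfl⟩, hx, -⟩ := U.left.isBasis_affineOpens.exists_subset_of_mem_open
      (show ν₀.left x ∈ (⊤ : U.left.Opens) from trivial) (⊤ : U.left.Opens).isOpen
    exact TopologicalSpace.Opens.mem_iSup.2 ⟨⟨L, hL⟩, hx⟩)
  suffices h' : ∀ L, IsReduced (𝒰.X L) by
    have := h'
    exact IsReduced.of_openCover _ 𝒰
  intro L
  -- compare with the normalization of the affine piece
  have : IsAffine (resObj L.1).left := L.2
  obtain ⟨νL, sqL⟩ := exists_isPullback_resι ν₀ L.1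
  have sqQ := IsPullback.of_hasPullback π ((yon S).map (resι L.1))
  have hP := isAlgSpace_of_isPullback sqP hX.diag hY (IsAlgSpace.yon_obj U)
  have hQ := isAlgSpace_of_isPullback sqQ (IsAlgSpace.yon_obj U).diag hP (IsAlgSpace.yon_obj _)
  obtain ⟨C⟩ := exists_affCover hQ
    (isQuasiCompactMor_of_isPullback sqQ (isQuasiCompactMor_of_isPullback sqP hqc))
    (repWith_of_isPullback (isPullback_diagonal_baseChange sqQ)
      (repWith_of_isPullback (isPullback_diagonal_baseChange sqP) hqs))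
  obtain ⟨N₁, ν₁, n, hd⟩ := exists_isNormData C
  have : IsReduced C.W.left := by
    have hι : Etale (resι L.1).left := inferInstanceAs (Etale L.1.ι)
    exact isReduced_etale_chart hY hr (repWith_comp C.etale (repWith_comp
      (repWith_of_isPullback sqQ.flip ((repWith_yon_map_iff _ (resι L.1)).2 hι))
      (repWith_of_isPullback sqP.flip hp)))
  have := C.affW
  have := hd.affine
  have : IsReduced N₁.left := by
    have : _root_.IsReduced Γ(N₁.left, ⊤) := isReduced_of_injective n.left.appTop.hom hd.inj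
    exact isReduced_of_isAffine_isReduced _
  obtain ⟨g', hg', -⟩ := C.existsUnique_desc ((yon S).map n)
    (by rw [← Functor.map_comp, ← Functor.map_comp, hd.eq])
  have hg'' : g' ≫ (yon S).map ν₁ = pullback.snd _ _ := C.hom_ext (by
    rw [reassoc_of% hg', ← Functor.map_comp, hd.fac, C.fac])
  let fL := (sqL.map (yon S)).lift (pullback.fst π ((yon S).map (resι L.1)) ≫ f₀) (pullback.snd _ _)
    (by rw [Category.assoc, h.fac, sqQ.w])
  have hι : Etale (resι L.1).left := inferInstanceAs (Etale L.1.ι)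
  have hfL : IsNormHom _ νL fL :=
    h.univ (show IsAffine L.1.toScheme from L.2) (resι L.1) hι _ _ sqQ _ _ sqL fL
      ((sqL.map (yon S)).lift_snd _ _ _) ((sqL.map (yon S)).lift_fst _ _ _)
  have hL' : IsIntegralHom νL.left :=
    MorphismProperty.of_isPullback (isPullback_left sqL) h.integral
  have hg₁ := isNormHom_of_isNormData hd hg'
  have hfL₂ : fL ≫ (yon S).map νL = pullback.snd _ _ := (sqL.map (yon S)).lift_snd _ _ _
  have e₁ := isIntegralMor_yon_map νL hL'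
  have e₂ := isIntegralMor_yon_map ν₁ hd.integral
  obtain ⟨e, -, -⟩ := exists_iso_of_isRelNormalization (ν := (yon S).map ν₁) (ν' := (yon S).map νL)
    (IsAlgSpace.yon_obj N₁) (IsAlgSpace.yon_obj _) ⟨hg'', e₂, hg₁⟩ ⟨hfL₂, e₁, hfL⟩
  let e' := (yon S).preimageIso e
  have : IsReduced ((Over.forget S).obj N₁) := ‹IsReduced N₁.left›
  exact isReduced_of_isOpenImmersion ((Over.forget S).mapIso e').hom

end

end Groth.AlgSp3
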