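import Groth.Agent.AlgSp3.HasAtMor

/-!
# Compatible charts of a cartesian square
-/

set_option autoImplicit false
set_option backward.isDefEq.respectTransparency.types false
universe u

open CategoryTheory CategoryTheory.Limits AlgebraicGeometry Topology Opposite AlgSp Groth.AlgSpBasic

namespace Groth.AlgSp3

variable {S : Scheme.{u}}

theorem exists_charts_baseChange {X Y Y' X' : Sp S} {g' : X' ⟶ X} {f' : X' ⟶ Y'} {f : X ⟶ Y}
    {g : Y' ⟶ Y} (hX : IsAlgSpace X) (hY : IsAlgSpace Y) (hY' : IsAlgSpace Y')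
    (sq : IsPullback g' f' f g) :
    ∃ (U V V' U' : Over S) (a : (yon S).obj U ⟶ X) (b : (yon S).obj V ⟶ Y)
      (b' : (yon S).obj V' ⟶ Y') (a' : (yon S).obj U' ⟶ X') (h : U ⟶ V) (k : V' ⟶ V)
      (p : U' ⟶ U) (h' : U' ⟶ V'),
      RepWith @Etale a ∧ RepWith @Surjective a ∧ RepWith @Etale b ∧
        RepWith @Etale b' ∧ RepWith @Surjective b' ∧ RepWith @Etale a' ∧ RepWith @Surjective a' ∧
        a ≫ f = (yon S).map h ≫ b ∧ b' ≫ g = (yon S).map k ≫ b ∧
          a' ≫ f' = (yon S).map h' ≫ b' ∧ a' ≫ g' = (yon S).map p ≫ a ∧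
            IsPullback p.left h'.left h.left k.left ∧
              ∀ (u : ↥U.left) (y' : AlgSp.Points Y'),
                AlgSp.Points.map g y' = AlgSp.Points.ofPt b (h.left u) →
                  ∃ t : ↥V'.left, k.left t = h.left u ∧ AlgSp.Points.ofPt b' t = y' := by
  obtain ⟨U, V, a, b, h, ha, has, hb, hbs, comm⟩ := exists_charts hX hY f
  obtain ⟨V₀, b₀, hb₀, hb₀s⟩ := hY'.atlas
  obtain ⟨M, m₁, m₂, r, hM, hr₁, hr₂, hr⟩ := exists_chart_of_isPullback sq hY.diag a b₀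
  obtain ⟨T, t₁, t₂, hT⟩ := exists_pullback_of_diag hY.diag b (b₀ ≫ g)
  have e : (yon S).map (m₁ ≫ h) ≫ b = (yon S).map m₂ ≫ b₀ ≫ g := by
    rw [Functor.map_comp, Category.assoc, ← comm]; exact hM.w
  obtain ⟨w, hw⟩ := (yon S).map_surjective (hT.lift _ _ e)
  have e₁ : w ≫ t₁ = m₁ ≫ h := (yon S).map_injective (by rw [Functor.map_comp, hw, hT.lift_fst])
  have e₂ : w ≫ t₂ = m₂ := (yon S).map_injective (by rw [Functor.map_comp, hw, hT.lift_snd])
  have hM' : IsPullback ((yon S).map m₁) ((yon S).map m₂) ((yon S).map h ≫ b) (b₀ ≫ g) := by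
    rw [← comm]; exact hM
  have hpb : IsPullback ((yon S).map w) ((yon S).map m₁) ((yon S).map t₁) ((yon S).map h) := by
    refine IsPullback.of_right (t := hT.flip) ?_ (by rw [← Functor.map_comp, ← Functor.map_comp, e₁])
    rw [← Functor.map_comp, e₂]
    exact hM'.flip
  refine ⟨U, V, T, M, a, b, (yon S).map t₂ ≫ b₀, r, h, t₁, m₁, w, ha, has, hb,
    repWith_comp (repWith_of_isPullback hT hb) hb₀,
    repWith_comp (repWith_of_isPullback hT hbs) hb₀s, hr @Etale ha hb₀, hr @Surjective has hb₀s,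
    comm, ?_, ?_, hr₁, (isPullback_left (isPullback_of_yon hpb)).flip, ?_⟩
  · rw [Category.assoc]; exact hT.w.symm
  · rw [hr₂, ← Category.assoc, ← Functor.map_comp, e₂]
  · intro u y' hy
    obtain ⟨v₀, rfl⟩ := surjective_ofPt_of_repWith hb₀s y'
    rw [AlgSp.Points.map_ofPt] at hy
    obtain ⟨t, ht₁, ht₂⟩ := (ofPt_eq_ofPt_iff hT (h.left u) v₀).mp hy.symm
    exact ⟨t, ht₁, by rw [ofPt_comp_yon, ht₂]⟩

end Groth.AlgSp3
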