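import Groth.Agent.AlgSp3.ClosedSub
import Groth.Agent.AlgSpCartier.Chart
import Groth.Agent.BlowUpBasics.IdealComap
/-!
# Closed subspaces cut out by sheaves of ideals on the small etale site
-/

set_option autoImplicit false
set_option backward.isDefEq.respectTransparency.types false
universe u

open CategoryTheory CategoryTheory.Limits AlgebraicGeometry Opposite AlgSp Groth.AlgSpBasic

namespace Groth.AlgSp3

noncomputable section

/-- Inclusions of ideal sheaves descend along flat surjections. -/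
theorem le_of_comap_le {M T : Scheme.{u}} (n : M ⟶ T) [Flat n] [Surjective n]
    {L K : T.IdealSheafData} (h : L.comap n ≤ K.comap n) : L ≤ K := by
  rw [← Scheme.IdealSheafData.ker_subschemeι K, le_ker_iff_comap_eq_bot]
  let ι := K.subschemeι
  have e : ((L.comap ι).comap (pullback.snd n ι)) = ⊥ := by
    rw [← Scheme.IdealSheafData.comap_comp, ← pullback.condition, Scheme.IdealSheafData.comap_comp,
      ← le_bot_iff]
    refine (Scheme.IdealSheafData.comap_mono _ h).trans_eq ?_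
    exact (le_ker_iff_comap_eq_bot _ _).1 le_rfl
  rw [← le_bot_iff, ← Scheme.IdealSheafData.le_map_iff_comap_le, Scheme.IdealSheafData.map_bot,
    ker_eq_bot_of_flat_of_surjective] at e
  exact le_bot_iff.1 e

variable {S : Scheme.{u}} {X : Sp S} (I : IdealEt X)

/-- The object of the site on an affine open of a chart. -/
def affObj {V : Over S} (φ : (yon S).obj V ⟶ X) (hφ : RepWith @Etale φ) (W : V.left.Opens) :
    EtOver X :=
  EtOver.mk ((yon S).map (Over.homMk W.ι : Over.mk (W.ι ≫ V.hom) ⟶ V) ≫ φ)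
    (repWith_comp ((repWith_yon_map_iff _ _).2 (show Etale W.ι from inferInstance)) hφ)

/-- The value of an ideal sheaf on an affine open of a chart. -/
def chartIdeal {V : Over S} (φ : (yon S).obj V ⟶ X) (hφ : RepWith @Etale φ) (W : V.left.affineOpens) :
    Ideal Γ(V.left, W.1) :=
  (I.ideal (affObj φ hφ W.1) W.2).map W.1.topIso.hom.hom

variable {I}

theorem map_chartIdeal (hI : I.IsQCoh) {V V' : Over S} {φ : (yon S).obj V ⟶ X}
    (hφ : RepWith @Etale φ) {φ' : (yon S).obj V' ⟶ X} (hφ' : RepWith @Etale φ') (c : V' ⟶ V)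
    (hc : (yon S).map c ≫ φ = φ') (W : V.left.affineOpens) (W' : V'.left.affineOpens)
    (e : W'.1 ≤ c.left ⁻¹ᵁ W.1) :
    chartIdeal I φ' hφ' W' = (chartIdeal I φ hφ W).map (c.left.appLE W.1 W'.1 e).hom := by
  let w : Over.mk (W.1.ι ≫ V.hom) ⟶ V := Over.homMk W.1.ι
  let w' : Over.mk (W'.1.ι ≫ V'.hom) ⟶ V' := Over.homMk W'.1.ι
  let r : Over.mk (W'.1.ι ≫ V'.hom) ⟶ Over.mk (W.1.ι ≫ V.hom) :=
    Over.homMk (c.left.resLE W.1 W'.1 e) (by
      show c.left.resLE W.1 W'.1 e ≫ W.1.ι ≫ V.hom = W'.1.ι ≫ V'.hom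
      rw [← Category.assoc, Scheme.Hom.resLE_comp_ι, Category.assoc, Over.w])
  have hr : r ≫ w = w' ≫ c := Over.OverMorphism.ext (Scheme.Hom.resLE_comp_ι _ _)
  let g : affObj φ' hφ' W'.1 ⟶ affObj φ hφ W.1 := EtOver.homMk r (by
    show (yon S).map r ≫ (yon S).map w ≫ φ = (yon S).map w' ≫ φ'
    rw [← Category.assoc, ← Functor.map_comp, hr, Functor.map_comp, Category.assoc, hc])
  have h₁ := le_antisymm (hI g W.2 W'.2) (I.map_le g W.2 W'.2)
  show (I.ideal (affObj φ' hφ' W'.1) W'.2).map _ = ((I.ideal (affObj φ hφ W.1) W.2).map _).map _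
  rw [h₁]
  refine (Ideal.map_map _ _).trans (Eq.trans ?_ (Ideal.map_map _ _).symm)
  refine congrArg (fun f => Ideal.map f (I.ideal (affObj φ hφ W.1) W.2)) ?_
  show (g.hom.left.left.appTop ≫ W'.1.topIso.hom).hom =
    (W.1.topIso.hom ≫ c.left.appLE W.1 W'.1 e).hom
  congr 1
  show (c.left.resLE W.1 W'.1 e).app ⊤ ≫ W'.1.topIso.hom = _
  rw [Scheme.Hom.resLE_app_top]
  erw [Category.assoc, Category.assoc, Iso.inv_hom_id, Category.comp_id]

/-- An ideal sheaf as a quasi-coherent ideal on a chart. -/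
def chartSheaf (hI : I.IsQCoh) {V : Over S} (φ : (yon S).obj V ⟶ X) (hφ : RepWith @Etale φ) :
    V.left.IdealSheafData where
  ideal W := chartIdeal I φ hφ W
  map_ideal_basicOpen W f := by
    have h := map_chartIdeal hI hφ hφ (𝟙 V) (by rw [CategoryTheory.Functor.map_id, Category.id_comp])
      W (V.left.affineBasicOpen f) (by exact V.left.basicOpen_le f)
    rw [h]
    congr 1

theorem chartSheaf_comap (hI : I.IsQCoh) {V V' : Over S} {φ : (yon S).obj V ⟶ X}
    (hφ : RepWith @Etale φ) {φ' : (yon S).obj V' ⟶ X} (hφ' : RepWith @Etale φ') (c : V' ⟶ V)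
    (hc : (yon S).map c ≫ φ = φ') :
    (chartSheaf hI φ hφ).comap c.left = chartSheaf hI φ' hφ' := by
  let P := {q : V'.left.affineOpens × V.left.affineOpens // q.1.1 ≤ c.left ⁻¹ᵁ q.2.1}
  refine Scheme.IdealSheafData.ext_of_iSup_eq_top (fun q : P => q.1.1) ?_ fun q => ?_
  · refine eq_top_iff.2 fun x _ => TopologicalSpace.Opens.mem_iSup.2 ?_
    obtain ⟨_, ⟨W, hW, rfl⟩, hxW, -⟩ := V.left.isBasis_affineOpens.exists_subset_of_mem_open
      (Set.mem_univ (c.left x)) isOpen_univ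
    obtain ⟨_, ⟨W', hW', rfl⟩, hxW', hle⟩ := V'.left.isBasis_affineOpens.exists_subset_of_mem_open
      (show x ∈ c.left ⁻¹ᵁ W from hxW) (c.left ⁻¹ᵁ W).isOpen
    exact ⟨⟨(⟨W', hW'⟩, ⟨W, hW⟩), hle⟩, hxW'⟩
  · rw [Groth.BlowUpBasics.ideal_comap c.left _ q.1.2 q.1.1 q.2]
    exact (map_chartIdeal hI hφ hφ' c hc q.1.2 q.1.1 q.2).symm

theorem chartSheaf_ideal_top (hI : I.IsQCoh) (E : EtOver X) (hE : IsAffine E.obj.left.left) :
    (chartSheaf hI E.obj.hom E.property).ideal ⟨⊤, isAffineOpen_top _⟩ = I.ideal E hE := by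
  let T : E.obj.left.left.affineOpens := ⟨⊤, isAffineOpen_top _⟩
  let g : affObj E.obj.hom E.property T.1 ⟶ E := EtOver.homMk (Over.homMk T.1.ι) rfl
  show (I.ideal (affObj E.obj.hom E.property T.1) T.2).map T.1.topIso.hom.hom = _
  rw [le_antisymm (hI g hE T.2) (I.map_le g hE T.2)]
  refine (Ideal.map_map _ _).trans ?_
  have : (g.hom.left.left.appTop ≫ T.1.topIso.hom) = 𝟙 _ := by
    show T.1.ι.app ⊤ ≫ _ = _
    rw [Scheme.Opens.ι_app, Scheme.Opens.topIso_hom]
    erw [← Functor.map_comp]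
    exact E.obj.left.left.presheaf.map_id _
  refine Eq.trans (congrArg (fun f => Ideal.map f (I.ideal E hE))
    (show _ = RingHom.id _ from congrArg CommRingCat.Hom.hom this)) (Ideal.map_id _)

variable (I)

/-- A quasi-coherent ideal sheaf cuts out a closed subspace. -/
theorem exists_isCutOutBy (hX : IsAlgSpace X) (hI : I.IsQCoh) :
    ∃ (Z : Sp S) (i : Z ⟶ X), IsAlgSpace Z ∧ IsCutOutBy I i := by
  obtain ⟨U, p, hp, hps⟩ := hX.atlas
  have hinv : IsInvIdeal p (chartSheaf hI p hp) := by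
    obtain ⟨R, t, s, sq⟩ := exists_pullback_of_diag hX.diag p p
    have ht : RepWith @Etale ((yon S).map t ≫ p) :=
      repWith_comp (repWith_of_isPullback sq.flip hp) hp
    refine fun T a b e => ?_
    obtain ⟨r, hr⟩ := (yon S).map_surjective (sq.lift _ _ e)
    have h₁ : r ≫ t = a := (yon S).map_injective (by rw [Functor.map_comp, hr, sq.lift_fst])
    have h₂ : r ≫ s = b := (yon S).map_injective (by rw [Functor.map_comp, hr, sq.lift_snd])
    rw [← h₁, ← h₂, Over.comp_left, Over.comp_left, Scheme.IdealSheafData.comap_comp,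
      Scheme.IdealSheafData.comap_comp, chartSheaf_comap hI hp ht t rfl,
      chartSheaf_comap hI hp ht s sq.w.symm]
  obtain ⟨Z, i, fst, hZ, hi, sq⟩ := exists_closedSub hX hp hps hinv
  refine ⟨Z, i, hZ, hi, IdealEt.ext (funext fun E => funext fun hE => ?_)⟩
  obtain ⟨K, fK, sqK⟩ := Groth.AlgSpCartier.exists_ideal hi E.obj.hom
  rw [Groth.AlgSpCartier.idealOfRep_ideal hi E hE K fK sqK, ← chartSheaf_ideal_top hI E hE]
  obtain ⟨M, m, n, sqM⟩ := exists_pullback_of_diag hX.diag p E.obj.hom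
  have : Etale n.left := (repWith_yon_map_iff _ n).1 (repWith_of_isPullback sqM hp)
  have : Surjective n.left := (repWith_yon_map_iff _ n).1 (repWith_of_isPullback sqM hps)
  have hM : RepWith @Etale ((yon S).map m ≫ p) :=
    repWith_comp (repWith_of_isPullback sqM.flip E.property) hp
  obtain ⟨J, fJ, sqJ⟩ := Groth.AlgSpCartier.exists_ideal hi ((yon S).map m ≫ p)
  have e : K.comap n.left = (chartSheaf hI E.obj.hom E.property).comap n.left := by
    rw [chartSheaf_comap hI E.property hM n sqM.w.symm, ← chartSheaf_comap hI hp hM m rfl,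
      Groth.AlgSpCartier.comap_eq_of_isPullback sqK sqJ n sqM.w.symm,
      Groth.AlgSpCartier.comap_eq_of_isPullback sq sqJ m rfl]
  rw [le_antisymm (le_of_comap_le n.left e.le) (le_of_comap_le n.left e.ge)]

variable {I}

/-- Inclusion of ideal sheaves is inclusion of closed subspaces. -/
theorem le_iff_exists_lift (hX : IsAlgSpace X) {Z Z' : Sp S} {i : Z ⟶ X} {i' : Z' ⟶ X}
    {I' : IdealEt X} (h : IsCutOutBy I i) (h' : IsCutOutBy I' i') :
    I ≤ I' ↔ ∃ k, k ≫ i = i' := by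
  obtain ⟨hi, rfl⟩ := h
  obtain ⟨hi', rfl⟩ := h'
  obtain ⟨U, p, hp, hps⟩ := hX.atlas
  obtain ⟨J, fJ, sqJ⟩ := Groth.AlgSpCartier.exists_ideal hi p
  obtain ⟨J', fJ', sqJ'⟩ := Groth.AlgSpCartier.exists_ideal hi' p
  have key := exists_lift_closed_iff_le hp hps hi sqJ sqJ'
  simp only [Over.homMk_left, Scheme.IdealSheafData.ker_subschemeι] at key
  rw [key]
  constructor
  · intro hle W
    have hW : IsAffine W.1.toScheme := W.2
    let k : Over.mk (W.1.ι ≫ U.hom) ⟶ U := Over.homMk W.1.ι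
    let E : EtOver X := affObj p hp W.1
    obtain ⟨f₁, sq₁⟩ := Groth.AlgSpCartier.exists_isPullback_comap hi sqJ k
    obtain ⟨f₂, sq₂⟩ := Groth.AlgSpCartier.exists_isPullback_comap hi' sqJ' k
    have e := hle E hW
    rw [Groth.AlgSpCartier.idealOfRep_ideal hi E hW _ f₁ sq₁,
      Groth.AlgSpCartier.idealOfRep_ideal hi' E hW _ f₂ sq₂] at e
    change (J.comap W.1.ι).ideal ⟨⊤, isAffineOpen_top W.1.toScheme⟩ ≤
      (J'.comap W.1.ι).ideal ⟨⊤, isAffineOpen_top W.1.toScheme⟩ at e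
    rw [Scheme.IdealSheafData.ideal_comap_of_isOpenImmersion,
      Scheme.IdealSheafData.ideal_comap_of_isOpenImmersion,
      Ideal.comap_le_comap_iff_of_surjective _
        (ConcreteCategory.bijective_of_isIso (W.1.ι.appIso ⊤).inv).2] at e
    have hW' : (⟨W.1.ι ''ᵁ ⊤, (isAffineOpen_top W.1.toScheme).image_of_isOpenImmersion W.1.ι⟩ :
        U.left.affineOpens) = W := Subtype.ext W.1.ι_image_top
    rw [← hW']
    exact e
  · intro hle E hE
    obtain ⟨K, fK, sqK⟩ := Groth.AlgSpCartier.exists_ideal hi E.obj.hom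
    obtain ⟨K', fK', sqK'⟩ := Groth.AlgSpCartier.exists_ideal hi' E.obj.hom
    rw [Groth.AlgSpCartier.idealOfRep_ideal hi E hE K fK sqK,
      Groth.AlgSpCartier.idealOfRep_ideal hi' E hE K' fK' sqK']
    obtain ⟨M, m, n, sqM⟩ := exists_pullback_of_diag hX.diag p E.obj.hom
    have : Etale n.left := (repWith_yon_map_iff _ n).1 (repWith_of_isPullback sqM hp)
    have : Surjective n.left := (repWith_yon_map_iff _ n).1 (repWith_of_isPullback sqM hps)
    obtain ⟨L, fL, sqL⟩ := Groth.AlgSpCartier.exists_ideal hi ((yon S).map m ≫ p)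
    obtain ⟨L', fL', sqL'⟩ := Groth.AlgSpCartier.exists_ideal hi' ((yon S).map m ≫ p)
    refine le_of_comap_le n.left ?_ ⟨⊤, isAffineOpen_top _⟩
    rw [Groth.AlgSpCartier.comap_eq_of_isPullback sqK sqL n sqM.w.symm,
      Groth.AlgSpCartier.comap_eq_of_isPullback sqK' sqL' n sqM.w.symm,
      ← Groth.AlgSpCartier.comap_eq_of_isPullback sqJ sqL m rfl,
      ← Groth.AlgSpCartier.comap_eq_of_isPullback sqJ' sqL' m rfl]
    exact Scheme.IdealSheafData.comap_mono _ hle

end

end Groth.AlgSp3
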