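import Mathlib.AlgebraicGeometry.Restrict
/-!
# Sections and open subschemes
-/

set_option autoImplicit false
set_option backward.isDefEq.respectTransparency.types false
universe u

open CategoryTheory AlgebraicGeometry Opposite

namespace Groth.AlgSp3

theorem res_eq_of_ι_appTop_eq {A : Scheme.{u}} (W : A.Opens) {a b : Γ(A, ⊤)}
    (h : W.ι.appTop a = W.ι.appTop b) :
    A.presheaf.map (homOfLE (inf_le_left : ⊤ ⊓ W ≤ ⊤)).op a =
      A.presheaf.map (homOfLE (inf_le_left : ⊤ ⊓ W ≤ ⊤)).op b := by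
  have hle : ⊤ ⊓ W ≤ W.ι ''ᵁ ⊤ := by rw [W.ι_image_top]; exact inf_le_right
  have e := congrArg (A.presheaf.map (homOfLE hle).op) h
  simp only [Scheme.Hom.appTop, Scheme.Opens.ι_app] at e
  exact (ConcreteCategory.congr_hom (A.presheaf.map_comp _ _) a).trans
    (e.trans (ConcreteCategory.congr_hom (A.presheaf.map_comp _ _) b).symm)

theorem appTop_topIso_inv_eq {A B : Scheme.{u}} {V W : A.Opens} (π : B ⟶ V.toScheme)
    (hπ : ∀ y, (π ≫ V.ι) y ∈ W) {a b : Γ(A, V)}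
    (h : A.presheaf.map (homOfLE (inf_le_left : V ⊓ W ≤ V)).op a =
      A.presheaf.map (homOfLE (inf_le_left : V ⊓ W ≤ V)).op b) :
    π.appTop (V.topIso.inv a) = π.appTop (V.topIso.inv b) := by
  have hle : (⊤ : B.Opens) ≤ (π ≫ V.ι) ⁻¹ᵁ (V ⊓ W) := fun y _ => ⟨(π y).2, hπ y⟩
  have hle' : (⊤ : B.Opens) ≤ (π ≫ V.ι) ⁻¹ᵁ V := fun y _ => (π y).2
  have key : ∀ c, π.appTop (V.topIso.inv c) = (π ≫ V.ι).appLE V ⊤ hle' c := fun c => by
    have e : V.ι.appLE V ⊤ (fun v _ => v.2) = V.topIso.inv := by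
      simp only [Scheme.Hom.appLE, Scheme.Opens.ι_app, Scheme.Opens.topIso_inv]
      erw [← Functor.map_comp]
      rfl
    have h₂ : π.appTop = π.appLE ⊤ ⊤ le_top := by
      simp [Scheme.Hom.appLE, Scheme.Hom.appTop]
    rw [← e, h₂, ← CommRingCat.comp_apply, Scheme.Hom.appLE_comp_appLE]
  rw [key, key]
  have e := congrArg ((π ≫ V.ι).appLE (V ⊓ W) ⊤ hle) h
  simp only [← CommRingCat.comp_apply] at e
  rw [Scheme.Hom.map_appLE] at e
  exact e

end Groth.AlgSp3
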