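import Groth.Agent.AlgSpBasic.QuasiAffineDescent
import Groth.Agent.AlgSpBasic.AlgSpace
import Groth.Agent.Pi1Desc.ToDD

/-!
# Descending algebraic spaces along a class of morphisms satisfying descent
-/

set_option autoImplicit false
set_option backward.isDefEq.respectTransparency.types false
universe u

open CategoryTheory CategoryTheory.Limits AlgebraicGeometry Opposite AlgSp

namespace Groth.AlgSp3

open Groth.AlgSpBasic

variable {S : Scheme.{u}}

/-- A sheaf over an algebraic space with base change to a chart in a class satisfying descent is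
representable over it with the property of the class. -/
theorem repWith_of_descent (P : MorphismProperty Scheme.{u})
    [P.IsStableUnderBaseChange] [P.IsLocalAtTarget Scheme.fppfPrecoverage]
    (hdesc : ∀ ⦃X' S' : Scheme.{u}⦄ (p : X' ⟶ S'), Surjective p → Flat p →
      LocallyOfFinitePresentation p →
        ∀ D : Desc.SchDD p, P D.obj.hom → (Desc.toDD p).essImage D)
    {F G : Sp S} (f : G ⟶ F) {U V : Over S} (q : (yon S).obj U ⟶ F) (hqe : RepWith @Etale q)
    (hqs : RepWith @Surjective q) (fst : (yon S).obj V ⟶ G)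
    (g : V ⟶ U) (sq : IsPullback fst ((yon S).map g) f q) (hP : P g.left) : RepWith P f := by
  have := MorphismProperty.IsStableUnderBaseChange.respectsIso (P := P)
  refine repWith_of_exists fun T a => ?_
  obtain ⟨M, m, b, hM⟩ := hqe.rep a
  have : Etale m.left := hqe.property a b m hM
  have : Surjective m.left := hqs.property a b m hM
  obtain ⟨b', rfl⟩ := (yon S).map_surjective b
  obtain ⟨W, w, c, hW⟩ := ((repWith_yon_map_iff P g).2 hP).rep ((yon S).map b')
  have hw : P w.left := ((repWith_yon_map_iff P g).2 hP).property _ c w hW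
  have sqW : IsPullback (c ≫ fst) ((yon S).map w) f ((yon S).map m ≫ a) := by
    rw [← hM.w]
    exact hW.paste_horiz sq
  obtain ⟨Q, p₁, p₂, sqQ⟩ : ∃ (Q : Sp S) (p₁ : Q ⟶ G) (p₂ : Q ⟶ (yon S).obj T),
      IsPullback p₁ p₂ f a := ⟨_, _, _, IsPullback.of_hasPullback f a⟩
  let l := sqQ.lift (c ≫ fst) ((yon S).map w ≫ (yon S).map m)
    (by rw [Category.assoc]; exact sqW.w)
  have hl : IsPullback l ((yon S).map w) p₂ ((yon S).map m) :=
    IsPullback.of_right (by rw [sqQ.lift_fst]; exact sqW) (sqQ.lift_snd _ _ _) sqQ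
  have : Sheaf.IsLocallySurjective ((yon S).map m) := isLocallySurjective_of_repWith _
    ((repWith_yon_map_iff _ m).2 (inferInstance : Flat m.left))
    ((repWith_yon_map_iff _ m).2 (inferInstance : LocallyOfFinitePresentation m.left))
    ((repWith_yon_map_iff _ m).2 (inferInstance : Surjective m.left))
  obtain ⟨N₀, π₀, q₀, hpb, hcompat⟩ := Groth.Pi1Desc.eff_of_effective w.left m.left
    (sheafAct hl) (hdesc m.left inferInstance inferInstance inferInstance) hw
  let N : Over S := Over.mk (π₀ ≫ T.hom)
  let π : N ⟶ T := Over.homMk π₀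
  let q' : W ⟶ N := Over.homMk q₀ (by
    show q₀ ≫ π₀ ≫ T.hom = W.hom
    rw [← Category.assoc, hpb.w, Category.assoc, Over.w m, Over.w w])
  have sqN : IsPullback q' w π m :=
    IsPullback.of_map (Over.forget S) (Over.OverMorphism.ext hpb.w) hpb
  obtain ⟨e, he⟩ := exists_iso_of_descended hl sqN fun {Z} x x' h => Over.OverMorphism.ext (by
    have e₀ : x ≫ w ≫ m = (x' ≫ w) ≫ m := by
      apply (yon S).map_injective
      have h' := h =≫ p₂
      rw [Category.assoc, Category.assoc, hl.w, ← Functor.map_comp, ← Functor.map_comp,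
        ← Functor.map_comp] at h'
      rw [Category.assoc, h']
    have := hcompat _ x.left (x' ≫ w).left (congrArg CommaMorphism.left e₀)
    exact (congrArg (· ≫ q₀) (actPt_spec hl x x' h _)).symm.trans this)
  refine ⟨N, e.hom ≫ p₁, π, ?_, ?_⟩
  · exact sqQ.of_iso e.symm (Iso.refl _) (Iso.refl _) (Iso.refl _) (by simp) (by simp [← he])
      (by simp) (by simp)
  · show P π₀
    refine (MorphismProperty.IsLocalAtTarget.iff_of_forall_pullbackSnd (P := P)
      (K := Scheme.fppfPrecoverage) m.left.singleton_mem_fppfPrecoverage).2 ?_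
    rintro _ _ _ ⟨⟩
    rw [← P.cancel_left_of_respectsIso hpb.isoPullback.hom, hpb.isoPullback_hom_snd]
    exact hw

end Groth.AlgSp3
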