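import Groth.Prelude.Def_Mor2
import Mathlib.AlgebraicGeometry.Morphisms.Separated
import Mathlib.AlgebraicGeometry.Morphisms.Finite

/-!
# Separation properties of quotients by finite equivalence relations
-/

set_option autoImplicit false
set_option backward.isDefEq.respectTransparency.types false
universe u

open CategoryTheory CategoryTheory.Limits AlgebraicGeometry

namespace Groth.AlgSp3

variable {U M R T : Scheme.{u}} (m : U ⟶ M) (pM : M ⟶ T) {t s : R ⟶ U} (sq : IsPullback t s m m)
include sq

theorem range_diagonal_eq_image [Surjective m] :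
    (pullback.lift t s (by rw [reassoc_of% sq.w]) ≫
      pullback.map (m ≫ pM) (m ≫ pM) pM pM m m (𝟙 T) (by simp) (by simp)) =
      (s ≫ m) ≫ pullback.diagonal pM := by
  apply pullback.hom_ext
  · simp only [Category.assoc, pullback.map, pullback.lift_fst, pullback.lift_fst_assoc,
      pullback.diagonal_fst, Category.comp_id]
    exact sq.w
  · simp only [Category.assoc, pullback.map, pullback.lift_snd, pullback.lift_snd_assoc,
      pullback.diagonal_snd, Category.comp_id]

theorem separation_of_finite_quotient [IsFinite m] [Surjective m] :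
    (QuasiSeparated (m ≫ pM) → QuasiSeparated pM) ∧
      (IsSeparated (m ≫ pM) → IsSeparated pM) := by
  have e := range_diagonal_eq_image m pM sq
  let j := pullback.lift t s (show t ≫ m ≫ pM = s ≫ m ≫ pM by rw [reassoc_of% sq.w])
  let mm := pullback.map (m ≫ pM) (m ≫ pM) pM pM m m (𝟙 T) (by simp) (by simp)
  have hsm : Surjective (s ≫ m) := by
    have : Surjective s := MorphismProperty.of_isPullback sq ‹Surjective m›
    infer_instance
  have : IsFinite t := MorphismProperty.of_isPullback sq.flip ‹IsFinite m›
  have : IsFinite mm := MorphismProperty.pullbackMap (P := @IsFinite) (i₁ := m) (i₂ := m) ‹_› ‹_› rfl rfl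
  refine ⟨fun h => ?_, fun h => ?_⟩
  · have : QuasiSeparated (pullback.fst (m ≫ pM) (m ≫ pM)) :=
      MorphismProperty.pullback_fst _ _ h
    have : QuasiCompact (j ≫ pullback.fst (m ≫ pM) (m ≫ pM)) := by
      rw [pullback.lift_fst]; infer_instance
    have : QuasiCompact j := QuasiCompact.of_comp j (pullback.fst (m ≫ pM) (m ≫ pM))
    have hq : QuasiCompact ((s ≫ m) ≫ pullback.diagonal pM) := by
      rw [← e]; exact inferInstanceAs (QuasiCompact (j ≫ mm))
    refine ⟨⟨fun W hWo hW => ?_⟩⟩
    rw [← Set.image_preimage_eq (pullback.diagonal pM ⁻¹' W) hsm.surj]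
    refine IsCompact.image ?_ (s ≫ m).continuous
    exact hq.isCompact_preimage W hWo hW
  · have : IsSeparated (pullback.fst (m ≫ pM) (m ≫ pM)) := MorphismProperty.pullback_fst _ _ h
    have : IsFinite (j ≫ pullback.fst (m ≫ pM) (m ≫ pM)) := by
      rw [pullback.lift_fst]; infer_instance
    have : IsFinite j := IsFinite.of_comp j (pullback.fst (m ≫ pM) (m ≫ pM))
    have hc : IsClosed (Set.range (pullback.diagonal pM)) := by
      have h' : Set.range ((s ≫ m) ≫ pullback.diagonal pM) = Set.range (pullback.diagonal pM) := by
        rw [Scheme.Hom.comp_base, TopCat.coe_comp, Set.range_comp, hsm.surj.range_eq,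
          Set.image_univ]
      rw [← h', ← e]
      have : IsFinite (j ≫ mm) := inferInstance
      exact (j ≫ mm).isClosedMap.isClosed_range
    exact ⟨IsClosedImmersion.of_isPreimmersion _ hc⟩

end Groth.AlgSp3
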