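import Groth.Agent.AlgSp3.FTPoints
import Groth.Agent.AlgSpBasic.PointMono

/-!
# Finite type points and one-point subspaces
-/

set_option autoImplicit false
set_option backward.isDefEq.respectTransparency.types false
universe u

open CategoryTheory CategoryTheory.Limits AlgebraicGeometry TopologicalSpace Topology Opposite AlgSp
  Groth.AlgSpBasic

namespace Groth.AlgSp3

variable {S : Scheme.{u}}

/-- A finite type point lies on a one-point subspace locally of finite type, with an étale
presentation by a field. -/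
theorem exists_ftSubspace {X : Sp S} (hX : IsAlgSpace X) {x : AlgSp.Points X} (hx : IsFTPt x) :
    ∃ (Z : Sp S) (f : Z ⟶ X) (k : Type u) (_ : Field k) (str : Spec (CommRingCat.of k) ⟶ S)
      (z : (yon S).obj (Over.mk str) ⟶ Z), IsAlgSpace Z ∧ RepWith @Etale z ∧
        RepWith @Surjective z ∧ LocP @LocallyOfFiniteType f ∧ Mono f ∧
        AlgSp.Points.ofPt (z ≫ f) (IsLocalRing.closedPoint k) = x := by
  obtain ⟨U, a, u, ha, hu, rfl⟩ := exists_chart_of_isFTPt hX hx
  let K : Over S := Over.mk (U.left.fromSpecResidueField u ≫ U.hom)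
  let j : K ⟶ U := Over.homMk (U.left.fromSpecResidueField u) rfl
  let c : (yon S).obj K ⟶ X := (yon S).map j ≫ a
  obtain ⟨R, t', s', sqR⟩ := exists_pullback_yon (hX.representable_from_yon c) c
  have : Etale s'.left := etale_kernelPair_residue hX ha u sqR
  have : Etale t'.left := etale_kernelPair_residue hX ha u sqR.flip
  have sqπ : IsPullback ((yon S).map t') ((yon S).map s') (factorThruImage c) (factorThruImage c) :=
    Groth.AlgSp2.isPullback_of_comp_mono sqR (image.fac c) (image.fac c)
  have : Sheaf.IsLocallySurjective (factorThruImage c) :=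
    (Sheaf.isLocallySurjective_iff_epi _).2 inferInstance
  obtain ⟨hZ, he, hs⟩ := isAlgSpace_of_kernelPair sqπ
  have := isClosed_singleton_iff_isClosedImmersion.mp hu
  refine ⟨image c, image.ι c, U.left.residueField u, inferInstance, _, factorThruImage c, hZ, he,
    hs, locP_of_chart (h := j) hZ.diag hX.diag he hs ha (image.fac c) ?_, inferInstance, ?_⟩
  · exact (inferInstance : LocallyOfFiniteType (U.left.fromSpecResidueField u))
  · rw [image.fac, ofPt_comp_yon]
    exact congrArg (AlgSp.Points.ofPt a) (Scheme.fromSpecResidueField_apply _ _)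

/-- A space with an étale surjection from a field has one point. -/
theorem hasFlatPoint_of_etale {Z : Sp S} {k : Type u} [Field k]
    {str : Spec (CommRingCat.of k) ⟶ S} {z : (yon S).obj (Over.mk str) ⟶ Z}
    (he : RepWith @Etale z) (hs : RepWith @Surjective z) : HasFlatPoint Z :=
  ⟨k, inferInstance, str, z, locP_of_repWith (repWith_flat_of_etale he),
    surjective_map_of_repWith hs⟩

/-- The image of a one-point subspace. -/
theorem range_map_eq {Z X : Sp S} (f : Z ⟶ X) {k : Type u} [Field k]
    {str : Spec (CommRingCat.of k) ⟶ S} {z : (yon S).obj (Over.mk str) ⟶ Z}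
    (he : RepWith @Etale z) (hs : RepWith @Surjective z) {x : AlgSp.Points X}
    (hx : AlgSp.Points.ofPt (z ≫ f) (IsLocalRing.closedPoint k) = x) :
    Set.range (AlgSp.Points.map f) = {x} := by
  have := (points_of_hasFlatPoint (hasFlatPoint_of_etale he hs)).2
  refine Set.eq_singleton_iff_unique_mem.2
    ⟨⟨AlgSp.Points.ofPt z (IsLocalRing.closedPoint k), ?_⟩, ?_⟩
  · rw [AlgSp.Points.map_ofPt, hx]
  · rintro _ ⟨y, rfl⟩
    rw [Subsingleton.elim y (AlgSp.Points.ofPt z (IsLocalRing.closedPoint k)),
      AlgSp.Points.map_ofPt, hx]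

/-- The image of a one-point space locally of finite type is a finite type point. -/
theorem isFTPt_of_onePoint {Z X : Sp S} (hZ : IsAlgSpace Z) (hX : IsAlgSpace X) {f : Z ⟶ X}
    (hne : Nonempty (AlgSp.Points Z)) (hf : LocP @LocallyOfFiniteType f) {x : AlgSp.Points X}
    (hr : Set.range (AlgSp.Points.map f) = {x}) : IsFTPt x := by
  obtain ⟨y, -, k, _, str, ξ, hξ, hy⟩ :=
    exists_isFTPt_mem hZ (T := Set.univ) isOpen_univ.isLocallyClosed Set.univ_nonempty
  have hx : AlgSp.Points.map f y = x := by
    have : AlgSp.Points.map f y ∈ ({x} : Set (AlgSp.Points X)) := hr ▸ ⟨y, rfl⟩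
    exact this
  refine ⟨k, inferInstance, str, ξ ≫ f, locP_comp (IsAlgSpace.yon_obj _) hZ hX hξ hf, ?_⟩
  rw [← AlgSp.Points.map_ofPt, hy, hx]

end Groth.AlgSp3
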