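import Groth.Agent.AlgSp3.FiniteTypePoint
import Groth.Agent.AlgSpBasic.LocPInst
import Groth.Agent.AlgSpBasic.Points
import Groth.Agent.AlgSp2.MonoPoint
import Groth.Agent.RefRank.ClosedPoints

/-!
# Finite type points of algebraic spaces
-/

set_option autoImplicit false
set_option backward.isDefEq.respectTransparency.types false
universe u

open CategoryTheory CategoryTheory.Limits AlgebraicGeometry TopologicalSpace Topology Opposite AlgSp
  Groth.AlgSpBasic

namespace Groth.AlgSp3

variable {S : Scheme.{u}}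

/-- A finite type point: the image of a morphism locally of finite type from a field. -/
def IsFTPt {X : Sp S} (x : AlgSp.Points X) : Prop :=
  ∃ (k : Type u) (_ : Field k) (str : Spec (CommRingCat.of k) ⟶ S)
    (ξ : (yon S).obj (Over.mk str) ⟶ X),
      LocP @LocallyOfFiniteType ξ ∧ AlgSp.Points.ofPt ξ (IsLocalRing.closedPoint k) = x

theorem isFTPt_of_chart {X : Sp S} (hX : IsAlgSpace X) {U : Over S} {φ : (yon S).obj U ⟶ X}
    (hφ : RepWith @Etale φ) {u : ↥U.left} (hu : IsClosed ({u} : Set ↥U.left)) :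
    IsFTPt (AlgSp.Points.ofPt φ u) := by
  let i : Over.mk (U.left.fromSpecResidueField u ≫ U.hom) ⟶ U :=
    Over.homMk (U.left.fromSpecResidueField u)
  have := isClosed_singleton_iff_isClosedImmersion.mp hu
  refine ⟨U.left.residueField u, inferInstance, U.left.fromSpecResidueField u ≫ U.hom,
    (yon S).map i ≫ φ, ?_, ?_⟩
  · refine locP_comp (IsAlgSpace.yon_obj _) (IsAlgSpace.yon_obj _) hX
      (locP_of_repWith ((repWith_yon_map_iff _ i).2 ?_))
      (locP_of_repWith (repWith_mono (P := @Etale) (Q := @LocallyOfFiniteType)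
        (fun _ _ g (_ : Etale g) => inferInstance) hφ))
    exact (inferInstance : LocallyOfFiniteType (U.left.fromSpecResidueField u))
  · rw [ofPt_comp_yon]
    exact congrArg (AlgSp.Points.ofPt φ) (Scheme.fromSpecResidueField_apply _ _)

theorem exists_chart_of_isFTPt {X : Sp S} (hX : IsAlgSpace X) {x : AlgSp.Points X} (hx : IsFTPt x) :
    ∃ (U : Over S) (φ : (yon S).obj U ⟶ X) (u : ↥U.left), RepWith @Etale φ ∧
      IsClosed ({u} : Set ↥U.left) ∧ AlgSp.Points.ofPt φ u = x := by
  obtain ⟨k, _, str, ξ, hξ, rfl⟩ := hx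
  obtain ⟨U, p, hp, hps⟩ := hX.atlas
  obtain ⟨W, w₁, w₂, hW⟩ := exists_pullback_of_diag hX.diag ξ p
  have : Etale w₁.left := repWith_fst_of_isPullback hW.flip hp
  have : Surjective w₁.left := repWith_fst_of_isPullback hW.flip hps
  have : LocallyOfFiniteType w₂.left :=
    hξ ((yon S).map w₁) p w₂ ((repWith_yon_map_iff _ w₁).2 ‹Etale w₁.left›) hp hW.w
  obtain ⟨w, hw⟩ := w₁.left.surjective (IsLocalRing.closedPoint k)
  have : LocallyQuasiFinite w₁.left := Groth.AlgSp2.locallyQuasiFinite_of_etale w₁.left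
  have hdisc := w₁.left.isDiscrete_preimage_singleton (IsLocalRing.closedPoint k)
  have hwc : IsClosed ({w} : Set ↥W.left) := by
    have huniv : w₁.left ⁻¹' {IsLocalRing.closedPoint k} = Set.univ := by
      ext z
      simp only [Set.mem_preimage, Set.mem_univ, iff_true]
      exact Subsingleton.elim (α := PrimeSpectrum k) _ _
    have := hdisc.to_subtype
    have : DiscreteTopology ↥W.left :=
      ((Homeomorph.setCongr huniv).trans (Homeomorph.Set.univ _)).discreteTopology
    exact isClosed_discrete _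
  have := isClosed_singleton_iff_isClosedImmersion.mp hwc
  have : LocallyOfFiniteType (W.left.fromSpecResidueField w) := inferInstance
  have : LocallyOfFiniteType (W.left.fromSpecResidueField w ≫ w₂.left) :=
    MorphismProperty.comp_mem _ _ _ this ‹LocallyOfFiniteType w₂.left›
  obtain ⟨O, hO, hOs⟩ := exists_open_of_finiteTypePoint (k := W.left.residueField w)
    (W.left.fromSpecResidueField w ≫ w₂.left) (IsLocalRing.closedPoint _)
  rw [Scheme.Hom.comp_apply, Scheme.fromSpecResidueField_apply] at hO hOs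
  let j : Over.mk (O.ι ≫ U.hom) ⟶ U := Over.homMk O.ι
  refine ⟨Over.mk (O.ι ≫ U.hom), (yon S).map j ≫ p, ⟨w₂.left w, hO⟩,
    repWith_comp ((repWith_yon_map_iff _ j).2 (show Etale O.ι from inferInstance)) hp,
    isClosed_singleton_of_forall_specializes hO hOs, ?_⟩
  rw [ofPt_comp_yon]
  show AlgSp.Points.ofPt p (w₂.left w) = _
  rw [← ofPt_comp_yon, ← hW.w, ofPt_comp_yon, hw]

theorem exists_isFTPt_mem {X : Sp S} (hX : IsAlgSpace X) {T : Set (AlgSp.Points X)}
    (hT : IsLocallyClosed T) (hne : T.Nonempty) : ∃ x ∈ T, IsFTPt x := by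
  obtain ⟨O, Z, hO, hZ, rfl⟩ := hT
  obtain ⟨x, hxO, hxZ⟩ := hne
  obtain ⟨U, p, hp, hps⟩ := hX.atlas
  obtain ⟨u, rfl⟩ := surjective_ofPt_of_repWith hps x
  obtain ⟨K, hK, huK, hKO⟩ := exists_isAffineOpen_mem_and_subset (X := U.left) (x := u)
    (U := ⟨_, hO.preimage (AlgSp.Points.continuous_ofPt p)⟩) hxO
  have : IsAffine K.toScheme := hK
  let j : Over.mk (K.ι ≫ U.hom) ⟶ U := Over.homMk K.ι
  have hje : RepWith @Etale ((yon S).map j ≫ p) :=
    repWith_comp ((repWith_yon_map_iff _ j).2 (show Etale K.ι from inferInstance)) hp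
  obtain ⟨c, hc, hcc⟩ := IsClosed.exists_closed_singleton (X := ↥K.toScheme)
    (S := AlgSp.Points.ofPt ((yon S).map j ≫ p) ⁻¹' Z)
    (hZ.preimage (AlgSp.Points.continuous_ofPt _))
    ⟨⟨u, huK⟩, by rw [Set.mem_preimage, ofPt_comp_yon]; exact hxZ⟩
  refine ⟨AlgSp.Points.ofPt ((yon S).map j ≫ p) c, ⟨?_, hc⟩, isFTPt_of_chart hX hje hcc⟩
  rw [ofPt_comp_yon]
  exact hKO c.2

end Groth.AlgSp3
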