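import Groth.Agent.FibreDim.BaseChange
import Groth.Agent.FibreDim.Equidim
import Groth.Agent.FibreDim.StalkFormula

/-!
# Local rings of fibres under base change
-/

set_option autoImplicit false
universe u

open CategoryTheory CategoryTheory.Limits AlgebraicGeometry TopologicalSpace Topology

namespace Groth.AlgSp3

theorem ringKrullDim_asFiber {X Y : Scheme.{u}} (f : X ⟶ Y) (y : Y) (z : f.fiber y) :
    ringKrullDim ↥((f.fiber (f (f.fiberι y z))).presheaf.stalk (f.asFiber (f.fiberι y z))) =
      ringKrullDim ↥((f.fiber y).presheaf.stalk z) := by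
  have hy : f (f.fiberι y z) = y := FibreDim.apply_fiberι f y z
  have : ∀ (y' : Y) (z' : f.fiber y'), y' = y → f.fiberι y' z' = f.fiberι y z →
      ringKrullDim ↥((f.fiber y').presheaf.stalk z') = ringKrullDim ↥((f.fiber y).presheaf.stalk z) := by
    rintro y' z' rfl hz
    rw [(f.fiberι y').isEmbedding.injective hz]
  exact this _ _ hy (f.fiberι_asFiber _)

variable {X Y X' Y' : Scheme.{u}} (f : X ⟶ Y) [LocallyOfFiniteType f] (g : Y' ⟶ Y) (f' : X' ⟶ Y')
  (g' : X' ⟶ X) (hc : IsPullback g' f' f g)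

include hc in
theorem exists_fibre_comparison (y' : Y') :
    ∃ q : f'.fiber y' ⟶ f.fiber (g y'), Flat q ∧ Surjective q ∧
      q ≫ f.fiberι (g y') = f'.fiberι y' ≫ g' := by
  let σ := g.residueFieldMap y'
  let q : f'.fiber y' ⟶ f.fiber (g y') := pullback.lift (f'.fiberι y' ≫ g')
    (f'.fiberToSpecResidueField y' ≫ Spec.map σ) (by
      rw [Category.assoc, hc.w, reassoc_of% (FibreDim.fiberι_comp f' y'), Category.assoc,
        Scheme.Hom.SpecMap_residueFieldMap_fromSpecResidueField])
  have hq1 : q ≫ f.fiberι (g y') = f'.fiberι y' ≫ g' := pullback.lift_fst ..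
  have hq2 : q ≫ f.fiberToSpecResidueField (g y') = f'.fiberToSpecResidueField y' ≫ Spec.map σ :=
    pullback.lift_snd ..
  have hbig : IsPullback (f'.fiberι y' ≫ g') (f'.fiberToSpecResidueField y') f
      (Y'.fromSpecResidueField y' ≫ g) :=
    IsPullback.paste_horiz (IsPullback.of_hasPullback f' (Y'.fromSpecResidueField y')) hc
  rw [← Scheme.Hom.SpecMap_residueFieldMap_fromSpecResidueField] at hbig
  rw [← hq1] at hbig
  have hsq : IsPullback q (f'.fiberToSpecResidueField y') (f.fiberToSpecResidueField (g y'))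
      (Spec.map σ) :=
    hbig.of_right hq2 (IsPullback.of_hasPullback f (Y.fromSpecResidueField (g y')))
  let := σ.hom.toAlgebra
  have h1 : Flat (Spec.map σ) := Flat.SpecMap_iff.mpr (Module.Flat.of_free : Module.Flat _ _)
  have h2 : Surjective (Spec.map σ) := ⟨fun p =>
    ⟨(default : PrimeSpectrum (Y'.residueField y')), Subsingleton.elim _ _⟩⟩
  exact ⟨q, MorphismProperty.of_isPullback hsq.flip h1, MorphismProperty.of_isPullback hsq.flip h2,
    hq1⟩

include hc in
theorem exists_isLocallyNoetherian_fibre (y' : Y') :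
    IsLocallyNoetherian (f.fiber (g y')) ∧ IsLocallyNoetherian (f'.fiber y') := by
  have : LocallyOfFiniteType f' := MorphismProperty.of_isPullback hc inferInstance
  have h1 : LocallyOfFiniteType (f.fiberToSpecResidueField (g y')) :=
    inferInstanceAs (LocallyOfFiniteType (pullback.snd f (Y.fromSpecResidueField (g y'))))
  have h2 : LocallyOfFiniteType (f'.fiberToSpecResidueField y') :=
    inferInstanceAs (LocallyOfFiniteType (pullback.snd f' (Y'.fromSpecResidueField y')))
  exact ⟨LocallyOfFiniteType.isLocallyNoetherian (f.fiberToSpecResidueField (g y')),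
    LocallyOfFiniteType.isLocallyNoetherian (f'.fiberToSpecResidueField y')⟩

include hc in
theorem fibreStalkDim_le_baseChange (x' : X') :
    ringKrullDim ↥((f.fiber (f (g' x'))).presheaf.stalk (f.asFiber (g' x'))) ≤
      ringKrullDim ↥((f'.fiber (f' x')).presheaf.stalk (f'.asFiber x')) := by
  obtain ⟨q, _, -, hq⟩ := exists_fibre_comparison f g f' g' hc (f' x')
  obtain ⟨_, _⟩ := exists_isLocallyNoetherian_fibre f g f' g' hc (f' x')
  have e := FibreDim.ringKrullDim_stalk_eq_add_of_generalizing q (f'.asFiber x')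
    (FibreDim.generalizing_of_flat_stalkMap q _ (Flat.stalkMap q _))
  have hx : f.fiberι (g (f' x')) (q (f'.asFiber x')) = g' x' := by
    rw [← Scheme.Hom.comp_apply, hq, Scheme.Hom.comp_apply, f'.fiberι_asFiber]
  rw [← hx, ringKrullDim_asFiber]
  exact le_of_le_of_eq (le_add_of_nonneg_right ringKrullDim_nonneg_of_nontrivial) e.symm

include hc in
theorem exists_fibreStalkDim_eq (x : X) (y' : Y') (h : f x = g y') :
    ∃ x' : X', g' x' = x ∧ f' x' = y' ∧
      ringKrullDim ↥((f'.fiber (f' x')).presheaf.stalk (f'.asFiber x')) =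
        ringKrullDim ↥((f.fiber (f x)).presheaf.stalk (f.asFiber x)) := by
  obtain ⟨q, _, _, hq⟩ := exists_fibre_comparison f g f' g' hc y'
  obtain ⟨_, _⟩ := exists_isLocallyNoetherian_fibre f g f' g' hc y'
  obtain ⟨z, rfl⟩ := (f.range_fiberι (g y')).ge h
  obtain ⟨w₀, hw₀⟩ := q.surjective z
  obtain ⟨v₀, -⟩ := (q.range_fiberι z).ge hw₀
  obtain ⟨v, hv, -⟩ := FibreDim.exists_max_specializes v₀
  refine ⟨f'.fiberι y' (q.fiberι z v), ?_, FibreDim.apply_fiberι f' y' _, ?_⟩
  · rw [← Scheme.Hom.comp_apply, ← hq, Scheme.Hom.comp_apply]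
    exact congrArg _ (FibreDim.apply_fiberι q z v)
  rw [ringKrullDim_asFiber, ringKrullDim_asFiber,
    FibreDim.ringKrullDim_stalk_eq_add_of_generalizing q (q.fiberι z v)
      (FibreDim.generalizing_of_flat_stalkMap q _ (Flat.stalkMap q _)), ringKrullDim_asFiber]
  have h0 : ringKrullDim ↥((q.fiber z).presheaf.stalk v) = 0 := by
    rw [ringKrullDim_stalk_eq_coheight, Order.coheight_eq_zero.mpr hv]; rfl
  rw [h0, add_zero]
  exact congrArg (fun z => ringKrullDim ↥((f.fiber (g y')).presheaf.stalk z))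
    (FibreDim.apply_fiberι q z v)

end Groth.AlgSp3
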