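import Groth.Agent.AlgSpBasic.LocalDim
import Groth.Agent.FibreDim.Retrocompact
import Groth.Agent.FibreDim.StalkFormula
import Groth.Agent.Flatmor4.QuasiFiniteSplit
import Groth.Prelude.Def_Dual3

/-!
# Fibre invariants are etale local on source and target
-/

set_option autoImplicit false
universe u

open CategoryTheory CategoryTheory.Limits AlgebraicGeometry Topology TopologicalSpace

namespace Groth.AlgSp3

variable {U' U V V' : Scheme.{u}}

/-- The square from the fibres of a composite to the fibres of the second map. -/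
theorem isPullback_fiberMap {X Y S : Scheme.{u}} (f : X ⟶ Y) (g : Y ⟶ S) (s : S) :
    IsPullback ((f ≫ g).fiberι s) (FibreDim.fiberMap f g s) f (g.fiberι s) := by
  refine IsPullback.of_bot ?_ (FibreDim.fiberMap_fiberι f g s).symm (IsPullback.of_hasPullback g _)
  rw [show FibreDim.fiberMap f g s ≫ pullback.snd g _ = pullback.snd (f ≫ g) _ from
    FibreDim.fiberMap_toSpec f g s]
  exact IsPullback.of_hasPullback (f ≫ g) _

theorem etale_fiberMap (e : U' ⟶ U) [Etale e] (h : U ⟶ V) (y : V) :
    Etale (FibreDim.fiberMap e h y) :=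
  MorphismProperty.of_isPullback (isPullback_fiberMap e h y) inferInstance

theorem fiberMap_asFiber {X Y S : Scheme.{u}} (f : X ⟶ Y) (g : Y ⟶ S) (x : X) :
    FibreDim.fiberMap f g (g (f x)) ((f ≫ g).asFiber x) = g.asFiber (f x) := by
  apply (g.fiberι _).isEmbedding.injective
  rw [← Scheme.Hom.comp_apply, FibreDim.fiberMap_fiberι, Scheme.Hom.comp_apply]
  exact ((congrArg f ((f ≫ g).fiberι_asFiber x)).trans (g.fiberι_asFiber _).symm)

theorem fibreDimAt_etale_comp (e : U' ⟶ U) [Etale e] (h : U ⟶ V) (u : U') :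
    FlatMor.fibreDimAt (e ≫ h) u = FlatMor.fibreDimAt h (e u) := by
  have := etale_fiberMap e h (h (e u))
  exact (Groth.DescentBase.localDim_eq_of_etale (FibreDim.fiberMap e h (h (e u))) _).trans
    (congrArg _ (fiberMap_asFiber e h u))

theorem exists_open_inter_fibre_of_etale (e : V ⟶ V') [Etale e] (v : V) :
    ∃ W : Set V, IsOpen W ∧ v ∈ W ∧ ∀ v' ∈ W, e v' = e v → v' = v := by
  have : LocallyQuasiFinite e := Groth.DescentBase.locallyQuasiFinite_of_etale e
  have := (e.isDiscrete_preimage_singleton (e v)).to_subtype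
  obtain ⟨W, hW, hWv⟩ :=
    isOpen_induced_iff.mp (isOpen_discrete ({⟨v, rfl⟩} : Set ↥(e ⁻¹' {e v})))
  exact ⟨W, hW, hWv.ge rfl,
    fun v' hv' h => congrArg Subtype.val (hWv.le (show (⟨v', h⟩ : ↥(e ⁻¹' {e v})) ∈ _ from hv'))⟩

theorem fibreDimAt_comp_etale (h : U ⟶ V) (e : V ⟶ V') [Etale e] (u : U) :
    FlatMor.fibreDimAt (h ≫ e) u = FlatMor.fibreDimAt h u := by
  obtain ⟨W, hW, hv, hW'⟩ := exists_open_inter_fibre_of_etale e (h u)
  have h1 := FibreDim.fibreDimAt_eq_of_range (h ≫ e) (e (h u))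
    (A := ↥((h ≫ e) ⁻¹' {e (h u)})) (e := Subtype.val) IsEmbedding.subtypeVal Subtype.range_coe
    ⟨u, rfl⟩
  have h2 := FibreDim.fibreDimAt_eq_of_range h (h u) (A := ↥(h ⁻¹' {h u})) (e := Subtype.val)
    IsEmbedding.subtypeVal Subtype.range_coe ⟨u, rfl⟩
  rw [h1, h2]
  have hsub : h ⁻¹' {h u} ⊆ (h ≫ e) ⁻¹' {e (h u)} := fun x (hx : h x = h u) => by
    show (h ≫ e) x = e (h u)
    rw [Scheme.Hom.comp_apply, hx]
  have hoe : IsOpenEmbedding (Set.inclusion hsub) := by
    refine ⟨IsEmbedding.inclusion hsub, ?_⟩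
    refine isOpen_induced_iff.mpr ⟨h ⁻¹' W, hW.preimage h.continuous, ?_⟩
    ext ⟨x, hx⟩
    rw [Set.range_inclusion]
    refine ⟨fun hxW => hW' _ hxW ?_, fun (hx' : h x = h u) => ?_⟩
    · exact hx
    · show h x ∈ W
      rw [hx']; exact hv
  exact (FibreDim.localDim_eq_of_isOpenEmbedding hoe ⟨u, rfl⟩).symm

/-- The order invariant computing the dimension of the local ring of a fibre. -/
theorem ringKrullDim_fiber_stalk_etale_comp (e : U' ⟶ U) [Etale e] (h : U ⟶ V) (u : U') :
    ringKrullDim (((e ≫ h).fiber ((e ≫ h) u)).presheaf.stalk ((e ≫ h).asFiber u)) =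
      ringKrullDim ((h.fiber (h (e u))).presheaf.stalk (h.asFiber (e u))) := by
  have := etale_fiberMap e h (h (e u))
  refine (Groth.AlgSpBasic.etaleInvariant_ringKrullDim (FibreDim.fiberMap e h (h (e u))) _).trans ?_
  dsimp only
  rw [fiberMap_asFiber e h u]

theorem ringKrullDim_fiber_stalk_comp_etale (h : U ⟶ V) (e : V ⟶ V') [Etale e] (u : U) :
    ringKrullDim (((h ≫ e).fiber ((h ≫ e) u)).presheaf.stalk ((h ≫ e).asFiber u)) =
      ringKrullDim ((h.fiber (h u)).presheaf.stalk (h.asFiber u)) := by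
  obtain ⟨W, hW, hv, hW'⟩ := exists_open_inter_fibre_of_etale e (h u)
  rw [ringKrullDim_stalk_eq_coheight, ringKrullDim_stalk_eq_coheight]
  congr 1
  let q : h.fiber (h u) ⟶ (h ≫ e).fiber (e (h u)) :=
    pullback.lift (h.fiberι (h u)) (h.fiberToSpecResidueField (h u) ≫ Spec.map (e.residueFieldMap _))
      (by
        rw [Category.assoc, Scheme.Hom.SpecMap_residueFieldMap_fromSpecResidueField,
          ← Category.assoc, ← Category.assoc]
        exact congrArg (· ≫ e) pullback.condition)
  have hq : q ≫ (h ≫ e).fiberι _ = h.fiberι _ := pullback.lift_fst _ _ _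
  have hqa : q (h.asFiber u) = (h ≫ e).asFiber u := by
    apply ((h ≫ e).fiberι _).isEmbedding.injective
    rw [← Scheme.Hom.comp_apply, hq, h.fiberι_asFiber]
    exact ((h ≫ e).fiberι_asFiber u).symm
  have hqe : IsEmbedding q := IsEmbedding.of_comp q.continuous ((h ≫ e).fiberι _).continuous
    (by
      have : ((h ≫ e).fiberι (e (h u)) : _ → U) ∘ q = h.fiberι (h u) := by
        rw [← hq]; ext z; rfl
      rw [this]; exact (h.fiberι _).isEmbedding)
  -- generalizations stay in the smaller fibre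
  have hgen : ∀ z, z ⤳ q (h.asFiber u) → z ∈ Set.range q := by
    intro z hz
    have hx : (h ≫ e).fiberι _ z ⤳ u := by
      have hu : (h ≫ e).fiberι (e (h u)) (q (h.asFiber u)) = u := by
        rw [← Scheme.Hom.comp_apply, hq]
        exact h.fiberι_asFiber u
      have := hz.map ((h ≫ e).fiberι _).continuous
      rwa [hu] at this
    have hh : h ((h ≫ e).fiberι _ z) ∈ ({h u} : Set V) :=
      hW' _ ((hx.map h.continuous).mem_open hW hv)
        (show (h ≫ e) ((h ≫ e).fiberι _ z) = e (h u) from Set.mem_singleton_iff.mp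
          (((h ≫ e).range_fiberι (e (h u))).le ⟨z, rfl⟩))
    obtain ⟨w, hw⟩ := (h.range_fiberι (h u)).ge hh
    exact ⟨w, ((h ≫ e).fiberι _).isEmbedding.injective
      (by rw [← Scheme.Hom.comp_apply, hq]; exact hw)⟩
  have hmono : StrictMono q := by
    intro a b hab
    rw [lt_iff_le_not_ge] at hab ⊢
    exact ⟨(Scheme.le_iff_specializes.1 hab.1).map q.continuous |> Scheme.le_iff_specializes.2,
      fun h' => hab.2 (Scheme.le_iff_specializes.2
        (hqe.isInducing.specializes_iff.mp (Scheme.le_iff_specializes.1 h')))⟩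
  have key : ∀ z : ↥(h.fiber (h u)), q z = (h ≫ e).asFiber u → z = h.asFiber u := fun z hz =>
    hqe.injective (hz.trans hqa.symm)
  refine ((congrArg Order.coheight hqa).symm : _).trans ?_
  refine le_antisymm ?_ (Order.coheight_le_coheight_apply_of_strictMono _ hmono _)
  rw [Order.coheight_eq]
  refine iSup₂_le fun l hl => ?_
  have hmem : ∀ i, l.toFun i ∈ Set.range q := fun i => hgen _
    (Scheme.le_iff_specializes.1 (hl.trans (l.head_le i)))
  choose g hg using hmem
  let l' : LTSeries ↥(h.fiber (h u)) := LTSeries.mk l.length g (by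
    intro i j hij
    have h0 : l.toFun i < l.toFun j := l.strictMono hij
    rw [← hg i, ← hg j, lt_iff_le_not_ge] at h0
    rw [lt_iff_le_not_ge]
    exact ⟨Scheme.le_iff_specializes.2 (hqe.isInducing.specializes_iff.mp
      (Scheme.le_iff_specializes.1 h0.1)),
      fun h' => h0.2 (Scheme.le_iff_specializes.2
        ((Scheme.le_iff_specializes.1 h').map q.continuous))⟩)
  refine le_of_eq_of_le rfl (Order.length_le_coheight (p := l') ?_)
  refine Scheme.le_iff_specializes.2 (hqe.isInducing.specializes_iff.mp ?_)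
  show q (g 0) ⤳ q (h.asFiber u)
  rw [hg 0]
  exact Scheme.le_iff_specializes.1 hl

theorem resTrdeg_comp {X Y Z : Scheme.{u}} (f : X ⟶ Y) (g : Y ⟶ Z) (x : X) :
    Dual3.resTrdeg (f ≫ g) x = Dual3.resTrdeg g (f x) + Dual3.resTrdeg f x := by
  let := (g.residueFieldMap (f x)).hom.toAlgebra
  let := (f.residueFieldMap x).hom.toAlgebra
  let : Algebra (Z.residueField (g (f x))) (X.residueField x) :=
    ((f ≫ g).residueFieldMap x).hom.toAlgebra
  have : IsScalarTower (Z.residueField (g (f x))) (Y.residueField (f x)) (X.residueField x) :=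
    IsScalarTower.of_algebraMap_eq fun c =>
      congr($(congrArg CommRingCat.Hom.hom (Scheme.residueFieldMap_comp f g x)) c)
  exact (trdeg_add_eq (Z.residueField (g (f x))) (Y.residueField (f x))
    (A := X.residueField x)).symm

theorem resTrdeg_eq_zero_of_quasiFinite {X Y : Scheme.{u}} (f : X ⟶ Y) [LocallyQuasiFinite f]
    [LocallyOfFiniteType f] (x : X) : Dual3.resTrdeg f x = 0 := by
  let := (f.residueFieldMap x).hom.toAlgebra
  have : Module.Finite (Y.residueField (f x)) (X.residueField x) :=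
    Groth.Flatmor4.finite_residueFieldMap f (f.quasiFiniteAt x)
  exact trdeg_eq_zero

theorem resTrdeg_etale_comp (e : U' ⟶ U) [Etale e] (h : U ⟶ V) (u : U') :
    Dual3.resTrdeg (e ≫ h) u = Dual3.resTrdeg h (e u) := by
  have : LocallyQuasiFinite e := Groth.DescentBase.locallyQuasiFinite_of_etale e
  rw [resTrdeg_comp, resTrdeg_eq_zero_of_quasiFinite e u, add_zero]

theorem resTrdeg_comp_etale (h : U ⟶ V) (e : V ⟶ V') [Etale e] (u : U) :
    Dual3.resTrdeg (h ≫ e) u = Dual3.resTrdeg h u := by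
  have : LocallyQuasiFinite e := Groth.DescentBase.locallyQuasiFinite_of_etale e
  rw [resTrdeg_comp, resTrdeg_eq_zero_of_quasiFinite e (h u), zero_add]

end Groth.AlgSp3
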