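import Mathlib.AlgebraicGeometry.Morphisms.Finite
import Mathlib.AlgebraicGeometry.Morphisms.FiniteType
import Groth.Agent.Calg2.GDomain
import Mathlib.RingTheory.Algebraic.Integral

/-!
# Points of finite type are locally closed
-/

set_option autoImplicit false
universe u

open CategoryTheory AlgebraicGeometry TopologicalSpace Topology

namespace Groth.AlgSp3

/-- A domain with an injective finite type map to a field is a G-domain. -/
theorem exists_forall_mem_of_finiteType (A k : Type u) [CommRing A] [IsDomain A] [Field k]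
    [Algebra A k] [FaithfulSMul A k] [Algebra.FiniteType A k] :
    ∃ a : A, a ≠ 0 ∧ ∀ q : Ideal A, q.IsPrime → q ≠ ⊥ → a ∈ q := by
  classical
  let L := FractionRing A
  let := FractionRing.liftAlgebra A k
  have : Algebra.FiniteType L k := Algebra.FiniteType.of_restrictScalars_finiteType A L k
  have : Module.Finite L k := finite_of_finite_type_of_isJacobsonRing L k
  obtain ⟨s, hs⟩ := (inferInstance : Algebra.FiniteType A k).out
  have halg : ∀ x : k, ∃ c : A, c ≠ 0 ∧ IsIntegral A (c • x) := fun x => by
    obtain ⟨c, hc, hi⟩ := ((IsFractionRing.isAlgebraic_iff A L k).mpr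
      (Algebra.IsAlgebraic.isAlgebraic (R := L) x)).exists_integral_multiple
    exact ⟨c, hc, hi⟩
  choose c hc hi using halg
  refine ⟨∏ x ∈ s, c x, Finset.prod_ne_zero_iff.mpr fun x _ => hc x, ?_⟩
  set a := ∏ x ∈ s, c x with ha
  have ha0 : a ≠ 0 := Finset.prod_ne_zero_iff.mpr fun x _ => hc x
  refine (Groth.Calg2.GDomain.isField_away_iff A a ha0).mp ?_
  have hinjA : Function.Injective (algebraMap A k) := FaithfulSMul.algebraMap_injective A k
  have hunit : IsUnit (algebraMap A k a) :=
    isUnit_iff_ne_zero.mpr fun h => ha0 (hinjA (h.trans (map_zero _).symm))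
  let φ : Localization.Away a →+* k := IsLocalization.Away.lift a hunit
  let := φ.toAlgebra
  have : IsScalarTower A (Localization.Away a) k :=
    IsScalarTower.of_algebraMap_eq fun x => (IsLocalization.Away.lift_eq a hunit x).symm
  have hle : Submonoid.powers a ≤ nonZeroDivisors A := powers_le_nonZeroDivisors_of_noZeroDivisors ha0
  have : IsDomain (Localization.Away a) := IsLocalization.isDomain_localization hle
  have hinj : Function.Injective (algebraMap (Localization.Away a) k) := by
    change Function.Injective φ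
    exact IsLocalization.lift_injective_iff _ |>.mpr fun x y =>
      ⟨fun h => congrArg (algebraMap A k) (IsLocalization.injective _ hle h),
        fun h => congrArg _ (hinjA h)⟩
  have hint : ∀ x ∈ s, IsIntegral (Localization.Away a) x := by
    intro x hx
    have h1 : IsIntegral (Localization.Away a) (c x • x) := (hi x).tower_top
    obtain ⟨v, hv⟩ : IsUnit (algebraMap A (Localization.Away a) (c x)) :=
      isUnit_of_dvd_unit (map_dvd _ (Finset.dvd_prod_of_mem _ hx))
        (IsLocalization.Away.algebraMap_isUnit a)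
    have h2 := (isIntegral_algebraMap (R := Localization.Away a) (A := k)
      (x := (↑v⁻¹ : Localization.Away a))).mul h1
    have e : algebraMap (Localization.Away a) k ↑v⁻¹ * (c x • x) = x := by
      rw [Algebra.smul_def, IsScalarTower.algebraMap_apply A (Localization.Away a) k, ← hv,
        ← mul_assoc, ← map_mul, Units.inv_mul, map_one, one_mul]
    rwa [e] at h2
  have : Algebra.IsIntegral (Localization.Away a) k := ⟨fun y => by
    have hy : y ∈ Algebra.adjoin A (s : Set k) := hs ▸ Algebra.mem_top
    induction hy using Algebra.adjoin_induction with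
    | mem x hx => exact hint x hx
    | algebraMap r =>
      rw [IsScalarTower.algebraMap_apply A (Localization.Away a) k]
      exact isIntegral_algebraMap
    | add x y _ _ hx hy => exact hx.add hy
    | mul x y _ _ hx hy => exact hx.mul hy⟩
  exact isField_of_isIntegral_of_isField hinj (Field.toIsField k)

/-- A point of finite type is closed in some neighbourhood. -/
theorem exists_open_of_finiteTypePoint {U : Scheme.{u}} {k : Type u} [Field k]
    (g : Spec (CommRingCat.of k) ⟶ U) [LocallyOfFiniteType g] (t : Spec (CommRingCat.of k)) :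
    ∃ W : U.Opens, g t ∈ W ∧ ∀ y ∈ W, g t ⤳ y → y = g t := by
  obtain ⟨K, hK, hgK, -⟩ :=
    exists_isAffineOpen_mem_and_subset (X := U) (x := g t) (U := ⊤) trivial
  have hr : Set.range g ⊆ Set.range hK.fromSpec := by
    rintro _ ⟨t', rfl⟩
    rw [hK.range_fromSpec, Subsingleton.elim (α := PrimeSpectrum k) t' t]
    exact hgK
  let g' := IsOpenImmersion.lift hK.fromSpec g hr
  have hg' : g' ≫ hK.fromSpec = g := IsOpenImmersion.lift_fac _ _ _
  have : LocallyOfFiniteType (g' ≫ hK.fromSpec) := hg'.symm ▸ inferInstance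
  have : LocallyOfFiniteType g' := locallyOfFiniteType_of_comp g' hK.fromSpec
  obtain ⟨φ, hφ⟩ := Spec.map_surjective g'
  have hft : φ.hom.FiniteType := by
    rw [← HasRingHomProperty.Spec_iff (P := @LocallyOfFiniteType), hφ]; infer_instance
  let p := RingHom.ker φ.hom
  have : p.IsPrime := RingHom.ker_isPrime _
  let ψ : Γ(U, K) ⧸ p →+* k := RingHom.kerLift φ.hom
  let := ψ.toAlgebra
  have : FaithfulSMul (Γ(U, K) ⧸ p) k :=
    (faithfulSMul_iff_algebraMap_injective _ _).mpr (RingHom.kerLift_injective φ.hom)
  have : Algebra.FiniteType (Γ(U, K) ⧸ p) k := RingHom.FiniteType.of_comp_finiteType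
    (f := Ideal.Quotient.mk p) (g := ψ) hft
  obtain ⟨a, ha, hq⟩ := exists_forall_mem_of_finiteType (Γ(U, K) ⧸ p) k
  obtain ⟨r, rfl⟩ := Ideal.Quotient.mk_surjective a
  have hrp : r ∉ p := fun h => ha (Ideal.Quotient.eq_zero_iff_mem.mpr h)
  have hgt : g t = hK.fromSpec ⟨p, inferInstance⟩ := by
    rw [← hg', Scheme.Hom.comp_apply, ← hφ]
    congr 1
    apply PrimeSpectrum.ext
    show (t.asIdeal).comap φ.hom = p
    rw [Subsingleton.elim (α := PrimeSpectrum k) t ⟨⊥, Ideal.isPrime_bot⟩]
    rfl
  refine ⟨hK.fromSpec ''ᵁ PrimeSpectrum.basicOpen r, ⟨⟨p, inferInstance⟩, hrp, hgt.symm⟩, ?_⟩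
  rintro _ ⟨q, hqr, rfl⟩ hspec
  rw [hgt] at hspec ⊢
  have hle : p ≤ q.asIdeal :=
    (PrimeSpectrum.le_iff_specializes _ q).mpr (hK.fromSpec.isOpenEmbedding.isInducing.specializes_iff.mp hspec)
  congr 1
  apply PrimeSpectrum.ext
  have hqp : (q.asIdeal.map (Ideal.Quotient.mk p)).IsPrime :=
    Ideal.map_isPrime_of_surjective Ideal.Quotient.mk_surjective (by rwa [Ideal.mk_ker])
  by_cases h0 : q.asIdeal.map (Ideal.Quotient.mk p) = ⊥
  · refine le_antisymm ?_ hle
    rw [Ideal.map_eq_bot_iff_le_ker, Ideal.mk_ker] at h0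
    exact h0
  · refine absurd ?_ hqr
    have := hq _ hqp h0
    rw [Ideal.mem_map_iff_of_surjective _ Ideal.Quotient.mk_surjective] at this
    obtain ⟨x, hx, hxr⟩ := this
    rw [Ideal.Quotient.eq] at hxr
    have := q.asIdeal.sub_mem hx (hle hxr)
    simpa using this

theorem isClosed_singleton_of_forall_specializes {U : Scheme.{u}} {W : U.Opens} {x : U} (hx : x ∈ W)
    (h : ∀ y ∈ W, x ⤳ y → y = x) : IsClosed ({⟨x, hx⟩} : Set ↥(W : U.Opens).toScheme) := by
  rw [← closure_subset_iff_isClosed]
  intro y hy
  have := (specializes_iff_mem_closure.mpr hy).map W.ι.continuous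
  exact W.ι.isOpenEmbedding.injective (h _ y.2 this)

end Groth.AlgSp3
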