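import Groth.Prelude.Def_AlgSp
import Mathlib.AlgebraicGeometry.Limits
import Mathlib.AlgebraicGeometry.Morphisms.Flat
import Mathlib.AlgebraicGeometry.Morphisms.Etale

/-!
# Free actions of abstract groups give étale equivalence relations
-/

set_option autoImplicit false
set_option backward.isDefEq.respectTransparency.types false
universe u

open CategoryTheory CategoryTheory.Limits AlgebraicGeometry AlgSp

namespace Groth.AlgSp3

noncomputable section

/-- The inclusions into a coproduct of schemes over a base form an open covering. -/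
theorem cofan_over_cover {S : Scheme.{u}} {ι : Type u} {X : ι → Over S} (c : Cofan X)
    (hc : IsColimit c) :
    (∀ i, IsOpenImmersion (c.inj i).left) ∧ ∀ p, ∃ i, p ∈ Set.range (c.inj i).left := by
  let e : (∐ fun i => (X i).left) ≅ c.pt.left := (coproductIsCoproduct fun i => (X i).left).coconePointUniqueUpToIso
    (isColimitCofanMkObjOfIsColimit (Over.forget S) X (P := c.pt) c.inj
      (IsColimit.ofIsoColimit hc (Cofan.ext (Iso.refl _) (fun i => Category.comp_id _))))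
  have he : ∀ i, Sigma.ι (fun i => (X i).left) i ≫ e.hom = (c.inj i).left := fun i =>
    IsColimit.comp_coconePointUniqueUpToIso_hom (coproductIsCoproduct fun i => (X i).left) _ ⟨i⟩
  refine ⟨fun i => by rw [← he i]; infer_instance, fun p => ?_⟩
  obtain ⟨i, z, hz⟩ : ∃ (i : ι) (z : (X i).left), Sigma.ι (fun i => (X i).left) i z = e.inv p := by
    obtain ⟨i, z, hz⟩ := (sigmaOpenCover fun i => (X i).left).exists_eq (e.inv p)
    exact ⟨i, z, hz⟩
  refine ⟨i, z, ?_⟩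
  rw [← he i, Scheme.Hom.comp_apply]
  rw [hz, ← Scheme.Hom.comp_apply, Iso.inv_hom_id]
  rfl

/-- Spectra of field extensions are epimorphisms. -/
theorem epi_specMap_field {K L : CommRingCat.{u}} (hK : IsField K) (hL : IsField L) (i : K ⟶ L) :
    Epi (Spec.map i) := by
  let := hK.toField
  let := hL.toField
  have : Surjective (Spec.map i) :=
    ⟨fun z => ⟨(⊥ : PrimeSpectrum L), Subsingleton.elim (α := PrimeSpectrum K) _ _⟩⟩
  have : Flat (Spec.map i) := by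
    rw [HasRingHomProperty.Spec_iff (P := @Flat)]
    algebraize [i.hom]
    exact inferInstanceAs (Module.Flat K L)
  exact Flat.epi_of_flat_of_surjective (Spec.map i)

variable {S : Scheme.{u}} {U : Over S} {G : Type u} [Group G] (ρ : G →* Aut U)
  (hfree : ∀ (g : G) (x : U.left), g ≠ 1 →
    U.left.fromSpecResidueField x ≫ (ρ g).hom.left ≠ U.left.fromSpecResidueField x)
  (c : Cofan (fun _ : G => U)) (hc : IsColimit c) (s t : c.pt ⟶ U)
  (hs : ∀ g, c.inj g ≫ s = 𝟙 U) (ht : ∀ g, c.inj g ≫ t = (ρ g).hom)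

omit ρ in
theorem exists_local_piece {c : Cofan (fun _ : G => U)} (hc : IsColimit c) {T : Over S}
    (r : T ⟶ c.pt) (p : T.left) :
    ∃ (V : T.left.Opens) (g : G) (x : Over.mk (V.ι ≫ T.hom) ⟶ U), p ∈ V ∧
      (Over.homMk V.ι rfl : Over.mk (V.ι ≫ T.hom) ⟶ T) ≫ r = x ≫ c.inj g := by
  obtain ⟨hopen, hcov⟩ := cofan_over_cover c hc
  obtain ⟨g, hg⟩ := hcov (r.left p)
  have := hopen g
  let V : T.left.Opens := r.left ⁻¹ᵁ (c.inj g).left.opensRange
  have hV : Set.range (V.ι ≫ r.left) ⊆ Set.range (c.inj g).left := by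
    rintro _ ⟨z, rfl⟩
    exact z.2
  let x₀ := IsOpenImmersion.lift (c.inj g).left (V.ι ≫ r.left) hV
  have hx₀ : x₀ ≫ (c.inj g).left = V.ι ≫ r.left := IsOpenImmersion.lift_fac _ _ _
  refine ⟨V, g, Over.homMk x₀ ?_, hg, Over.OverMorphism.ext hx₀.symm⟩
  show x₀ ≫ U.hom = V.ι ≫ T.hom
  rw [← Over.w r, ← reassoc_of% hx₀, Over.w (c.inj g)]

include hfree in
theorem eq_of_comp_eq {T : Over S} (p : T.left) (x : T ⟶ U) {g h : G}
    (e : x ≫ (ρ g).hom = x ≫ (ρ h).hom) : g = h := by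
  by_contra hne
  have hne' : g⁻¹ * h ≠ 1 := fun h1 => hne (inv_mul_eq_one.1 h1)
  apply hfree (g⁻¹ * h) (x.left p) hne'
  have e1 : x ≫ (ρ (g⁻¹ * h)).hom = x := by
    have h1 : (ρ (g⁻¹ * h)).hom = (ρ h).hom ≫ (ρ g⁻¹).hom := by rw [map_mul]; rfl
    have h2 : (ρ g).hom ≫ (ρ g⁻¹).hom = 𝟙 U := by
      rw [map_inv]; exact (ρ g).hom_inv_id
    rw [h1, ← Category.assoc, ← e, Category.assoc, h2, Category.comp_id]
  have := epi_specMap_field (Field.toIsField _) (Field.toIsField _) (x.left.residueFieldMap p)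
  rw [← cancel_epi (Spec.map (x.left.residueFieldMap p)),
    Scheme.Hom.SpecMap_residueFieldMap_fromSpecResidueField_assoc,
    Scheme.Hom.SpecMap_residueFieldMap_fromSpecResidueField, ← Over.comp_left, e1]

include hfree hc hs ht

theorem injective_of_free (T : Over S) (r r' : T ⟶ c.pt) (e₁ : r ≫ t = r' ≫ t)
    (e₂ : r ≫ s = r' ≫ s) : r = r' := by
  apply Over.OverMorphism.ext
  refine Scheme.hom_ext_of_forall _ _ fun p => ?_
  obtain ⟨V, g, x, hp, hx⟩ := exists_local_piece hc r p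
  let i : Over.mk (V.ι ≫ T.hom) ⟶ T := Over.homMk V.ι rfl
  obtain ⟨V', g', x', hp', hx'⟩ := exists_local_piece hc (i ≫ r') ⟨p, hp⟩
  let i' : Over.mk (V'.ι ≫ (Over.mk (V.ι ≫ T.hom)).hom) ⟶ Over.mk (V.ι ≫ T.hom) :=
    Over.homMk V'.ι rfl
  have hxs : i' ≫ x = x' := by
    have h1 : (i' ≫ x) ≫ c.inj g ≫ s = x' ≫ c.inj g' ≫ s := by
      rw [Category.assoc, ← reassoc_of% hx, e₂, ← reassoc_of% hx']
    rwa [hs, hs, Category.comp_id, Category.comp_id] at h1
  have hxt : x' ≫ (ρ g).hom = x' ≫ (ρ g').hom := by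
    rw [← ht g, ← ht g', ← hxs, Category.assoc, ← reassoc_of% hx, e₁]
    rw [hxs, ← reassoc_of% hx']
  obtain rfl := eq_of_comp_eq ρ hfree (T := Over.mk (V'.ι ≫ V.ι ≫ T.hom)) ⟨⟨p, hp⟩, hp'⟩ x' hxt
  have key : i' ≫ i ≫ r = i' ≫ i ≫ r' := by
    rw [hx, hx', ← Category.assoc, hxs]
  refine ⟨V.ι ''ᵁ V', ⟨⟨p, hp⟩, hp', rfl⟩, ?_⟩
  rw [← cancel_epi (V.ι.isoImage V').hom, Scheme.Hom.isoImage_hom_ι_assoc,
    Scheme.Hom.isoImage_hom_ι_assoc]
  simpa [i, i'] using congrArg CommaMorphism.left key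

theorem exists_glue_rel {T : Over S} (a b : T ⟶ U)
    (h : ∀ p : T.left, ∃ (V : T.left.Opens) (r : Over.mk (V.ι ≫ T.hom) ⟶ c.pt), p ∈ V ∧
      r ≫ t = (Over.homMk V.ι rfl : Over.mk (V.ι ≫ T.hom) ⟶ T) ≫ a ∧
      r ≫ s = (Over.homMk V.ι rfl : Over.mk (V.ι ≫ T.hom) ⟶ T) ≫ b) :
    ∃ r : T ⟶ c.pt, r ≫ t = a ∧ r ≫ s = b := by
  choose V r hp hrt hrs using h
  let 𝒰 := T.left.openCoverOfIsOpenCover V
    (TopologicalSpace.IsOpenCover.mk (top_le_iff.1 fun p _ =>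
      TopologicalSpace.Opens.mem_iSup.2 ⟨p, hp p⟩))
  have hcompat : ∀ p q, pullback.fst (𝒰.f p) (𝒰.f q) ≫ (r p).left =
      pullback.snd (𝒰.f p) (𝒰.f q) ≫ (r q).left := by
    intro p q
    let P : Over S := Over.mk (pullback.fst (𝒰.f p) (𝒰.f q) ≫ (V p).ι ≫ T.hom)
    let a₁ : P ⟶ Over.mk ((V p).ι ≫ T.hom) := Over.homMk (pullback.fst (𝒰.f p) (𝒰.f q)) rfl
    let a₂ : P ⟶ Over.mk ((V q).ι ≫ T.hom) := Over.homMk (pullback.snd (𝒰.f p) (𝒰.f q)) (by
      exact (congrArg (· ≫ T.hom) (pullback.condition (f := 𝒰.f p) (g := 𝒰.f q))).symm.trans rfl)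
    have w : a₁ ≫ (Over.homMk (V p).ι rfl : Over.mk ((V p).ι ≫ T.hom) ⟶ T) =
        a₂ ≫ (Over.homMk (V q).ι rfl : Over.mk ((V q).ι ≫ T.hom) ⟶ T) :=
      Over.OverMorphism.ext pullback.condition
    exact congrArg CommaMorphism.left (injective_of_free ρ hfree c hc s t hs ht P (a₁ ≫ r p)
      (a₂ ≫ r q) (by rw [Category.assoc, Category.assoc, hrt, hrt, reassoc_of% w])
      (by rw [Category.assoc, Category.assoc, hrs, hrs, reassoc_of% w]))
  let R : T ⟶ c.pt := Over.homMk (𝒰.glueMorphisms (fun p => (r p).left) hcompat) (by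
    refine 𝒰.hom_ext _ _ fun p => ?_
    rw [Scheme.Cover.ι_glueMorphisms_assoc]
    exact Over.w (r p))
  refine ⟨R, Over.OverMorphism.ext (𝒰.hom_ext _ _ fun p => ?_),
    Over.OverMorphism.ext (𝒰.hom_ext _ _ fun p => ?_)⟩
  · show 𝒰.f p ≫ 𝒰.glueMorphisms _ hcompat ≫ t.left = _
    rw [Scheme.Cover.ι_glueMorphisms_assoc]
    exact congrArg CommaMorphism.left (hrt p)
  · show 𝒰.f p ≫ 𝒰.glueMorphisms _ hcompat ≫ s.left = _
    rw [Scheme.Cover.ι_glueMorphisms_assoc]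
    exact congrArg CommaMorphism.left (hrs p)

theorem isEtaleEqvRel_of_free : IsEtaleEqvRel s t := by
  refine ⟨⟨injective_of_free ρ hfree c hc s t hs ht, fun T => ⟨fun a => ?_, ?_, ?_⟩⟩, ?_, ?_⟩
  · exact ⟨a ≫ c.inj 1, by rw [Category.assoc, ht, map_one]; exact Category.comp_id a,
      by rw [Category.assoc, hs, Category.comp_id]⟩
  · rintro a b ⟨r, rfl, rfl⟩
    refine exists_glue_rel ρ hfree c hc s t hs ht _ _ fun p => ?_
    obtain ⟨V, g, x, hp, hx⟩ := exists_local_piece hc r p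
    refine ⟨V, x ≫ (ρ g).hom ≫ c.inj g⁻¹, hp, ?_, ?_⟩
    · rw [reassoc_of% hx, hs, Category.comp_id, Category.assoc, Category.assoc, ht, map_inv]
      exact (congrArg (x ≫ ·) (ρ g).hom_inv_id).trans (Category.comp_id x)
    · rw [reassoc_of% hx, ht, Category.assoc, Category.assoc, hs, Category.comp_id]
  · rintro a b d ⟨r, rfl, hb⟩ ⟨r', hb', rfl⟩
    refine exists_glue_rel ρ hfree c hc s t hs ht _ _ fun p => ?_
    obtain ⟨V, g, x, hp, hx⟩ := exists_local_piece hc r p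
    let i : Over.mk (V.ι ≫ T.hom) ⟶ T := Over.homMk V.ι rfl
    obtain ⟨V', h, y, hp', hy⟩ := exists_local_piece hc (i ≫ r') ⟨p, hp⟩
    let i' : Over.mk (V'.ι ≫ (Over.mk (V.ι ≫ T.hom)).hom) ⟶ Over.mk (V.ι ≫ T.hom) :=
      Over.homMk V'.ι rfl
    let j : Over.mk ((V.ι ''ᵁ V').ι ≫ T.hom) ⟶ Over.mk (V'.ι ≫ V.ι ≫ T.hom) :=
      Over.homMk (V.ι.isoImage V').inv (by
        show (V.ι.isoImage V').inv ≫ V'.ι ≫ V.ι ≫ T.hom = (V.ι ''ᵁ V').ι ≫ T.hom
        rw [Scheme.Hom.isoImage_inv_ι_assoc])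
    have hj : (Over.homMk (V.ι ''ᵁ V').ι rfl : Over.mk ((V.ι ''ᵁ V').ι ≫ T.hom) ⟶ T) =
        j ≫ i' ≫ i := Over.OverMorphism.ext (Scheme.Hom.isoImage_inv_ι V.ι V').symm
    refine ⟨V.ι ''ᵁ V', j ≫ y ≫ c.inj (g * h), ⟨⟨p, hp⟩, hp', rfl⟩, ?_, ?_⟩
    · have e1 : i' ≫ x = y ≫ (ρ h).hom := by
        have h1 : i' ≫ x ≫ c.inj g ≫ s = y ≫ c.inj h ≫ t := by
          rw [← reassoc_of% hx, ← reassoc_of% hy, hb, hb']
        rwa [hs, ht, Category.comp_id] at h1
      rw [hj, Category.assoc, Category.assoc, Category.assoc, Category.assoc, ht, map_mul,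
        reassoc_of% hx, ht, reassoc_of% e1]
      rfl
    · rw [hj, Category.assoc, Category.assoc, Category.assoc, Category.assoc, hs, Category.comp_id,
        reassoc_of% hy, hs, Category.comp_id]
  all_goals
    obtain ⟨hopen, hcov⟩ := cofan_over_cover c hc
    let 𝒰 : c.pt.left.OpenCover := Scheme.Cover.mkOfCovers G (fun _ => U.left)
      (fun g => (c.inj g).left) (fun p => by obtain ⟨g, z, hz⟩ := hcov p; exact ⟨g, z, hz⟩) hopen
    refine IsZariskiLocalAtSource.of_openCover 𝒰 fun g => ?_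
  · show Etale ((c.inj g).left ≫ s.left)
    rw [← Over.comp_left, hs g]
    exact inferInstanceAs (Etale (𝟙 U.left))
  · show Etale ((c.inj g).left ≫ t.left)
    rw [← Over.comp_left, ht g]
    have : IsIso (ρ g).hom.left := inferInstanceAs (IsIso ((Over.forget S).map (ρ g).hom))
    infer_instance

end

end Groth.AlgSp3
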