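import Groth.Agent.AlgSp3.FreeAction
import Groth.Agent.AlgSpBasic.Quotient
import Groth.Agent.AlgSpBasic.PointMono
import Mathlib.FieldTheory.Galois.Basic
import Mathlib.RingTheory.Unramified.Field
import Mathlib.RingTheory.Etale.Basic

/-!
# Field points of the quotient by a free action
-/

set_option autoImplicit false
set_option backward.isDefEq.respectTransparency.types false
universe u

open CategoryTheory CategoryTheory.Limits AlgebraicGeometry Opposite AlgSp Groth.AlgSpBasic

namespace Groth.AlgSp3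

/-- A point of a scheme etale over a field. -/
theorem etale_fromSpec_comp {k : Type u} [Field k] {W : Scheme.{u}}
    (w : W ⟶ Spec (CommRingCat.of k)) [Etale w] (p : W) : Etale (W.fromSpecResidueField p ≫ w) := by
  have : DiscreteTopology ↥W := discreteTopology_of_etale (k := k) w
  have : IsOpenImmersion (W.fromSpecResidueField p) :=
    isOpenImmersion_of_preimmersion _ (fieldStalks_of_etale (k := k) w)
  infer_instance

/-- An automorphism of a scheme over a field moving one geometric point at a given point to another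
one restricts to an automorphism of the residue field. -/
theorem exists_algEquiv_comp_eq {k : Type u} [Field k] {W : Scheme.{u}}
    (w : W ⟶ Spec (CommRingCat.of k)) (p : W) [Algebra k (W.residueField p)]
    [Module.Finite k (W.residueField p)]
    (hw : Spec.map (CommRingCat.ofHom (algebraMap k (W.residueField p))) =
      W.fromSpecResidueField p ≫ w) (T : W ⟶ W) (hT : T ≫ w = w) {Ω : Type u} [Field Ω]
    [Algebra k Ω] (ι τ : W.residueField p →ₐ[k] Ω)
    (h : Spec.map (CommRingCat.ofHom ι.toRingHom) ≫ W.fromSpecResidueField p ≫ T =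
      Spec.map (CommRingCat.ofHom τ.toRingHom) ≫ W.fromSpecResidueField p) :
    ∃ ψ : W.residueField p ≃ₐ[k] W.residueField p, ι.comp ψ.toAlgHom = τ := by
  obtain ⟨m, hm⟩ := exists_fac_fromSpecResidueField (W := Spec (W.residueField p))
    (W.fromSpecResidueField p ≫ T) p fun z => by
      let d : ↥(Spec (CommRingCat.of Ω)) := default
      have := congr($(h) d)
      have key : ∀ y, W.fromSpecResidueField p y = p := fun y =>
        Scheme.fromSpecResidueField_apply _ _
      simp only [Scheme.Hom.comp_apply] at this ⊢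
      exact (congrArg T ((key z).trans (key _).symm)).trans (this.trans (key _))
  obtain ⟨ψ, rfl⟩ := Spec.map_surjective m
  have h1 : Spec.map ψ ≫ Spec.map (CommRingCat.ofHom (algebraMap k (W.residueField p))) =
      Spec.map (CommRingCat.ofHom (algebraMap k (W.residueField p))) := by
    refine (congrArg (Spec.map ψ ≫ ·) hw).trans ?_
    refine (Category.assoc _ _ _).symm.trans ((congrArg (· ≫ w) hm).trans ?_)
    rw [Category.assoc, hT]
    exact hw.symm
  rw [← Spec.map_comp] at h1
  have hψ : ∀ z, ψ.hom (algebraMap k _ z) = algebraMap k _ z :=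
    fun z => congrArg (fun q => q.hom z) (Spec.map_injective h1)
  let ψA : W.residueField p →ₐ[k] W.residueField p := { ψ.hom with commutes' := hψ }
  refine ⟨AlgEquiv.ofBijective ψA (AlgHom.bijective ψA), ?_⟩
  rw [← hm, ← Category.assoc, cancel_mono, ← Spec.map_comp] at h
  exact AlgHom.ext fun z => congrArg (fun q => q.hom z) (Spec.map_injective h)

variable {S : Scheme.{u}} {U : Over S} {G : Type u} [Group G] (ρ : G →* Aut U)

theorem action_mul_left (g h : G) :
    (ρ (g * h)).hom.left = (ρ h).hom.left ≫ (ρ g).hom.left := by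
  rw [map_mul]; rfl

set_option maxHeartbeats 800000 in
/-- A field point of the quotient by a free action lifts equivariantly to a Galois extension. -/
theorem exists_galois_point
    (hfree : ∀ (g : G) (x : U.left), g ≠ 1 →
      U.left.fromSpecResidueField x ≫ (ρ g).hom.left ≠ U.left.fromSpecResidueField x)
    (c : Cofan (fun _ : G => U)) (hc : IsColimit c) (s t : c.pt ⟶ U)
    (hs : ∀ g, c.inj g ≫ s = 𝟙 U) (ht : ∀ g, c.inj g ≫ t = (ρ g).hom)
    (k : Type u) [Field k] (σ : Spec (CommRingCat.of k) ⟶ S)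
    (ξ : (yon S).obj (Over.mk σ) ⟶ QuotSh.quot Scheme.fppfPrecoverage s t) :
    ∃ (k' : Type u) (_ : Field k') (_ : Algebra k k') (_ : FiniteDimensional k k')
      (_ : IsGalois k k') (H : Subgroup G) (_ : Finite H) (e : H ≃* (k' ≃ₐ[k] k'))
      (x' : Over.mk (Spec.map (CommRingCat.ofHom (algebraMap k k')) ≫ σ) ⟶ U),
      (∀ h : H, Spec.map (CommRingCat.ofHom (e h).symm.toRingEquiv.toRingHom) ≫ x'.left =
        x'.left ≫ (ρ (h : G)).hom.left) ∧
      (yon S).map x' ≫ yonQuotπ s t =
        (yon S).map (Over.homMk (Spec.map (CommRingCat.ofHom (algebraMap k k'))) :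
          Over.mk (Spec.map (CommRingCat.ofHom (algebraMap k k')) ≫ σ) ⟶ Over.mk σ) ≫ ξ := by
  have hR := isEtaleEqvRel_of_free ρ hfree c hc s t hs ht
  have := hR.etale_left
  have := hR.etale_right
  have := isLocallySurjective_yonQuotπ s t
  have sqQ := isPullback_yonQuot hR.toIsEqvRel
  obtain ⟨-, he, hes⟩ := isAlgSpace_of_kernelPair sqQ
  let π := yonQuotπ s t
  obtain ⟨W, f, w, sq⟩ := exists_pullback_yon he.rep ξ
  have : Etale w.left := he.property _ _ _ sq
  have : Surjective w.left := hes.property _ _ _ sq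
  obtain ⟨p, -⟩ := w.left.surjective (default : ↥(Spec (CommRingCat.of k)))
  obtain ⟨φ, hφ⟩ := Spec.map_surjective (W.left.fromSpecResidueField p ≫ w.left)
  let k' : Type u := W.left.residueField p
  letI : Algebra k k' := φ.hom.toAlgebra
  have hφ' : Spec.map (CommRingCat.ofHom (algebraMap k k')) =
      W.left.fromSpecResidueField p ≫ w.left := hφ
  have hEt : Etale (Spec.map (CommRingCat.ofHom (algebraMap k k'))) := by
    rw [hφ']; exact etale_fromSpec_comp w.left p
  rw [HasRingHomProperty.Spec_iff (P := @Etale)] at hEt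
  have : Algebra.Etale k k' := RingHom.etale_algebraMap.1 hEt
  have : Module.Finite k k' := Algebra.FormallyUnramified.finite_of_free k k'
  have : Algebra.IsSeparable k k' := Algebra.FormallyUnramified.isSeparable k k'
  let K' : Over S := Over.mk (Spec.map (CommRingCat.ofHom (algebraMap k k')) ≫ σ)
  let a : K' ⟶ Over.mk σ := Over.homMk (Spec.map (CommRingCat.ofHom (algebraMap k k')))
  let i : K' ⟶ W := Over.homMk (W.left.fromSpecResidueField p) (by
    show W.left.fromSpecResidueField p ≫ W.hom = Spec.map _ ≫ σ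
    rw [hφ', Category.assoc]
    exact congrArg _ (Over.w w).symm)
  have hiw : i ≫ w = a := Over.OverMorphism.ext hφ'.symm
  have hπ : (yon S).map (i ≫ f) ≫ π = (yon S).map a ≫ ξ := by
    rw [← hiw, Functor.map_comp, Functor.map_comp, Category.assoc, Category.assoc, sq.w]
  -- translations of the pullback
  have hinv : ∀ g, (yon S).map (ρ g).hom ≫ π = π := fun g => by
    show (yon S).map (ρ g).hom ≫ yonQuotπ s t = yonQuotπ s t
    rw [← ht g, Functor.map_comp]
    refine (Category.assoc _ _ _).trans ((congrArg ((yon S).map (c.inj g) ≫ ·) sqQ.w).trans ?_)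
    refine (Category.assoc _ _ _).symm.trans ?_
    rw [← Functor.map_comp, hs, CategoryTheory.Functor.map_id]
    exact Category.id_comp _
  have hT : ∀ g, ∃ T : W ⟶ W, T ≫ f = f ≫ (ρ g).hom ∧ T ≫ w = w := fun g => by
    obtain ⟨T, hT⟩ := (yon S).map_surjective (sq.lift ((yon S).map (f ≫ (ρ g).hom)) ((yon S).map w)
      (by rw [Functor.map_comp, Category.assoc, hinv, sq.w]))
    exact ⟨T, (yon S).map_injective (by rw [Functor.map_comp, hT, sq.lift_fst]),
      (yon S).map_injective (by rw [Functor.map_comp, hT, sq.lift_snd])⟩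
  choose T hTf hTw using hT
  have hWext : ∀ {Z : Over S} (l l' : Z ⟶ W), l ≫ f = l' ≫ f → l ≫ w = l' ≫ w → l = l' :=
    fun l l' e₁ e₂ => (yon S).map_injective (sq.hom_ext
      (by rw [← Functor.map_comp, ← Functor.map_comp, e₁])
      (by rw [← Functor.map_comp, ← Functor.map_comp, e₂]))
  have : Mono i.left := inferInstanceAs (Mono (W.left.fromSpecResidueField p))
  -- maps of points
  let sp : (k' ≃ₐ[k] k') → (Spec (CommRingCat.of k') ⟶ Spec (CommRingCat.of k')) := fun τ =>
    Spec.map (CommRingCat.ofHom τ.toRingEquiv.toRingHom)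
  have hsp : ∀ τ, sp τ ≫ a.left = a.left := fun τ => by
    show Spec.map _ ≫ Spec.map _ = Spec.map _
    rw [← Spec.map_comp]
    congr 1
    ext z
    exact τ.commutes z
  let spO : (k' ≃ₐ[k] k') → (K' ⟶ K') := fun τ => Over.homMk (sp τ) (by
    show sp τ ≫ a.left ≫ σ = a.left ≫ σ
    rw [← Category.assoc, hsp])
  obtain ⟨x, hx⟩ : ∃ x, x = i ≫ f := ⟨_, rfl⟩
  rw [← hx] at hπ
  let Rel : G → (k' ≃ₐ[k] k') → Prop := fun g τ => sp τ ≫ x.left = x.left ≫ (ρ g).hom.left
  have huniq : ∀ g τ τ', Rel g τ → Rel g τ' → τ = τ' := by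
    intro g τ τ' h₁ h₂
    have e : spO τ ≫ i = spO τ' ≫ i := by
      refine hWext _ _ ?_ ?_
      · rw [Category.assoc, Category.assoc, ← hx]
        exact Over.OverMorphism.ext (h₁.trans h₂.symm)
      · rw [Category.assoc, Category.assoc, hiw]
        exact Over.OverMorphism.ext ((hsp τ).trans (hsp τ').symm)
    have e' : sp τ = sp τ' := (cancel_mono i.left).1 (congrArg CommaMorphism.left e)
    exact AlgEquiv.ext fun z => congrArg (fun m => m.hom z) (Spec.map_injective e')
  have hgrp : ∀ g h τ, Rel g τ → Rel h τ → g = h := fun g h τ h₁ h₂ =>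
    eq_of_comp_eq ρ hfree (T := K') (default : ↥(Spec (CommRingCat.of k'))) x
      (Over.OverMorphism.ext (h₁.symm.trans h₂))
  have hmove : ∀ {Z : Over S} (y y' : Z ⟶ U), Subsingleton ↥Z.left → Nonempty ↥Z.left →
      (yon S).map y ≫ π = (yon S).map y' ≫ π → ∃ g, y ≫ (ρ g).hom = y' := by
    intro Z y y' hZ hZne e
    obtain ⟨r, hr⟩ := (yon S).map_surjective (sqQ.lift ((yon S).map y') ((yon S).map y) e.symm)
    have hrt : r ≫ t = y' := (yon S).map_injective (by rw [Functor.map_comp, hr, sqQ.lift_fst])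
    have hrs : r ≫ s = y := (yon S).map_injective (by rw [Functor.map_comp, hr, sqQ.lift_snd])
    obtain ⟨z⟩ := hZne
    obtain ⟨V, g, v, hz, hv⟩ := exists_local_piece hc r z
    let j : Over.mk (V.ι ≫ Z.hom) ⟶ Z := Over.homMk V.ι rfl
    have hV : V = ⊤ := top_le_iff.1 fun z' _ => by rwa [Subsingleton.elim z' z]
    have : IsIso V.ι := by subst hV; exact inferInstanceAs (IsIso Z.left.topIso.hom)
    have : IsIso ((Over.forget S).map j) := ‹IsIso V.ι›
    have : IsIso j := isIso_of_reflects_iso j (Over.forget S)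
    refine ⟨g, ?_⟩
    rw [← cancel_epi j, ← hrt, ← hrs, Category.assoc, reassoc_of% hv, reassoc_of% hv, reassoc_of% (hs g), ht]
  have hπ' : ∀ {Z : Over S} (z : Z ⟶ K'),
      (yon S).map (z ≫ x) ≫ π = (yon S).map (z ≫ a) ≫ ξ := fun z => by
    rw [Functor.map_comp, Functor.map_comp, Category.assoc, Category.assoc, hπ]
  have hex : ∀ τ, ∃ g, Rel g τ := fun τ => by
    have e0 : (yon S).map (spO τ ≫ a) ≫ ξ = (yon S).map a ≫ ξ := by
      rw [show spO τ ≫ a = a from Over.OverMorphism.ext (hsp τ)]
    obtain ⟨g, hg⟩ := hmove x (spO τ ≫ x)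
      (inferInstanceAs (Subsingleton ↥(Spec (CommRingCat.of k'))))
      (inferInstanceAs (Nonempty ↥(Spec (CommRingCat.of k'))))
      (hπ.trans (e0.symm.trans (hπ' _).symm))
    exact ⟨g, (congrArg CommaMorphism.left hg).symm⟩
  have hmul : ∀ g h τ τ', Rel g τ → Rel h τ' → Rel (g * h) (τ.trans τ') := by
    intro g h τ τ' h₁ h₂
    show sp (τ.trans τ') ≫ x.left = x.left ≫ _
    rw [action_mul_left, ← Category.assoc, ← h₂, Category.assoc, ← h₁, ← Category.assoc]
    congr 1
    show Spec.map _ = Spec.map _ ≫ Spec.map _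
    rw [← Spec.map_comp]
    rfl
  have hone : Rel 1 AlgEquiv.refl := by
    show Spec.map _ ≫ x.left = x.left ≫ _
    rw [map_one]
    exact (congrArg (· ≫ x.left) (Spec.map_id (CommRingCat.of k'))).trans
      ((Category.id_comp _).trans (Category.comp_id _).symm)
  choose γ hγ using hex
  let H : Subgroup G :=
    { carrier := {g | ∃ τ, Rel g τ}
      one_mem' := ⟨_, hone⟩
      mul_mem' := fun ⟨τ, h₁⟩ ⟨τ', h₂⟩ => ⟨_, hmul _ _ τ τ' h₁ h₂⟩
      inv_mem' := fun {g} ⟨τ, h₁⟩ => ⟨τ.symm, by
        have h₂ := hmul _ _ _ _ h₁ (hγ τ.symm)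
        have h3 : g * γ τ.symm = 1 := hgrp _ _ _ h₂ (by rw [AlgEquiv.self_trans_symm]; exact hone)
        rw [inv_eq_of_mul_eq_one_right h3]
        exact hγ τ.symm⟩ }
  let e₀ : H ≃ (k' ≃ₐ[k] k') :=
    { toFun := fun (h : H) => ((Classical.choose h.2 : k' ≃ₐ[k] k')).symm
      invFun := fun τ => ⟨γ τ.symm, τ.symm, hγ τ.symm⟩
      left_inv := fun h => Subtype.ext (hgrp _ _ _ (hγ _)
        (by rw [AlgEquiv.symm_symm]; exact Classical.choose_spec h.2))
      right_inv := fun τ => by
        have := huniq _ _ _ (Classical.choose_spec (⟨γ τ.symm, τ.symm, hγ τ.symm⟩ : H).2) (hγ τ.symm)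
        show ((Classical.choose _ : k' ≃ₐ[k] k')).symm = τ
        rw [this, AlgEquiv.symm_symm] }
  let e : H ≃* (k' ≃ₐ[k] k') :=
    { e₀ with
      map_mul' := fun g h => by
        show (Classical.choose (g * h).2).symm =
          (Classical.choose g.2).symm * (Classical.choose h.2).symm
        rw [huniq _ _ _ (Classical.choose_spec (g * h).2)
          (hmul _ _ _ _ (Classical.choose_spec g.2) (Classical.choose_spec h.2))]
        rfl }
  have hfin : Finite H := Finite.of_equiv _ e₀.symm
  -- the extension is Galois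
  let Ω := AlgebraicClosure k'
  let ι : k' →ₐ[k] Ω := IsScalarTower.toAlgHom k k' Ω
  have hemb : Function.Bijective (fun τ : k' ≃ₐ[k] k' => ι.comp τ.toAlgHom) := by
    refine ⟨fun τ τ' e => AlgEquiv.ext fun z => (algebraMap k' Ω).injective (AlgHom.congr_fun e z),
      fun τ => ?_⟩
    let Z : Over S := Over.mk (Spec.map (CommRingCat.ofHom ι.toRingHom) ≫ a.left ≫ σ)
    have hcomm : ∀ q : k' →ₐ[k] Ω, Spec.map (CommRingCat.ofHom q.toRingHom) ≫ a.left =
        Spec.map (CommRingCat.ofHom ι.toRingHom) ≫ a.left := fun q => by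
      show Spec.map _ ≫ Spec.map _ = Spec.map _ ≫ Spec.map _
      rw [← Spec.map_comp, ← Spec.map_comp]
      congr 1
      ext z
      exact (q.commutes z).trans (ι.commutes z).symm
    let zι : Z ⟶ K' := Over.homMk (Spec.map (CommRingCat.ofHom ι.toRingHom))
    let zτ : Z ⟶ K' := Over.homMk (Spec.map (CommRingCat.ofHom τ.toRingHom))
      ((Category.assoc _ _ _).symm.trans
        ((congrArg (· ≫ σ) (hcomm τ)).trans (Category.assoc _ _ _)))
    have ha : zτ ≫ a = zι ≫ a := Over.OverMorphism.ext (hcomm τ)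
    obtain ⟨g, hg⟩ := hmove (zι ≫ x) (zτ ≫ x)
      (inferInstanceAs (Subsingleton ↥(Spec (CommRingCat.of Ω))))
      (inferInstanceAs (Nonempty ↥(Spec (CommRingCat.of Ω))))
      ((hπ' zι).trans ((congrArg (fun m => (yon S).map m ≫ ξ) ha.symm).trans (hπ' zτ).symm))
    have hz : zι ≫ i ≫ T g = zτ ≫ i := by
      refine hWext _ _ ?_ ?_
      · rw [Category.assoc, Category.assoc, hTf, ← Category.assoc i, ← hx, Category.assoc zτ, ← hx,
          ← Category.assoc, hg]
      · rw [Category.assoc, Category.assoc, hTw, Category.assoc, hiw, ha]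
    obtain ⟨ψ, hψ⟩ := exists_algEquiv_comp_eq w.left p hφ' (T g).left
      (congrArg CommaMorphism.left (hTw g)) ι τ (congrArg CommaMorphism.left hz)
    exact ⟨ψ, hψ⟩
  have hgal : IsGalois k k' := by
    refine IsGalois.of_card_aut_eq_finrank k k' ?_
    rw [Nat.card_congr (Equiv.ofBijective _ hemb), Nat.card_eq_fintype_card, AlgHom.card]
  refine ⟨k', inferInstance, inferInstance, inferInstance, hgal, H, hfin, e, x, fun h => ?_, ?_⟩
  · show sp (e h).symm ≫ x.left = _
    rw [show (e h).symm = Classical.choose h.2 from AlgEquiv.symm_symm _]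
    exact Classical.choose_spec h.2
  · exact hπ

end Groth.AlgSp3
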