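import Groth.Agent.AlgSp2.InfGlue
import Groth.Agent.AlgSpBasic.AlgSpace
import Groth.Prelude.Def_AlgSpOX
import Mathlib.CategoryTheory.Limits.ConcreteCategory.Basic

/-!
# Morphisms from an algebraic space to an affine scheme
-/

set_option autoImplicit false
set_option backward.isDefEq.respectTransparency.types false
universe u

open CategoryTheory CategoryTheory.Limits AlgebraicGeometry Opposite AlgSp

namespace Groth.AlgSp3

theorem exists_appTop_eq {X Y : Scheme.{u}} [IsAffine Y] (ψ : Γ(Y, ⊤) ⟶ Γ(X, ⊤)) :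
    ∃ g : X ⟶ Y, g.appTop = ψ :=
  ⟨X.toSpecΓ ≫ Spec.map ψ ≫ Y.isoSpec.inv, by simp [Scheme.isoSpec]⟩

variable {S : Scheme.{u}}

theorem existsUnique_hom_to_affine (hS : IsTerminal S) (X : Space S) (T : Over S) [IsAffine T.left]
    (φ : Γ(T.left, ⊤) →+* ↥(gsectEt (OEt X.obj))) :
    ∃! f : X.obj ⟶ (yon S).obj T,
      ∀ (E : EtOver X.obj) (r : Γ(T.left, ⊤)),
        ((limit.π (OEt X.obj).obj (op E)) (φ r)).down =
          ((yon S).preimage (E.obj.hom ≫ f)).left.appTop r := by
  let ψ (E : EtOver X.obj) : Γ(T.left, ⊤) ⟶ Γ(E.obj.left.left, ⊤) :=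
    CommRingCat.ofHom ((ULift.ringEquiv.toRingHom).comp ((limit.π (OEt X.obj).obj (op E)).hom.comp φ))
  have hψn : ∀ {E E' : EtOver X.obj} (k : E ⟶ E') (r : Γ(T.left, ⊤)),
      k.hom.left.left.appTop (ψ E' r) = ψ E r := fun {E E'} k r => by
    have := congrArg (fun m => m (φ r)) (limit.w (OEt X.obj).obj k.op)
    exact congrArg ULift.down this
  have hex : ∀ E : EtOver X.obj, ∃ g : E.obj.left ⟶ T, g.left.appTop = ψ E := fun E => by
    obtain ⟨g, hg⟩ := exists_appTop_eq (ψ E)
    exact ⟨Over.homMk g (hS.hom_ext _ _), hg⟩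
  choose g hg using hex
  have hgn : ∀ {E E' : EtOver X.obj} (k : E ⟶ E'), k.hom.left ≫ g E' = g E := fun {E E'} k => by
    refine Over.OverMorphism.ext (ext_of_isAffine (CommRingCat.hom_ext (RingHom.ext fun r => ?_)))
    rw [Over.comp_left, Scheme.Hom.comp_appTop, hg, hg]
    exact hψn k r
  obtain ⟨U, p, hp, hps⟩ := X.property.atlas
  let E₀ : EtOver X.obj := EtOver.mk p hp
  have hcompat : ∀ (Z : Over S) (a b : (yon S).obj Z ⟶ (yon S).obj U), a ≫ p = b ≫ p →
      a ≫ (yon S).map (g E₀) = b ≫ (yon S).map (g E₀) := by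
    intro Z a b e
    obtain ⟨W, snd, fst, sq⟩ := hp.rep p
    obtain ⟨fst', hfst'⟩ := (yon S).map_surjective fst
    let EW : EtOver X.obj := EtOver.mk ((yon S).map snd ≫ p)
      (Groth.AlgSpBasic.repWith_comp ((repWith_yon_map_iff _ snd).2
        (hp.property p fst snd sq)) hp)
    have h1 := hgn (E := EW) (E' := E₀) (EtOver.homMk snd rfl)
    have h2 := hgn (E := EW) (E' := E₀) (EtOver.homMk fst' (by
      show (yon S).map fst' ≫ p = (yon S).map snd ≫ p
      rw [hfst', sq.w]))
    obtain ⟨l, hl⟩ := (yon S).map_surjective (sq.lift a b e)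
    have ha : a = (yon S).map (l ≫ fst') := by rw [Functor.map_comp, hl, hfst', sq.lift_fst]
    have hb : b = (yon S).map (l ≫ snd) := by rw [Functor.map_comp, hl, sq.lift_snd]
    rw [ha, hb, ← Functor.map_comp, ← Functor.map_comp, Category.assoc, Category.assoc,
      show fst' ≫ g E₀ = g EW from h2, show snd ≫ g E₀ = g EW from h1]
  obtain ⟨f, hf⟩ := Groth.AlgSp2.exists_desc_of_etale p hp hps ((yon S).map (g E₀)) hcompat
  have hfg : ∀ E : EtOver X.obj, E.obj.hom ≫ f = (yon S).map (g E) := fun E => by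
    obtain ⟨W, snd, fst, sq⟩ := hp.rep E.obj.hom
    have : Etale snd.left := hp.property _ fst snd sq
    have : Surjective snd.left := hps.property _ fst snd sq
    obtain ⟨fst', hfst'⟩ := (yon S).map_surjective fst
    let EW : EtOver X.obj := EtOver.mk ((yon S).map snd ≫ E.obj.hom)
      (Groth.AlgSpBasic.repWith_comp ((repWith_yon_map_iff _ snd).2
        ‹Etale snd.left›) E.property)
    have h1 := hgn (E := EW) (E' := E) (EtOver.homMk snd rfl)
    have h2 := hgn (E := EW) (E' := E₀) (EtOver.homMk fst' (by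
      show (yon S).map fst' ≫ p = (yon S).map snd ≫ E.obj.hom
      rw [hfst', sq.w]))
    refine Groth.AlgSp2.hom_ext_of_fppf snd ?_
    rw [← reassoc_of% sq.w, hf, ← hfst', ← Functor.map_comp, ← Functor.map_comp,
      show fst' ≫ g E₀ = g EW from h2, show snd ≫ g E = g EW from h1]
  refine ⟨f, fun E r => ?_, fun f' hf' => ?_⟩
  · rw [hfg E, (yon S).preimage_map, hg]
    rfl
  · refine Groth.AlgSp2.hom_ext_of_etale p hp hps ?_
    rw [hf, ← (yon S).map_preimage (p ≫ f')]
    refine congrArg _ (Over.OverMorphism.ext (ext_of_isAffine (CommRingCat.hom_ext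
      (RingHom.ext fun r => ?_))))
    rw [hg]
    exact (hf' E₀ r).symm

end Groth.AlgSp3
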