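import Groth.Agent.AlgSp3.GammaAffine
import Groth.Agent.AlgSpBasic.Compact
import Groth.Agent.AlgSpBasic.QComp
import Groth.Agent.AlgSpBasic.Univ
import Mathlib.Algebra.Polynomial.Reverse
import Mathlib.AlgebraicGeometry.Morphisms.Flat
import Mathlib.RingTheory.Localization.Away.Basic

/-!
# Global functions on a universally closed space over an affine scheme are integral
-/

set_option autoImplicit false
set_option backward.isDefEq.respectTransparency.types false
universe u

open CategoryTheory CategoryTheory.Limits AlgebraicGeometry Opposite AlgSp Polynomial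

namespace Groth.AlgSp3

/-- A polynomial relation with constant term one satisfied by `1 / s` makes `s` integral. -/
theorem exists_monic_of_reverse {R B C : Type*} [CommRing R] [CommRing B] [CommRing C]
    [Algebra B C] (s : B) [IsLocalization.Away s C] (φ : R →+* B) (g : R[X])
    (hg : g.coeff 0 = 1)
    (h : Polynomial.eval₂ ((algebraMap B C).comp φ) (IsLocalization.Away.invSelf s) g = 0) :
    ∃ p : R[X], p.Monic ∧ Polynomial.eval₂ φ s p = 0 := by
  rcases subsingleton_or_nontrivial R with hR | hR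
  · have : Subsingleton B := by
      refine subsingleton_of_zero_eq_one ?_
      rw [← φ.map_zero, ← φ.map_one, Subsingleton.elim (0 : R) 1]
    exact ⟨1, monic_one, Subsingleton.elim _ _⟩
  let : Invertible (algebraMap B C s) :=
    ⟨IsLocalization.Away.invSelf s, by rw [mul_comm]; exact IsLocalization.Away.mul_invSelf s,
      IsLocalization.Away.mul_invSelf s⟩
  have hmon : g.reverse.Monic := by
    rw [Monic, reverse_leadingCoeff, trailingCoeff,
      natTrailingDegree_eq_zero.2 (Or.inr (by rw [hg]; exact one_ne_zero)), hg]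
  let : Invertible (IsLocalization.Away.invSelf (S := C) s) :=
    ⟨algebraMap B C s, IsLocalization.Away.mul_invSelf s,
      by rw [mul_comm]; exact IsLocalization.Away.mul_invSelf s⟩
  have h1 : Polynomial.eval₂ ((algebraMap B C).comp φ) (algebraMap B C s) g.reverse = 0 :=
    (eval₂_reverse_eq_zero_iff _ (IsLocalization.Away.invSelf (S := C) s) g).2 h
  rw [← Polynomial.hom_eval₂] at h1
  obtain ⟨⟨_, m, rfl⟩, hm⟩ :=
    (IsLocalization.map_eq_zero_iff (Submonoid.powers s) C _).1 h1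
  refine ⟨X ^ m * g.reverse, (monic_X_pow m).mul hmon, ?_⟩
  rw [eval₂_mul, eval₂_X_pow]
  exact hm

/-- Functions are determined on a flat surjective covering. -/
theorem eq_of_appTop_eq {W T : Scheme.{u}} (c : W ⟶ T) [Flat c] [Surjective c] (a b : Γ(T, ⊤))
    (h : c.appTop a = c.appTop b) : a = b := by
  let A : CommRingCat.{u} := CommRingCat.of (Polynomial (ULift.{u} ℤ))
  let ψ : Γ(T, ⊤) → (Γ(Spec A, ⊤) ⟶ Γ(T, ⊤)) := fun z => (Scheme.ΓSpecIso A).hom ≫
    CommRingCat.ofHom (eval₂RingHom ((Int.castRingHom _).comp ULift.ringEquiv.toRingHom) z)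
  obtain ⟨g₁, hg₁⟩ := exists_appTop_eq (ψ a)
  obtain ⟨g₂, hg₂⟩ := exists_appTop_eq (ψ b)
  have : Epi c := Flat.epi_of_flat_of_surjective c
  have e : g₁ = g₂ := by
    rw [← cancel_epi c]
    refine ext_of_isAffine ?_
    rw [Scheme.Hom.comp_appTop, Scheme.Hom.comp_appTop, hg₁, hg₂, ← cancel_epi (Scheme.ΓSpecIso A).inv]
    simp only [ψ, Category.assoc, Iso.inv_hom_id_assoc]
    refine CommRingCat.hom_ext (Polynomial.ringHom_ext (fun z => ?_) ?_)
    · simp
    · simpa using h
  have e' := congrArg Scheme.Hom.appTop e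
  rw [hg₁, hg₂, cancel_epi] at e'
  have := congrArg (fun q => q.hom (X : Polynomial (ULift.{u} ℤ))) e'
  exact (Polynomial.eval₂_X _ _).symm.trans (this.trans (Polynomial.eval₂_X _ _))

variable {S : Scheme.{u}}

/-- The component of a compatible family of functions. -/
noncomputable def gsectVal {X : Sp S} (s : ↥(gsectEt (OEt X))) (E : EtOver X) :
    Γ(E.obj.left.left, ⊤) :=
  ((limit.π (OEt X).obj (op E)) s).down

theorem gsectVal_map {X : Sp S} (s : ↥(gsectEt (OEt X))) {E E' : EtOver X} (k : E ⟶ E') :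
    k.hom.left.left.appTop (gsectVal s E') = gsectVal s E :=
  congrArg ULift.down (congrArg (fun m => m s) (limit.w (OEt X).obj k.op))

/-- Near a point where `a * b` is one, `b` does not vanish. -/
theorem mem_basicOpen_right {W : Scheme.{u}} (a b : Γ(W, ⊤)) {w : W}
    (h : w ∉ W.basicOpen (a * b - 1)) : w ∈ W.basicOpen b := by
  rw [Scheme.mem_basicOpen_top] at h ⊢
  rw [map_sub, map_one, map_mul] at h
  refine isUnit_of_mul_isUnit_right (x := W.presheaf.germ ⊤ w trivial a) ?_
  by_contra hu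
  refine h ?_
  have := IsLocalRing.isUnit_one_sub_self_of_mem_nonunits _ hu
  rwa [← IsUnit.neg_iff, neg_sub] at this

theorem exists_monic_eval_eq_zero (V : Over S) [IsAffine V.left] (F : Sp S) (hX : IsAlgSpace F)
    (f : F ⟶ (yon S).obj V) (hqc : IsQuasiCompactMor f) (huc : IsUnivClosedMor f)
    (s : ↥(gsectEt (OEt F))) :
    ∃ p : Polynomial Γ(V.left, ⊤), p.Monic ∧
      ∀ E : EtOver F, Polynomial.eval₂ ((yon S).preimage (E.obj.hom ≫ f)).left.appTop.hom
        (gsectVal s E) p = 0 := by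
  have hXc : IsQuasiCompactSp F := hqc (IsAlgSpace.yon_obj V)
    ((Groth.AlgSpBasic.isQuasiCompactSp_yon_iff V).2 inferInstance) (𝟙 _) (𝟙 F) f
    (IsPullback.of_horiz_isIso ⟨by simp⟩)
  obtain ⟨U, p, hU, hp, hps⟩ := Groth.AlgSpBasic.exists_affine_chart hX hXc
  let E₀ : EtOver F := EtOver.mk p hp
  let fU : U ⟶ V := (yon S).preimage (p ≫ f)
  have hfU : (yon S).map fU = p ≫ f := (yon S).map_preimage _
  let R : CommRingCat.{u} := Γ(V.left, ⊤)
  let A : CommRingCat.{u} := CommRingCat.of (Polynomial R)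
  obtain ⟨k₀, hk₀⟩ := exists_appTop_eq (X := Spec A) (Y := V.left)
    (CommRingCat.ofHom Polynomial.C ≫ (Scheme.ΓSpecIso A).inv)
  let A' : Over S := Over.mk (k₀ ≫ V.hom)
  let k : A' ⟶ V := Over.homMk k₀
  let TT : Γ(Spec A, ⊤) := (Scheme.ΓSpecIso A).inv (Polynomial.X : Polynomial R)
  -- the product with the affine line
  obtain ⟨X', q₁, q₂, sqX⟩ : ∃ (X' : Sp S) (q₁ : X' ⟶ F) (q₂ : X' ⟶ (yon S).obj A'),
      IsPullback q₁ q₂ f ((yon S).map k) := ⟨_, _, _, IsPullback.of_hasPullback _ _⟩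
  have hclosed : IsClosedMap (AlgSp.Points.map q₂) :=
    huc (IsAlgSpace.yon_obj A') ((yon S).map k) q₁ q₂ sqX
  obtain ⟨W, r₁, r₂, sqW⟩ := Groth.AlgSpBasic.exists_pullback_of_diag
    (IsAlgSpace.yon_obj V).diag ((yon S).map fU) ((yon S).map k)
  let π : (yon S).obj W ⟶ X' := sqX.lift ((yon S).map r₁ ≫ p) ((yon S).map r₂)
    (by rw [Category.assoc, ← hfU]; exact sqW.w)
  have sqW' : IsPullback ((yon S).map r₁) (π ≫ q₂) (p ≫ f) ((yon S).map k) := by
    rw [sqX.lift_snd, ← hfU]; exact sqW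
  have sqπ : IsPullback ((yon S).map r₁) π p q₁ :=
    IsPullback.of_bot sqW' (sqX.lift_fst _ _ _).symm sqX
  have hπe : RepWith @Etale π := Groth.AlgSpBasic.repWith_of_isPullback sqπ hp
  have hπs : RepWith @Surjective π := Groth.AlgSpBasic.repWith_of_isPullback sqπ hps
  -- the closed set where the coordinate inverts the section
  let h : Γ(W.left, ⊤) := r₁.left.appTop (gsectVal s E₀) * r₂.left.appTop TT - 1
  let C₀ : Set ↥W.left := ((W.left.basicOpen h : W.left.Opens) : Set ↥W.left)ᶜ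
  have hC₀ : IsClosed C₀ := (W.left.basicOpen h).isOpen.isClosed_compl
  have hsat : AlgSp.Points.ofPt π ⁻¹' (AlgSp.Points.ofPt π '' C₀) = C₀ := by
    refine Set.Subset.antisymm ?_ (Set.subset_preimage_image _ _)
    rintro w ⟨w', hw', e⟩
    obtain ⟨Q, a, b, sqQ⟩ := Groth.AlgSpBasic.exists_pullback_yon hπe.rep π
    obtain ⟨z, hz₁, hz₂⟩ := (Groth.AlgSpBasic.ofPt_eq_ofPt_iff sqQ w' w).1 e
    have hb : Etale b.left := hπe.property π _ b sqQ
    have ha : (a ≫ r₂) = b ≫ r₂ := by
      have := sqQ.w =≫ q₂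
      rw [Category.assoc, Category.assoc, sqX.lift_snd, ← Functor.map_comp, ← Functor.map_comp] at this
      exact (yon S).map_injective this
    have hp' : (yon S).map (a ≫ r₁) ≫ p = (yon S).map (b ≫ r₁) ≫ p := by
      have := sqQ.w =≫ q₁
      rwa [Category.assoc, Category.assoc, sqX.lift_fst, ← Category.assoc, ← Category.assoc,
        ← Functor.map_comp, ← Functor.map_comp] at this
    obtain ⟨P, u₁, u₂, sqP⟩ := Groth.AlgSpBasic.exists_pullback_yon hp.rep p
    let EP : EtOver F := EtOver.mk ((yon S).map u₂ ≫ p)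
      (Groth.AlgSpBasic.repWith_comp ((repWith_yon_map_iff _ u₂).2 (hp.property p _ u₂ sqP)) hp)
    have hs₁ := gsectVal_map s (E := EP) (E' := E₀) (EtOver.homMk u₁ sqP.w)
    have hs₂ := gsectVal_map s (E := EP) (E' := E₀) (EtOver.homMk u₂ rfl)
    obtain ⟨l, hl⟩ := (yon S).map_surjective (sqP.lift _ _ hp')
    have hl₁ : l ≫ u₁ = a ≫ r₁ := (yon S).map_injective (by rw [Functor.map_comp, hl, sqP.lift_fst])
    have hl₂ : l ≫ u₂ = b ≫ r₁ := (yon S).map_injective (by rw [Functor.map_comp, hl, sqP.lift_snd])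
    have key : a.left.appTop h = b.left.appTop h := by
      have e₁ : a.left.appTop (r₁.left.appTop (gsectVal s E₀)) =
          b.left.appTop (r₁.left.appTop (gsectVal s E₀)) :=
        (congrArg (fun m : Q ⟶ U => m.left.appTop (gsectVal s E₀)) hl₁).symm.trans
          ((congrArg l.left.appTop (hs₁.trans hs₂.symm)).trans
            (congrArg (fun m : Q ⟶ U => m.left.appTop (gsectVal s E₀)) hl₂))
      have e₂ : a.left.appTop (r₂.left.appTop TT) = b.left.appTop (r₂.left.appTop TT) :=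
        congrArg (fun m : Q ⟶ A' => m.left.appTop TT) ha
      simp only [h, map_sub, map_mul, map_one]
      exact congrArg₂ (fun x y => x * y - 1) e₁ e₂
    intro hw
    refine hw' ?_
    rw [← hz₁, ← hz₂] at *
    have e1 : z ∈ a.left ⁻¹ᵁ W.left.basicOpen h ↔ z ∈ b.left ⁻¹ᵁ W.left.basicOpen h := by
      rw [Scheme.preimage_basicOpen_top, Scheme.preimage_basicOpen_top, key]
    exact e1.2 hw
  have hT : IsClosed (AlgSp.Points.ofPt π '' C₀) :=
    (Groth.AlgSpBasic.isQuotientMap_ofPt hπe hπs).isClosed_preimage.1 (by rw [hsat]; exact hC₀)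
  have hI : IsClosed (r₂.left '' C₀) := by
    have h1 := (hclosed _ hT).preimage (AlgSp.Points.schemeHomeo A').continuous
    convert h1 using 1
    ext y
    have hcomp : ∀ w, AlgSp.Points.map q₂ (AlgSp.Points.ofPt π w) =
        AlgSp.Points.schemeHomeo A' (r₂.left w) := fun w => by
      rw [AlgSp.Points.map_ofPt, sqX.lift_snd, Groth.AlgSpBasic.ofPt_eq_map]
      exact AlgSp.Points.map_yon_map_apply r₂ w
    constructor
    · rintro ⟨w, hw, rfl⟩
      exact ⟨_, ⟨w, hw, rfl⟩, hcomp w⟩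
    · rintro ⟨_, ⟨w, hw, rfl⟩, e⟩
      exact ⟨w, hw, (AlgSp.Points.schemeHomeo A').injective ((hcomp w).symm.trans e)⟩
  obtain ⟨I, hIe⟩ := (PrimeSpectrum.isClosed_iff_zeroLocus_ideal _).1 hI
  have htop : I ⊔ Ideal.span {(Polynomial.X : Polynomial R)} = ⊤ := by
    rw [← PrimeSpectrum.zeroLocus_empty_iff_eq_top, PrimeSpectrum.zeroLocus_sup, ← hIe,
      Set.eq_empty_iff_forall_notMem]
    rintro _ ⟨⟨w, hw, rfl⟩, hX'⟩
    rw [PrimeSpectrum.zeroLocus_span, PrimeSpectrum.mem_zeroLocus, Set.singleton_subset_iff] at hX'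
    have h2 : w ∈ r₂.left ⁻¹ᵁ A'.left.basicOpen TT := by
      rw [Scheme.preimage_basicOpen_top]
      exact mem_basicOpen_right _ _ hw
    have h5 : (Spec A).basicOpen TT = PrimeSpectrum.basicOpen (Polynomial.X : Polynomial R) :=
      basicOpen_eq_of_affine _
    have h6 : r₂.left w ∈ (Spec A).basicOpen TT := h2
    rw [h5] at h6
    exact h6 hX'
  obtain ⟨g, hgI, g', hg', hgg⟩ := Submodule.mem_sup.1 ((Ideal.eq_top_iff_one _).1 htop)
  have hg0 : g.coeff 0 = 1 := by
    obtain ⟨q, rfl⟩ := Ideal.mem_span_singleton.1 hg'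
    have := congrArg (fun z : Polynomial R => z.coeff 0) hgg
    change (g + Polynomial.X * q).coeff 0 = (1 : Polynomial R).coeff 0 at this
    rwa [Polynomial.coeff_add, Polynomial.coeff_X_mul_zero, add_zero, Polynomial.coeff_one_zero] at this
  -- the graph of the inverse
  let s₀ : Γ(U.left, ⊤) := gsectVal s E₀
  let φ : R →+* Γ(U.left, ⊤) := fU.left.appTop.hom
  let L : CommRingCat.{u} := CommRingCat.of (Localization.Away s₀)
  let ev : Polynomial R →+* L := Polynomial.eval₂RingHom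
    ((algebraMap Γ(U.left, ⊤) L).comp φ) (IsLocalization.Away.invSelf s₀)
  obtain ⟨ζ₀, hζ₀⟩ := exists_appTop_eq (X := Spec L) (Y := U.left)
    (CommRingCat.ofHom (algebraMap Γ(U.left, ⊤) L) ≫ (Scheme.ΓSpecIso L).inv)
  let τ₀ : Spec L ⟶ Spec A := Spec.map (CommRingCat.ofHom ev)
  let Z : Over S := Over.mk (ζ₀ ≫ U.hom)
  have hτζ : τ₀ ≫ k₀ = ζ₀ ≫ fU.left := by
    refine ext_of_isAffine ?_
    rw [Scheme.Hom.comp_appTop, Scheme.Hom.comp_appTop, hζ₀, hk₀, Category.assoc]
    rw [show (Scheme.ΓSpecIso A).inv ≫ τ₀.appTop = CommRingCat.ofHom ev ≫ (Scheme.ΓSpecIso L).inv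
      from (Scheme.ΓSpecIso_inv_naturality _).symm, ← Category.assoc, ← Category.assoc]
    congr 1
    ext z
    simp [ev, φ]
  let ζ : Z ⟶ U := Over.homMk ζ₀
  let τ : Z ⟶ A' := Over.homMk τ₀ (by
    show τ₀ ≫ k₀ ≫ V.hom = ζ₀ ≫ U.hom
    rw [← Category.assoc, hτζ, Category.assoc, Over.w fU])
  obtain ⟨ω, hω⟩ := (yon S).map_surjective (sqW.lift ((yon S).map ζ) ((yon S).map τ) (by
    rw [← Functor.map_comp, ← Functor.map_comp]
    exact congrArg _ (Over.OverMorphism.ext hτζ.symm)))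
  have hω₁ : ω ≫ r₁ = ζ := (yon S).map_injective (by rw [Functor.map_comp, hω, sqW.lift_fst])
  have hω₂ : ω ≫ r₂ = τ := (yon S).map_injective (by rw [Functor.map_comp, hω, sqW.lift_snd])
  have hωh : ω.left.appTop h = 0 := by
    simp only [h, map_sub, map_mul, map_one]
    rw [← CommRingCat.comp_apply, ← CommRingCat.comp_apply, ← Scheme.Hom.comp_appTop,
      ← Scheme.Hom.comp_appTop, ← Over.comp_left, ← Over.comp_left, hω₁, hω₂]
    show ζ₀.appTop s₀ * τ₀.appTop TT - 1 = 0
    rw [hζ₀, show τ₀.appTop TT = (Scheme.ΓSpecIso L).inv (ev Polynomial.X) from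
      congrArg (fun q => q (Polynomial.X : Polynomial R)) (Scheme.ΓSpecIso_inv_naturality (CommRingCat.ofHom ev)).symm]
    show (Scheme.ΓSpecIso L).inv (algebraMap _ L s₀) * (Scheme.ΓSpecIso L).inv (ev Polynomial.X) - 1 = 0
    rw [← map_mul, show ev Polynomial.X = IsLocalization.Away.invSelf s₀ from Polynomial.eval₂_X _ _,
      IsLocalization.Away.mul_invSelf, map_one, sub_self]
  obtain ⟨n, hn⟩ : IsNilpotent (ev g) := by
    rw [← mem_nilradical, nilradical_eq_sInf, Ideal.mem_sInf]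
    intro J hJ
    let z : ↥(Spec L) := ⟨J, hJ⟩
    have h3 : ω.left z ∈ C₀ := fun hz => by
      have : z ∈ ω.left ⁻¹ᵁ W.left.basicOpen h := hz
      rw [Scheme.preimage_basicOpen_top, hωh, Scheme.basicOpen_zero] at this
      exact this
    have h4 : τ₀ z ∈ r₂.left '' C₀ := ⟨_, h3, congrArg (fun q => q.left z) hω₂⟩
    rw [hIe] at h4
    exact (PrimeSpectrum.mem_zeroLocus (τ₀ z : PrimeSpectrum A) _).1 h4 hgI
  obtain ⟨P, hPm, hP⟩ := exists_monic_of_reverse (C := L) s₀ φ (g ^ n)
    (by rw [Polynomial.coeff_zero_eq_eval_zero, Polynomial.eval_pow,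
      ← Polynomial.coeff_zero_eq_eval_zero, hg0, one_pow])
    ((Polynomial.eval₂_pow _ _ n).trans hn)
  refine ⟨P, hPm, fun E => ?_⟩
  obtain ⟨EW, snd, fst, sqE⟩ := hp.rep E.obj.hom
  have : Etale snd.left := hp.property _ fst snd sqE
  have : Surjective snd.left := hps.property _ fst snd sqE
  obtain ⟨fst', rfl⟩ := (yon S).map_surjective fst
  let E' : EtOver F := EtOver.mk ((yon S).map snd ≫ E.obj.hom)
    (Groth.AlgSpBasic.repWith_comp ((repWith_yon_map_iff _ snd).2 ‹Etale snd.left›) E.property)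
  have h₁ : snd.left.appTop (gsectVal s E) = gsectVal s E' :=
    gsectVal_map s (E := E') (E' := E) (EtOver.homMk snd rfl)
  have h₂ : fst'.left.appTop s₀ = gsectVal s E' :=
    gsectVal_map s (E := E') (E' := E₀) (EtOver.homMk fst' sqE.w)
  have hfe : fst' ≫ fU = snd ≫ (yon S).preimage (E.obj.hom ≫ f) := by
    apply (yon S).map_injective
    rw [Functor.map_comp, Functor.map_comp, hfU, (yon S).map_preimage, reassoc_of% sqE.w]
  refine eq_of_appTop_eq snd.left _ _ ?_
  rw [map_zero, Polynomial.hom_eval₂, h₁, ← h₂, ← CommRingCat.hom_comp,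
    ← Scheme.Hom.comp_appTop, ← Over.comp_left, ← hfe, Over.comp_left, Scheme.Hom.comp_appTop,
    CommRingCat.hom_comp, ← Polynomial.hom_eval₂]
  exact (congrArg _ hP).trans (map_zero _)

end Groth.AlgSp3
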