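import Groth.Agent.ModEtQCoh.ClosedEssImage
import Groth.Agent.ModEtQCoh.Coherator
import Mathlib.CategoryTheory.Adjunction.Comma

/-!
# The part of a module killed by the ideal of a closed subspace
-/

set_option autoImplicit false
set_option backward.isDefEq.respectTransparency.types false
universe u

open CategoryTheory CategoryTheory.Limits AlgebraicGeometry Opposite AlgSp Groth.ModEtQCoh

namespace Groth.AlgSp3

variable {S : Scheme.{u}} {X : Sp S} (F : ModEt X) (I : IdealEt X)

/-- Sections killed by an ideal sheaf on all affine objects. -/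
def IsKilled {E : EtOver X} (s : sectModEt F E) : Prop :=
  ∀ (E' : EtOver X) (hE' : IsAffine E'.obj.left.left) (k : E' ⟶ E),
    ∀ a ∈ I.ideal E' hE', a • resM F k s = 0

theorem isKilled_resM {E E' : EtOver X} (g : E' ⟶ E) {s : sectModEt F E} (h : IsKilled F I s) :
    IsKilled F I (resM F g s) := fun E'' hE'' k a ha => by
  rw [← resM_comp]; exact h E'' hE'' (k ≫ g) a ha

theorem isKilled_of_local {E : EtOver X} {R : Sieve E} (hR : R ∈ etTop X E) {s : sectModEt F E}
    (h : ∀ (Z : EtOver X) (g : Z ⟶ E), R g → IsKilled F I (resM F g s)) : IsKilled F I s := by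
  intro E' hE' k a ha
  obtain ⟨n, Y, g, hY, hg, hRg⟩ := exists_affine_cover ((etTop X).pullback_stable k hR)
  refine resM_ext F hg fun j => ?_
  rw [map_zero, map_smulₛₗ, ← resM_comp]
  have h1 := h (Y j) (g j ≫ k) (hRg j) (Y j) (hY j) (𝟙 _) (resA (g j) a)
    (I.map_le (g j) hE' (hY j) (Ideal.mem_map_of_mem _ ha))
  rwa [resM_id] at h1

theorem upΓ_down {E : EtOver X} (r : (OEtRing X).obj.obj (op E)) (s : sectModEt F E) :
    r • s = (ULift.down r : fnA E) • s := rfl

/-- The killed part as a submodule. -/
def killedSub : F.val.Submodule where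
  obj E :=
    { carrier := {s | IsKilled F I (E := E.unop) s}
      add_mem' := fun {s t} hs ht E' hE' k a ha => by
        rw [map_add, smul_add, hs E' hE' k a ha, ht E' hE' k a ha, add_zero]
      zero_mem' := fun E' hE' k a _ => by rw [map_zero, smul_zero]
      smul_mem' := fun r {s} hs E' hE' k a ha => by
        rw [upΓ_down F r s, map_smulₛₗ, smul_comm, hs E' hE' k a ha, smul_zero] }
  map {E E'} g s hs := isKilled_resM F I g.unop hs

theorem isSheaf_killedSub :
    Presheaf.IsSheaf (etTop X) (killedSub F I).toPresheafOfModules.presheaf := by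
  refine (Presheaf.isSheaf_iff_isSheaf_forget (etTop X) _ (forget AddCommGrpCat)).2 ?_
  rw [isSheaf_iff_isSheaf_of_type]
  intro E R hR x hx
  let y : Presieve.FamilyOfElements (F.val.presheaf ⋙ forget AddCommGrpCat) R.arrows :=
    fun Z g hg => (x g hg).1
  have hy : y.Compatible := fun Y₁ Y₂ Z g₁ g₂ f₁ f₂ h₁ h₂ e =>
    congrArg Subtype.val (hx g₁ g₂ h₁ h₂ e)
  obtain ⟨s, hs, hsu⟩ := resM_isSheaf F R hR y hy
  have hsk : IsKilled F I (E := E) s := isKilled_of_local F I hR fun Z g hg => by
    rw [show resM F g s = (x g hg).1 from hs g hg]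
    exact (x g hg).2
  refine ⟨⟨s, hsk⟩, fun Z g hg => Subtype.ext (hs g hg), fun t ht => ?_⟩
  exact Subtype.ext (hsu _ fun Z g hg => congrArg Subtype.val (ht g hg))

/-- The killed part. -/
noncomputable def killed : ModEt X := ⟨(killedSub F I).toPresheafOfModules, isSheaf_killedSub F I⟩

/-- Its inclusion. -/
noncomputable def killedι : killed F I ⟶ F := ⟨(killedSub F I).ι⟩

instance : Mono (killedι F I) := by
  refine ⟨fun {M} a b h => SheafOfModules.hom_ext ?_⟩
  have : Mono (killedSub F I).ι := inferInstance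
  exact this.right_cancellation _ _ (congrArg SheafOfModules.Hom.val h)

theorem killed_le (E : EtOver X) (hE : IsAffine E.obj.left.left) (s : sectModEt (killed F I) E) :
    I.ideal E hE ≤ annSect s := by
  intro a ha
  rw [mem_annSect_iff]
  refine Subtype.ext ?_
  have h : a • resM F (𝟙 E) (appM (killedι F I) E s) = 0 := s.2 E hE (𝟙 E) a ha
  rw [resM_id] at h
  exact h

theorem exists_factor_killed {M : ModEt X}
    (hM : ∀ (E : EtOver X) (hE : IsAffine E.obj.left.left) (s : sectModEt M E),
      I.ideal E hE ≤ annSect s) (φ : M ⟶ F) : ∃ ψ : M ⟶ killed F I, ψ ≫ killedι F I = φ := by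
  have hk : ∀ (E : EtOver X) (s : sectModEt M E), IsKilled F I (appM φ E s) := fun E s E' hE' k a ha => by
    have h0 : a • resM M k s = 0 := (mem_annSect_iff _ a).1 (hM E' hE' _ ha)
    rw [← appM_resM, ← map_smul, h0, map_zero]
  let app : ∀ E : (EtOver X)ᵒᵖ, M.val.obj E ⟶ (killedSub F I).toPresheafOfModules.obj E := fun E =>
    ModuleCat.ofHom (LinearMap.codRestrict ((killedSub F I).obj E) (φ.val.app E).hom
      fun s => hk E.unop s)
  refine ⟨⟨{ app := app, naturality := fun {E E'} g => ?_ }⟩, ?_⟩
  · ext s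
    exact Subtype.ext (PresheafOfModules.naturality_apply φ.val g s)
  · apply SheafOfModules.hom_ext
    apply PresheafOfModules.hom_ext
    intro E
    ext s
    rfl

variable {Z : Sp S} {i : Z ⟶ X} (hi : RepWith @IsClosedImmersion i) (hX : IsAlgSpace X)

set_option maxHeartbeats 1600000 in
include hX in
/-- Direct image to quasi-coherent modules along a closed immersion has a right adjoint. -/
theorem isLeftAdjoint_pushQCoh
    (hq : ∀ G : ModEt Z, G.IsQuasicoherent → ((pushModEt hi.1).obj G).IsQuasicoherent) :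
    ((SheafOfModules.isQuasicoherent (OEtRing X)).lift
      ((SheafOfModules.isQuasicoherent (OEtRing Z)).ι ⋙ pushModEt hi.1)
      (fun G => hq G.obj G.property)).IsLeftAdjoint := by
  let P := (SheafOfModules.isQuasicoherent (OEtRing X)).lift
    ((SheafOfModules.isQuasicoherent (OEtRing Z)).ι ⋙ pushModEt hi.1)
    (fun G => hq G.obj G.property)
  have : ∀ Q, HasTerminal (CostructuredArrow P Q) := fun Q => by
    haveI : Q.obj.IsQuasicoherent := Q.property
    obtain ⟨G', κ, hκ, hG', huniv⟩ := exists_largest_qcoh (killedι Q.obj (idealOfRep hi.1))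
    haveI := hG'
    haveI := hκ
    obtain ⟨G₀, hG₀, ⟨e⟩⟩ := ClosedPush.exists_push_iso hi.1 hi hX G' fun E hE s a ha => by
      rw [mem_annSect_iff]
      refine appM_injective_of_mono κ E ?_
      rw [map_zero]
      exact ((appM κ E).map_smul a s).trans
        ((mem_annSect_iff _ a).1 (killed_le _ _ E hE (appM κ E s) ha))
    let T : CostructuredArrow P Q := CostructuredArrow.mk (S := P) (Y := ⟨G₀, hG₀⟩)
      (ObjectProperty.homMk (e.hom ≫ κ ≫ killedι Q.obj (idealOfRep hi.1)))
    have hex : ∀ A : CostructuredArrow P Q, ∃ f : A ⟶ T, ∀ g : A ⟶ T, g = f := fun A => by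
      obtain ⟨ψ, hψ⟩ := exists_factor_killed Q.obj (idealOfRep hi.1)
        (M := (pushModEt hi.1).obj A.left.obj)
        (fun E hE s => ClosedPush.ideal_le_annSect hi.1 A.left.obj E hE s) A.hom.hom
      obtain ⟨θ, hθ⟩ := (huniv _ (hq _ A.left.property)).2 ψ
      obtain ⟨m, hm⟩ := ClosedPush.exists_preimage hi.1 hi (θ ≫ e.inv) hX
      refine ⟨CostructuredArrow.homMk (ObjectProperty.homMk m) (ObjectProperty.hom_ext _ ?_),
        fun g => ?_⟩
      · show (pushModEt hi.1).map m ≫ e.hom ≫ κ ≫ killedι Q.obj _ = A.hom.hom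
        rw [hm, Category.assoc, e.inv_hom_id_assoc, ← hψ, ← Category.assoc]
        exact congrArg (· ≫ _) hθ
      · refine CostructuredArrow.hom_ext _ _ (ObjectProperty.hom_ext _
          (ClosedPush.map_injective hi.1 hi hX ?_))
        have hg : (pushModEt hi.1).map g.left.hom ≫ e.hom ≫ κ ≫ killedι Q.obj _ = A.hom.hom :=
          congrArg (fun m => m.hom) (CostructuredArrow.w g)
        show (pushModEt hi.1).map g.left.hom = (pushModEt hi.1).map m
        rw [hm, ← cancel_mono e.hom, ← cancel_mono κ, ← cancel_mono (killedι Q.obj _),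
          Category.assoc, Category.assoc, Category.assoc, Category.assoc, Category.assoc,
          e.inv_hom_id_assoc, hg, ← hψ, ← Category.assoc]
        exact congrArg (· ≫ _) hθ.symm
    choose f hf using hex
    exact (IsTerminal.ofUniqueHom f fun A g => hf A g).hasTerminal
  exact isLeftAdjoint_of_costructuredArrowTerminals P

end Groth.AlgSp3
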