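import Groth.Agent.AlgSp3.DimFacts
import Groth.Agent.AlgSpBasic.DecentComponents
import Groth.Agent.AlgSpBasic.Compact
import Mathlib.AlgebraicGeometry.Fiber

/-!
# Locally finitely many irreducible components
-/

set_option autoImplicit false
set_option backward.isDefEq.respectTransparency.types false
universe u

open CategoryTheory CategoryTheory.Limits AlgebraicGeometry Opposite AlgSp Topology TopologicalSpace

namespace Groth.AlgSp3

open Groth.AlgSpBasic

/-- The points of `W` without proper generizations. -/
def maxPts {α : Type*} [TopologicalSpace α] (W : Set α) : Set α :=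
  {x | x ∈ W ∧ ∀ y, y ⤳ x → y = x}

/-- Every quasi-compact open has finitely many irreducible components. -/
def LocFinComp (U : Scheme.{u}) : Prop :=
  ∀ W : U.Opens, IsCompact (W : Set ↥U) → (irreducibleComponents ↥W).Finite

theorem finite_components_iff {α : Type*} [TopologicalSpace α] [T0Space α] [QuasiSober α] :
    (irreducibleComponents α).Finite ↔ (maxPts (Set.univ : Set α)).Finite := by
  have e : genericPoints α = maxPts (Set.univ : Set α) := by
    ext x
    constructor
    · intro hx
      exact ⟨trivial, (exists_component_isGenericPoint_iff x).1 ⟨_, hx, isGenericPoint_closure⟩⟩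
    · intro hx
      obtain ⟨T, hT, hxT⟩ := (exists_component_isGenericPoint_iff x).2 hx.2
      show closure {x} ∈ irreducibleComponents α
      rwa [hxT.def]
  refine ⟨fun h => e ▸ genericPoints.finite h, fun h => ?_⟩
  have : Finite (genericPoints α) := (e ▸ h : (genericPoints α).Finite).to_subtype
  have : Finite (irreducibleComponents α) := Finite.of_equiv _ (genericPoints.equiv (α := α))
  exact Set.toFinite _

theorem image_maxPts_opens {α : Type*} [TopologicalSpace α] (W : Opens α) :
    Subtype.val '' (maxPts (Set.univ : Set W)) = maxPts (W : Set α) := by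
  ext x
  constructor
  · rintro ⟨x, hx, rfl⟩
    refine ⟨x.2, fun y hy => ?_⟩
    have hyW : y ∈ W := hy.mem_open W.2 x.2
    exact congrArg Subtype.val
      (hx.2 ⟨y, hyW⟩ ((W.2.isOpenEmbedding_subtypeVal.isInducing.specializes_iff).1 hy))
  · rintro ⟨hxW, hx⟩
    exact ⟨⟨x, hxW⟩, ⟨trivial, fun y hy => Subtype.ext (hx y (hy.map continuous_subtype_val))⟩, rfl⟩

theorem finite_components_opens_iff {U : Scheme.{u}} (W : U.Opens) :
    (irreducibleComponents ↥W).Finite ↔ (maxPts (W : Set ↥U)).Finite := by
  have : QuasiSober ↥W := W.2.isOpenEmbedding_subtypeVal.quasiSober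
  rw [finite_components_iff, ← image_maxPts_opens W,
    Set.finite_image_iff Subtype.val_injective.injOn]

theorem locFinComp_iff {U : Scheme.{u}} :
    LocFinComp U ↔ ∀ W : U.Opens, IsCompact (W : Set ↥U) → (maxPts (W : Set ↥U)).Finite :=
  forall₂_congr fun W _ => finite_components_opens_iff W

/-- Every point generalizes to a point without proper generizations. -/
theorem exists_maxPt {α : Type*} [TopologicalSpace α] [QuasiSober α] [T0Space α] (u : α) :
    ∃ v, v ⤳ u ∧ ∀ y, y ⤳ v → y = v := by
  obtain ⟨η, hη⟩ := QuasiSober.sober (isIrreducible_irreducibleComponent (x := u))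
    isClosed_irreducibleComponent
  exact ⟨η, hη.specializes mem_irreducibleComponent,
    (exists_component_isGenericPoint_iff η).1
      ⟨_, irreducibleComponent_mem_irreducibleComponents u, hη⟩⟩

theorem maxPts_subset_image {α β : Type*} [TopologicalSpace α] [TopologicalSpace β]
    [QuasiSober α] [T0Space α] {f : α → β} (hf : Continuous f) {A : Set α} (hA : IsOpen A) :
    maxPts (f '' A) ⊆ f '' maxPts A := by
  rintro _ ⟨⟨u, hu, rfl⟩, hmax⟩
  obtain ⟨v, hv, hvmax⟩ := exists_maxPt u
  exact ⟨v, ⟨hv.mem_open hA hu, hvmax⟩, hmax _ (hv.map hf)⟩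

theorem maxPts_affine_finite_of_flat {A B : Scheme.{u}} [IsAffine A] [IsAffine B] (g : A ⟶ B)
    [Flat g] [LocallyOfFiniteType g] (hB : (maxPts (Set.univ : Set ↥B)).Finite) :
    (maxPts (Set.univ : Set ↥A)).Finite := by
  refine Set.Finite.subset (hB.biUnion (t := fun η => g.fiberι η '' maxPts Set.univ)
    fun η _ => Set.Finite.image _ ?_) fun x hx => ?_
  · have : IsLocallyNoetherian (g.fiber η) :=
      LocallyOfFiniteType.isLocallyNoetherian (g.fiberToSpecResidueField η)
    have : NoetherianSpace ↥(g.fiber η) := by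
      have : IsNoetherian (g.fiber η) := {}
      infer_instance
    exact finite_components_iff.1 NoetherianSpace.finite_irreducibleComponents
  · have hgx : g x ∈ maxPts (Set.univ : Set ↥B) := by
      refine ⟨trivial, fun y hy => ?_⟩
      obtain ⟨x', h₁, h₂⟩ := Flat.generalizingMap g hy
      rw [← h₂, hx.2 x' h₁]
    refine Set.mem_biUnion hgx ⟨g.asFiber x, ⟨trivial, fun y hy => ?_⟩, g.fiberι_asFiber x⟩
    apply (g.fiberι (g x)).isEmbedding.injective
    rw [g.fiberι_asFiber x]
    refine hx.2 _ ?_
    have h := hy.map (g.fiberι (g x)).continuous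
    rwa [g.fiberι_asFiber x] at h

/-- The property ascends along flat morphisms locally of finite type. -/
theorem locFinComp_of_flat {U V : Scheme.{u}} (f : U ⟶ V) [Flat f] [LocallyOfFiniteType f]
    (hV : LocFinComp V) : LocFinComp U := by
  rw [locFinComp_iff] at hV ⊢
  intro W hW
  have key : ∀ u : U, ∃ O : U.Opens, u ∈ O ∧ (maxPts (O : Set ↥U)).Finite := by
    intro u
    obtain ⟨L, hL, huL, -⟩ := exists_isAffineOpen_mem_and_subset (X := V) (x := f u) (U := ⊤) trivial
    obtain ⟨O, hO, huO, hOL⟩ :=
      exists_isAffineOpen_mem_and_subset (X := U) (x := u) (U := f ⁻¹ᵁ L) huL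
    refine ⟨O, huO, ?_⟩
    have : IsAffine (O : Scheme) := hO
    have : IsAffine (L : Scheme) := hL
    let g : (O : Scheme) ⟶ L := f.resLE L O hOL
    rw [← image_maxPts_opens O]
    refine Set.Finite.image _ (maxPts_affine_finite_of_flat g ?_)
    exact (Set.finite_image_iff Subtype.val_injective.injOn).1
      ((image_maxPts_opens L).symm ▸ hV L hL.isCompact)
  choose O hO hfin using key
  obtain ⟨t, ht⟩ := hW.elim_finite_subcover (fun u => (O u : Set ↥U)) (fun u => (O u).2)
    (fun u _ => Set.mem_iUnion.2 ⟨u, hO u⟩)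
  refine Set.Finite.subset ((t.finite_toSet).biUnion fun u _ => hfin u) fun x hx => ?_
  obtain ⟨u, hu, hxu⟩ := Set.mem_iUnion₂.1 (ht hx.1)
  exact Set.mem_biUnion hu ⟨hxu, hx.2⟩

/-- The property descends along surjective open morphisms. -/
theorem locFinComp_of_surjective {U V : Scheme.{u}} (f : U ⟶ V) [Surjective f]
    (hopen : IsOpenMap f) (hU : LocFinComp U) : LocFinComp V := by
  rw [locFinComp_iff] at hU ⊢
  intro W hW
  obtain ⟨W', hW', e⟩ := hopen.exists_opens_image_eq_of_prespectralSpace f.continuous
    (fun x _ => f.surjective x) W.2 hW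
  show (maxPts W.carrier).Finite
  rw [← e]
  exact ((hU W' hW').image f).subset (maxPts_subset_image f.continuous W'.2)

variable {S : Scheme.{u}}

/-- Any etale chart has the property if one surjective chart has it. -/
theorem locFinComp_of_chart {X : Sp S} (hX : IsAlgSpace X) (h : EtaleLocally LocFinComp X)
    {U : Over S} {a : (yon S).obj U ⟶ X} (ha : RepWith @Etale a) : LocFinComp U.left := by
  obtain ⟨U₀, p, hp, hps, hU₀⟩ := h
  obtain ⟨T, fst, snd, sq⟩ := exists_pullback_of_diag hX.diag p a
  have : Etale snd.left := repWith_fst_of_isPullback sq hp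
  have : Surjective snd.left := repWith_fst_of_isPullback sq hps
  have : Etale fst.left := repWith_fst_of_isPullback sq.flip ha
  exact locFinComp_of_surjective snd.left snd.left.isOpenMap (locFinComp_of_flat fst.left hU₀)

/-- Finitely many components pass to continuous images. -/
theorem finite_components_of_surjective {α β : Type*} [TopologicalSpace α] [TopologicalSpace β]
    [QuasiSober α] [T0Space α] {f : α → β} (hf : Continuous f) (hs : Function.Surjective f)
    (h : (maxPts (Set.univ : Set α)).Finite) : (irreducibleComponents β).Finite := by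
  refine (h.image (fun v => closure {f v})).subset fun T hT => ?_
  have hcover : T ⊆ ⋃₀ ↑(h.image (fun v => closure {f v})).toFinset := fun b _ => by
    obtain ⟨a, rfl⟩ := hs b
    obtain ⟨v, hv, hvmax⟩ := exists_maxPt a
    refine Set.mem_sUnion.2 ⟨closure {f v}, ?_, (hv.map hf).mem_closure⟩
    rw [Set.Finite.coe_toFinset]
    exact ⟨v, ⟨trivial, hvmax⟩, rfl⟩
  obtain ⟨z, hz, hTz⟩ := (isIrreducible_iff_sUnion_isClosed.1 hT.1) _ (fun z hz => by
    rw [Set.Finite.mem_toFinset] at hz
    obtain ⟨v, -, rfl⟩ := hz
    exact isClosed_closure) hcover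
  rw [Set.Finite.mem_toFinset] at hz
  obtain ⟨v, hv, rfl⟩ := hz
  exact ⟨v, hv, (hT.eq_of_subset isIrreducible_singleton.closure hTz).symm⟩

end Groth.AlgSp3
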