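import Groth.Agent.AlgSp3.NormNagata
import Groth.Agent.AlgSp3.DimFacts
import Groth.Agent.AlgSpBasic.DecentFiniteDense

/-!
# Codimension zero points of a normalization
-/

set_option autoImplicit false
set_option backward.isDefEq.respectTransparency.types false
universe u

open CategoryTheory CategoryTheory.Limits AlgebraicGeometry Opposite AlgSp

namespace Groth.AlgSp3

open Groth.AlgSpBasic

noncomputable section

variable {S : Scheme.{u}}

theorem exists_generic_preimage {A B : Scheme.{u}} [IsAffine A] [IsAffine B] (f : A ⟶ B)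
    (hf : Function.Injective f.appTop) (z : B) (hz : ∀ y : B, y ⤳ z → y = z) :
    ∃ w : A, (∀ y : A, y ⤳ w → y = w) ∧ f w = z := by
  let φ := f.appTop
  let eA : A ≃ₜ Spec Γ(A, ⊤) := Scheme.homeoOfIso A.isoSpec
  let eB : B ≃ₜ Spec Γ(B, ⊤) := Scheme.homeoOfIso B.isoSpec
  have hnat : ∀ w : A, eB (f w) = PrimeSpectrum.comap φ.hom (eA w) := fun w => by
    show B.isoSpec.hom (f w) = Spec.map φ (A.isoSpec.hom w)
    rw [← Scheme.Hom.comp_apply, ← Scheme.Hom.comp_apply, Scheme.isoSpec_hom_naturality]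
  let p : PrimeSpectrum Γ(B, ⊤) := eB z
  have hp : p.asIdeal ∈ minimalPrimes Γ(B, ⊤) := by
    refine ⟨⟨p.2, bot_le⟩, fun I hI hle => ?_⟩
    have hs : (⟨I, hI.1⟩ : PrimeSpectrum Γ(B, ⊤)) ⤳ p :=
      (PrimeSpectrum.le_iff_specializes ⟨I, hI.1⟩ p).1 hle
    let x : Spec Γ(B, ⊤) := (⟨I, hI.1⟩ : PrimeSpectrum Γ(B, ⊤))
    have := hz (eB.symm x) (by
      have h := hs.map eB.symm.continuous
      rwa [show eB.symm p = z from eB.symm_apply_apply z] at h)
    have h' : x = p := by rw [← eB.apply_symm_apply x, this]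
    exact (congrArg PrimeSpectrum.asIdeal h').ge
  obtain ⟨P, hP, hPp⟩ := Ideal.exists_comap_eq_of_mem_minimalPrimes_of_injective hf p.asIdeal hp
  obtain ⟨Q, hQ, hQP⟩ := Ideal.exists_minimalPrimes_le (bot_le : (⊥ : Ideal Γ(A, ⊤)) ≤ P)
  have hQ' : Q.IsPrime := hQ.1.1
  have hQp : Q.comap φ.hom = p.asIdeal :=
    le_antisymm ((Ideal.comap_mono hQP).trans hPp.le)
      (hp.2 ⟨hQ'.comap _, bot_le⟩ ((Ideal.comap_mono hQP).trans hPp.le))
  let q : Spec Γ(A, ⊤) := (⟨Q, hQ'⟩ : PrimeSpectrum Γ(A, ⊤))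
  refine ⟨eA.symm q, fun y hy => ?_, eB.injective ?_⟩
  · apply eA.injective
    rw [eA.apply_symm_apply]
    have h := hy.map eA.continuous
    rw [eA.apply_symm_apply] at h
    let y' : PrimeSpectrum Γ(A, ⊤) := eA y
    have hle : y'.asIdeal ≤ Q :=
      (PrimeSpectrum.le_iff_specializes y' (⟨Q, hQ'⟩ : PrimeSpectrum Γ(A, ⊤))).2 h
    exact PrimeSpectrum.ext (le_antisymm hle (hQ.2 ⟨y'.2, bot_le⟩ hle))
  · rw [hnat, eA.apply_symm_apply]
    exact PrimeSpectrum.ext hQp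

variable {X Y X' : Sp S} {f : Y ⟶ X} {ν : X' ⟶ X} {f' : Y ⟶ X'}

theorem codimZero_lifts (hX : IsAlgSpace X) (hY : IsAlgSpace Y) (hX' : IsAlgSpace X')
    (hqc : IsQuasiCompactMor f) (hqs : IsQuasiSeparatedMor f) (hn : IsRelNormalization f ν f')
    (x' : Points X') (hx' : HasAt (fun U u => ringKrullDim ↥(U.presheaf.stalk u) = 0) X' x') :
    ∃ y : Points Y, HasAt (fun U u => ringKrullDim ↥(U.presheaf.stalk u) = 0) Y y ∧
      Points.map f' y = x' := by
  obtain ⟨U, p, P, qP, π, N, q, ν₀, f₀, hp, hps, sqP, sqN, hf₀, h⟩ :=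
    exists_stable_chart hX hY hX' hqc hqs hn
  have hq : RepWith @Etale q := repWith_of_isPullback sqN.flip hp
  obtain ⟨z, rfl⟩ := surjective_ofPt_of_repWith (repWith_of_isPullback sqN.flip hps) x'
  have hz := (hasAt_iff_forall etaleInvariant_ringKrullDim hX' _ _).1 hx' N q z hq rfl
  obtain ⟨_, ⟨L, hL, rfl⟩, hzL, -⟩ := U.left.isBasis_affineOpens.exists_subset_of_mem_open
    (show ν₀.left z ∈ (⊤ : U.left.Opens) from trivial) (⊤ : U.left.Opens).isOpen
  have : IsAffine (resObj L).left := hL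
  obtain ⟨νL, sqL⟩ := exists_isPullback_resι ν₀ L
  have sqR := IsPullback.of_hasPullback π ((yon S).map (resι L))
  obtain ⟨fL, hfL₁, hfL₂⟩ : ∃ fL : pullback π ((yon S).map (resι L)) ⟶
      (yon S).obj (resObj (ν₀.left ⁻¹ᵁ L)),
      fL ≫ (yon S).map (resι _) = pullback.fst _ _ ≫ f₀ ∧
        fL ≫ (yon S).map νL = pullback.snd _ _ := by
    have w : (pullback.fst π ((yon S).map (resι L)) ≫ f₀) ≫ (yon S).map ν₀ =
        pullback.snd _ _ ≫ (yon S).map (resι L) := by
      rw [Category.assoc, h.fac, pullback.condition]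
    exact ⟨_, (sqL.map (yon S)).lift_fst _ _ w, (sqL.map (yon S)).lift_snd _ _ w⟩
  have hιL : Etale (resι L).left := inferInstanceAs (Etale (Scheme.Opens.ι L))
  have := hιL
  have hStL := h.baseChange (resι L) sqR sqL hfL₂ hfL₁
  have sqX := sqR.paste_horiz sqP
  obtain ⟨C, N₁, ν₁, n, e, hd, he, hwe⟩ := exists_normData_iso
    (isAlgSpace_of_isPullback sqX hX.diag hY (IsAlgSpace.yon_obj _))
    (isQuasiCompactMor_of_isPullback sqX hqc)
    (repWith_of_isPullback (isPullback_diagonal_baseChange sqX) hqs) hStL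
  have := C.affW
  have := hd.affine
  -- the open piece of `N` containing `z`
  let j : N₁ ⟶ N := e.hom ≫ resι (ν₀.left ⁻¹ᵁ L)
  have : IsOpenImmersion j.left := by
    have : IsIso e.hom.left := inferInstanceAs (IsIso ((Over.forget S).map e.hom))
    have : IsOpenImmersion (resι (ν₀.left ⁻¹ᵁ L)).left :=
      (inferInstance : IsOpenImmersion (ν₀.left ⁻¹ᵁ L).ι)
    exact inferInstanceAs (IsOpenImmersion (e.hom.left ≫ (resι (ν₀.left ⁻¹ᵁ L)).left))
  obtain ⟨z₁, rfl⟩ : ∃ z₁, j.left z₁ = z := by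
    refine ⟨e.inv.left ⟨z, hzL⟩, ?_⟩
    show j.left (e.inv.left _) = _
    rw [← Scheme.Hom.comp_apply, ← Over.comp_left, Iso.inv_hom_id_assoc]
    rfl
  obtain ⟨w, hw, rfl⟩ := exists_generic_preimage n.left hd.inj z₁ fun y hy =>
    j.left.isOpenEmbedding.injective
      (ringKrullDim_eq_zero_iff.1 hz _ (hy.map j.left.continuous))
  let a : (yon S).obj C.W ⟶ Y := C.w ≫ pullback.fst π ((yon S).map (resι L)) ≫ qP
  have ha : RepWith @Etale a := repWith_comp C.etale (repWith_comp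
    (repWith_of_isPullback sqR.flip ((repWith_yon_map_iff _ (resι L)).2 hιL))
    (repWith_of_isPullback sqP.flip hp))
  refine ⟨Points.ofPt a w, ⟨C.W, a, w, ha, rfl, ringKrullDim_eq_zero_iff.2 hw⟩, ?_⟩
  have comm : a ≫ f' = (yon S).map (n ≫ j) ≫ q := by
    simp only [a, j, Category.assoc, Functor.map_comp]
    rw [← hf₀, ← reassoc_of% hfL₁, reassoc_of% hwe, Functor.map_comp, Category.assoc]
  rw [Points.map_ofPt, comm, ofPt_comp_yon]
  rfl

end

end Groth.AlgSp3
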