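import Groth.Agent.AlgSp3.NormApps
import Groth.Agent.Calg1.NagataTheorem
import Groth.Agent.Calg1.NagataIntegralClosure
import Groth.Agent.AlgSpBasic.DecentFinite
import Groth.Agent.EtaleBase.FpqcDescent

/-!
# Finiteness of the normalization over a Nagata space
-/

set_option autoImplicit false
set_option backward.isDefEq.respectTransparency.types false
universe u

open CategoryTheory CategoryTheory.Limits AlgebraicGeometry Opposite AlgSp

namespace Groth.AlgSp3

open Groth.AlgSpBasic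

noncomputable section

variable {S : Scheme.{u}}

/-- Over an affine base a stable normalization is given by the ring theoretic data. -/
theorem exists_normData_iso {P : Sp S} {L N : Over S} [IsAffine L.left] (hP : IsAlgSpace P)
    {π : P ⟶ (yon S).obj L} (hqc : IsQuasiCompactMor π) (hqs : IsQuasiSeparatedMor π)
    {ν : N ⟶ L} {f' : P ⟶ (yon S).obj N} (h : IsStable π ν f') :
    ∃ (C : AffCover π) (N₁ : Over S) (ν₁ : N₁ ⟶ L) (n : C.W ⟶ N₁) (e : N₁ ≅ N),
      IsNormData C ν₁ n ∧ e.hom ≫ ν = ν₁ ∧ C.w ≫ f' = (yon S).map (n ≫ e.hom) := by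
  obtain ⟨C⟩ := exists_affCover hP hqc hqs
  obtain ⟨N₁, ν₁, n, hd⟩ := exists_isNormData C
  obtain ⟨g, hg, -⟩ := C.existsUnique_desc ((yon S).map n)
    (by rw [← Functor.map_comp, ← Functor.map_comp, hd.eq])
  have hg' : g ≫ (yon S).map ν₁ = π := C.hom_ext (by
    rw [reassoc_of% hg, ← Functor.map_comp, hd.fac, C.fac])
  obtain ⟨e, he, he'⟩ := exists_iso_of_isRelNormalization (f := π) (ν := (yon S).map ν)
    (ν' := (yon S).map ν₁) (IsAlgSpace.yon_obj N) (IsAlgSpace.yon_obj N₁)
    ⟨h.fac, isIntegralMor_yon_map ν h.integral, h.isNormHom⟩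
    ⟨hg', isIntegralMor_yon_map ν₁ hd.integral, isNormHom_of_isNormData hd hg⟩
  refine ⟨C, N₁, ν₁, n, (yon S).preimageIso e, hd, (yon S).map_injective ?_, ?_⟩
  · rw [Functor.map_comp, Functor.preimageIso_hom, Functor.map_preimage, he]
  · rw [Functor.map_comp, Functor.preimageIso_hom, Functor.map_preimage, ← hg, Category.assoc, he']

theorem isFiniteMor_of_nagata {X Y Y' : Sp S} (hX : IsAlgSpace X) (hY : IsAlgSpace Y)
    (hY' : IsAlgSpace Y') {f : X ⟶ Y}
    (hN : EtaleLocally (fun U => ∀ V : U.Opens, IsAffineOpen V → CAlg.IsNagata ↑Γ(U, V)) Y)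
    (hqs : IsQuasiSeparatedMor f) (hft : IsFiniteTypeMor f) (hXr : IsReducedSp X) {ν : Y' ⟶ Y}
    {f' : X ⟶ Y'} (hn : IsRelNormalization f ν f') : IsFiniteMor ν := by
  obtain ⟨U, p, P, qP, π, N, q, ν₀, f₀, hp, hps, sqP, sqN, hf₀, h⟩ :=
    exists_stable_chart hY hX hY' hft.2 hqs hn
  obtain ⟨V, b, hb, hbs, hV⟩ := hN
  obtain ⟨M, m, v, sqM⟩ := exists_pullback_of_diag hY.diag p b
  have hm : Etale m.left := (repWith_yon_map_iff _ m).1 (repWith_of_isPullback sqM.flip hb)
  have hv : Etale v.left := (repWith_yon_map_iff _ v).1 (repWith_of_isPullback sqM hp)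
  have hpM : RepWith @Etale ((yon S).map m ≫ p) :=
    repWith_comp ((repWith_yon_map_iff _ m).2 hm) hp
  have hpMs : RepWith @Surjective ((yon S).map m ≫ p) := by
    rw [sqM.w]
    exact repWith_comp (repWith_of_isPullback sqM hps) hbs
  obtain ⟨Q, qQ, πQ, sqQ⟩ : ∃ (Q : Sp S) (qQ : Q ⟶ P) (πQ : Q ⟶ (yon S).obj M),
      IsPullback qQ πQ π ((yon S).map m) := ⟨_, _, _, IsPullback.of_hasPullback _ _⟩
  obtain ⟨NM, qN, νM, sqNM⟩ : ∃ (NM : Over S) (qN : NM ⟶ N) (νM : NM ⟶ M),
      IsPullback qN νM ν₀ m := ⟨_, _, _, IsPullback.of_hasPullback _ _⟩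
  obtain ⟨fQ, hfQ₁, hfQ₂⟩ : ∃ fQ : Q ⟶ (yon S).obj NM,
      fQ ≫ (yon S).map qN = qQ ≫ f₀ ∧ fQ ≫ (yon S).map νM = πQ := by
    have w : (qQ ≫ f₀) ≫ (yon S).map ν₀ = πQ ≫ (yon S).map m := by
      rw [Category.assoc, h.fac, sqQ.w]
    exact ⟨_, (sqNM.map (yon S)).lift_fst _ _ w, (sqNM.map (yon S)).lift_snd _ _ w⟩
  have := hm
  have hSt := h.baseChange m sqQ sqNM hfQ₂ hfQ₁
  have sqX := sqQ.paste_horiz sqP
  have hQ := isAlgSpace_of_isPullback sqX hY.diag hX (IsAlgSpace.yon_obj M)
  refine affWith_isFinite_iff.1 (affWith_of_cover hY hpM hpMs ((sqNM.map (yon S)).paste_horiz sqN) ?_)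
  suffices hfin : IsFinite νM.left from
    affWith_of_repWith (fun _ _ k (_ : IsFinite k) => inferInstance)
      ((repWith_yon_map_iff _ νM).2 hfin)
  -- affine pieces over affine pieces of the Nagata chart
  let φ : M.left.Opens → Prop := fun L => IsAffineOpen L ∧ ∃ K : V.left.Opens,
    IsAffineOpen K ∧ L ≤ v.left ⁻¹ᵁ K
  have hcov : (⨆ L : {L // φ L}, L.1) = ⊤ := eq_top_iff.2 fun x _ => by
    obtain ⟨_, ⟨K, hK, rfl⟩, hxK, -⟩ := V.left.isBasis_affineOpens.exists_subset_of_mem_open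
      (show v.left x ∈ (⊤ : V.left.Opens) from trivial) (⊤ : V.left.Opens).isOpen
    obtain ⟨_, ⟨L, hL, rfl⟩, hxL, hLK⟩ := M.left.isBasis_affineOpens.exists_subset_of_mem_open
      (show x ∈ v.left ⁻¹ᵁ K from hxK) (v.left ⁻¹ᵁ K).isOpen
    exact TopologicalSpace.Opens.mem_iSup.2 ⟨⟨L, hL, K, hK, hLK⟩, hxL⟩
  refine IsZariskiLocalAtTarget.of_iSup_eq_top (P := @IsFinite) (fun L : {L // φ L} => L.1) hcov ?_
  rintro ⟨L, hL, K, hK, hLK⟩
  have : IsAffine (resObj L).left := hL
  obtain ⟨νL, sqL⟩ := exists_isPullback_resι νM L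
  have sqR := IsPullback.of_hasPullback πQ ((yon S).map (resι L))
  obtain ⟨fL, hfL₁, hfL₂⟩ : ∃ fL : pullback πQ ((yon S).map (resι L)) ⟶
      (yon S).obj (resObj (νM.left ⁻¹ᵁ L)),
      fL ≫ (yon S).map (resι _) = pullback.fst _ _ ≫ fQ ∧
        fL ≫ (yon S).map νL = pullback.snd _ _ := by
    have w : (pullback.fst πQ ((yon S).map (resι L)) ≫ fQ) ≫ (yon S).map νM =
        pullback.snd _ _ ≫ (yon S).map (resι L) := by
      rw [Category.assoc, hfQ₂, pullback.condition]
    exact ⟨_, (sqL.map (yon S)).lift_fst _ _ w, (sqL.map (yon S)).lift_snd _ _ w⟩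
  have hιL : Etale (resι L).left := inferInstanceAs (Etale L.ι)
  have := hιL
  have hStL := hSt.baseChange (resι L) sqR sqL hfL₂ hfL₁
  have hR := isAlgSpace_of_isPullback sqR (IsAlgSpace.yon_obj M).diag hQ (IsAlgSpace.yon_obj _)
  obtain ⟨C, N₁, ν₁, n, e, hd, he, -⟩ := exists_normData_iso hR
    (isQuasiCompactMor_of_isPullback (sqR.paste_horiz sqX) hft.2)
    (repWith_of_isPullback (isPullback_diagonal_baseChange (sqR.paste_horiz sqX)) hqs) hStL
  have := C.affW
  have := hd.affine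
  -- the ring below is Nagata
  have hNag : CAlg.IsNagata Γ((resObj L).left, ⊤) := by
    let g : (resObj L).left ⟶ K.toScheme := v.left.resLE K L hLK
    have : IsAffine K.toScheme := hK
    have : LocallyOfFiniteType g := by
      have : Etale g := inferInstance
      infer_instance
    have hg := HasRingHomProperty.appTop (P := @LocallyOfFiniteType) (f := g) this
    have hKN : CAlg.IsNagata Γ(K.toScheme, ⊤) :=
      Groth.Calg1.isNagata_of_surjective K.topIso.inv.hom
        (ConcreteCategory.bijective_of_isIso K.topIso.inv).2 (hV K hK)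
    algebraize [g.appTop.hom]
    exact Groth.Calg1.isNagata_of_finiteType hKN
  -- the source is reduced and of finite type
  have hwR : RepWith @Etale (C.w ≫ pullback.fst _ _ ≫ qQ ≫ qP) :=
    repWith_comp C.etale (repWith_comp
      (repWith_of_isPullback sqR.flip ((repWith_yon_map_iff _ (resι L)).2 hιL))
      (repWith_comp (repWith_of_isPullback sqQ.flip ((repWith_yon_map_iff _ m).2 hm))
        (repWith_of_isPullback sqP.flip hp)))
  have hWred : IsReduced C.W.left := isReduced_etale_chart hX hXr hwR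
  have hWft : LocallyOfFiniteType C.α.left := by
    refine hft.1 _ ((yon S).map (resι L) ≫ (yon S).map m ≫ p) C.α hwR
      (repWith_comp ((repWith_yon_map_iff _ (resι L)).2 hιL) hpM) ?_
    rw [Category.assoc, Category.assoc, Category.assoc, sqP.w, reassoc_of% sqQ.w,
      pullback.condition_assoc, reassoc_of% C.fac]
  have hfin₁ : IsFinite ν₁.left := by
    rw [HasAffineProperty.iff_of_isAffine (P := @IsFinite)]
    refine ⟨hd.affine, ?_⟩
    have hα := HasRingHomProperty.appTop (P := @LocallyOfFiniteType) (f := C.α.left) hWft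
    algebraize [C.α.left.appTop.hom, ν₁.left.appTop.hom]
    have := hNag.1
    have : _root_.IsReduced Γ(C.W.left, ⊤) := inferInstance
    have := Groth.Calg1.finite_integralClosure_of_isReduced (S := Γ(C.W.left, ⊤)) hNag
    have hcomp : ν₁.left.appTop ≫ n.left.appTop = C.α.left.appTop := by
      rw [← Scheme.Hom.comp_appTop, ← Over.comp_left, hd.fac]
    let j : Γ(N₁.left, ⊤) →ₐ[Γ((resObj L).left, ⊤)] Γ(C.W.left, ⊤) :=
      ⟨n.left.appTop.hom, fun z => ConcreteCategory.congr_hom hcomp z⟩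
    have hj : ∀ z, j z ∈ integralClosure Γ((resObj L).left, ⊤) Γ(C.W.left, ⊤) := fun z =>
      IsIntegral.map j (show IsIntegral _ z from isIntegral_appTop ν₁.left hd.integral z)
    show Module.Finite _ _
    exact Module.Finite.of_injective (j.codRestrict _ hj).toLinearMap
      fun a b hab => hd.inj (congrArg Subtype.val hab)
  have : IsFinite νL.left := by
    have e₁ : e.inv ≫ ν₁ = νL := by rw [← he, Iso.inv_hom_id_assoc]
    rw [← e₁, Over.comp_left]
    have : IsIso e.inv.left := inferInstanceAs (IsIso ((Over.forget S).map e.inv))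
    infer_instance
  have sqr := (isPullback_morphismRestrict νM.left L).flip
  have e₂ := sqL.map (Over.forget S)
  rw [← sqr.isoIsPullback_hom_snd _ _ e₂, MorphismProperty.cancel_left_of_respectsIso @IsFinite]
  assumption

end

end Groth.AlgSp3
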