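import Mathlib.RingTheory.Smooth.IntegralClosure
import Mathlib.RingTheory.Flat.Equalizer
import Mathlib.Algebra.Category.Ring.Constructions
import Mathlib.RingTheory.RingHom.Smooth
/-!
# Integral closure in an equalizer commutes with smooth base change
-/

set_option autoImplicit false
universe u

open TensorProduct CategoryTheory

namespace Groth.AlgSp3

section

variable {A A' R T : Type u} [CommRing A] [CommRing A'] [CommRing R] [CommRing T] [Algebra A A']
  [Algebra A R] [Algebra A T]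

theorem exists_of_isIntegral_of_eq [Algebra.Smooth A A'] (α β : R →ₐ[A] T)
    (x : A' ⊗[A] R) (hx : IsIntegral A' x)
    (h : Algebra.TensorProduct.map (AlgHom.id A A') α x =
      Algebra.TensorProduct.map (AlgHom.id A A') β x) :
    ∃ y : A' ⊗[A] (integralClosure A (AlgHom.equalizer α β)),
      Algebra.TensorProduct.map (AlgHom.id A' A')
        ((AlgHom.equalizer α β).val.comp (integralClosure A (AlgHom.equalizer α β)).val) y = x := by
  let B := AlgHom.equalizer α β
  let i : A' ⊗[A] B →ₐ[A'] A' ⊗[A] R := Algebra.TensorProduct.map (AlgHom.id A' A') B.val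
  have hi : Function.Injective i :=
    Module.Flat.lTensor_preserves_injective_linearMap (M := A') B.val.toLinearMap Subtype.val_injective
  obtain ⟨x₀, rfl⟩ : ∃ x₀, i x₀ = x := by
    have h1 : x ∈ LinearMap.eqLocus (AlgebraTensorModule.lTensor A' A' α.toLinearMap)
        (AlgebraTensorModule.lTensor A' A' β.toLinearMap) := h
    rw [Module.Flat.eqLocus_lTensor_eq] at h1
    obtain ⟨z, hz⟩ := h1
    exact ⟨z, hz⟩
  have hx₀ : IsIntegral A' x₀ := (isIntegral_algHom_iff i hi).1 hx
  obtain ⟨y, hy⟩ := (TensorProduct.toIntegralClosure_bijective_of_smooth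
    (R := A) (S := A') (B := B)).2 ⟨x₀, hx₀⟩
  refine ⟨y, ?_⟩
  have hy' : Algebra.TensorProduct.map (AlgHom.id A' A') (integralClosure A B).val y = x₀ :=
    congrArg Subtype.val hy
  rw [← hy', ← AlgHom.comp_apply, ← Algebra.TensorProduct.map_comp]
  rfl

theorem map_injective_integralClosure [Module.Flat A A'] (α β : R →ₐ[A] T) :
    Function.Injective (Algebra.TensorProduct.map (AlgHom.id A' A')
      ((AlgHom.equalizer α β).val.comp (integralClosure A (AlgHom.equalizer α β)).val) :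
        A' ⊗[A] (integralClosure A (AlgHom.equalizer α β)) → A' ⊗[A] R) :=
  Module.Flat.lTensor_preserves_injective_linearMap (M := A')
    ((AlgHom.equalizer α β).val.comp (integralClosure A (AlgHom.equalizer α β)).val).toLinearMap
    (Subtype.val_injective.comp Subtype.val_injective)

end

/-- The pushout form: after smooth base change, the image of the base changed integral closure is
the set of integral elements of the equalizer. -/
theorem pushout_integralClosure_equalizer {A A' R R' T T' C C' : CommRingCat.{u}} {a : A ⟶ A'}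
    (ha : a.hom.Smooth) {r : A ⟶ R} {r₁ : R ⟶ R'} {r₂ : A' ⟶ R'} (hR : IsPushout a r r₂ r₁)
    {t : A ⟶ T} {t₁ : T ⟶ T'} {t₂ : A' ⟶ T'} (hT : IsPushout a t t₂ t₁)
    {c : A ⟶ C} {c₁ : C ⟶ C'} {c₂ : A' ⟶ C'} (hC : IsPushout a c c₂ c₁)
    {α β : R ⟶ T} (hα : r ≫ α = t) (hβ : r ≫ β = t) {α' β' : R' ⟶ T'}
    (hα₁ : r₁ ≫ α' = α ≫ t₁) (hα₂ : r₂ ≫ α' = t₂) (hβ₁ : r₁ ≫ β' = β ≫ t₁) (hβ₂ : r₂ ≫ β' = t₂)
    {n : C ⟶ R} (hn : c ≫ n = r) (hninj : Function.Injective n)
    (hneq : n ≫ α = n ≫ β) (hint : c.hom.IsIntegral)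
    (hmax : ∀ x : R, r.hom.IsIntegralElem x → α x = β x → x ∈ n.hom.range)
    {n' : C' ⟶ R'} (hn₁ : c₁ ≫ n' = n ≫ r₁) (hn₂ : c₂ ≫ n' = r₂) :
    Function.Injective n' ∧
      ∀ x : R', r₂.hom.IsIntegralElem x → α' x = β' x → x ∈ n'.hom.range := by
  algebraize [a.hom, r.hom, t.hom, c.hom]
  have : Algebra.Smooth A A' := ha
  let αA : R →ₐ[A] T := ⟨α.hom, fun z => ConcreteCategory.congr_hom hα z⟩
  let βA : R →ₐ[A] T := ⟨β.hom, fun z => ConcreteCategory.congr_hom hβ z⟩
  let nA : C →ₐ[A] R := ⟨n.hom, fun z => ConcreteCategory.congr_hom hn z⟩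
  let j := (AlgHom.equalizer αA βA).val.comp (integralClosure A (AlgHom.equalizer αA βA)).val
  have hmem : ∀ z : C, nA z ∈ AlgHom.equalizer αA βA := fun z => ConcreteCategory.congr_hom hneq z
  let k : C →ₐ[A] integralClosure A (AlgHom.equalizer αA βA) :=
    (nA.codRestrict _ hmem).codRestrict _ fun z => (show _root_.IsIntegral A z from hint z).map (nA.codRestrict _ hmem)
  have hk : Function.Bijective k := by
    refine ⟨fun z z' h => hninj (congrArg j h), fun w => ?_⟩
    obtain ⟨z, hz⟩ := hmax (j w) (w.2.map (AlgHom.equalizer αA βA).val) w.1.2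
    exact ⟨z, Subtype.ext (Subtype.ext hz)⟩
  let eR := (CommRingCat.isPushout_tensorProduct A A' R).isoPushout ≪≫ hR.isoPushout.symm
  let eT := (CommRingCat.isPushout_tensorProduct A A' T).isoPushout ≪≫ hT.isoPushout.symm
  let eC := (CommRingCat.isPushout_tensorProduct A A' C).isoPushout ≪≫ hC.isoPushout.symm
  have eR₁ : ∀ (x : A') (y : R), eR.hom (x ⊗ₜ[A] y) = r₂ x * r₁ y := by
    intro x y
    have h₁ : CommRingCat.ofHom Algebra.TensorProduct.includeLeftRingHom ≫ eR.hom = r₂ := by simp [eR]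
    have h₂ : CommRingCat.ofHom (Algebra.TensorProduct.includeRight (R := A) (A := A') (B := R)).toRingHom ≫
        eR.hom = r₁ := by simp [eR]
    rw [← h₁, ← h₂, show x ⊗ₜ[A] y = (x ⊗ₜ[A] 1) * (1 ⊗ₜ[A] y) by simp, map_mul]
    rfl
  have eT₁ : ∀ (x : A') (y : T), eT.hom (x ⊗ₜ[A] y) = t₂ x * t₁ y := by
    intro x y
    have h₁ : CommRingCat.ofHom Algebra.TensorProduct.includeLeftRingHom ≫ eT.hom = t₂ := by simp [eT]
    have h₂ : CommRingCat.ofHom (Algebra.TensorProduct.includeRight (R := A) (A := A') (B := T)).toRingHom ≫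
        eT.hom = t₁ := by simp [eT]
    rw [← h₁, ← h₂, show x ⊗ₜ[A] y = (x ⊗ₜ[A] 1) * (1 ⊗ₜ[A] y) by simp, map_mul]
    rfl
  have eC₁ : ∀ (x : A') (y : C), eC.hom (x ⊗ₜ[A] y) = c₂ x * c₁ y := by
    intro x y
    have h₁ : CommRingCat.ofHom Algebra.TensorProduct.includeLeftRingHom ≫ eC.hom = c₂ := by simp [eC]
    have h₂ : CommRingCat.ofHom (Algebra.TensorProduct.includeRight (R := A) (A := A') (B := C)).toRingHom ≫
        eC.hom = c₁ := by simp [eC]
    rw [← h₁, ← h₂, show x ⊗ₜ[A] y = (x ⊗ₜ[A] 1) * (1 ⊗ₜ[A] y) by simp, map_mul]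
    rfl
  have hne : ∀ z : A' ⊗[A] C, n' (eC.hom z) =
      eR.hom (Algebra.TensorProduct.map (AlgHom.id A' A') nA z) := by
    intro z
    induction z with
    | zero => simp
    | add u v hu hv => simp only [map_add, hu, hv]
    | tmul u v =>
      rw [eC₁, Algebra.TensorProduct.map_tmul, eR₁, map_mul, ← CommRingCat.comp_apply,
        ← CommRingCat.comp_apply, hn₁, hn₂]
      rfl
  have hαe : ∀ z : A' ⊗[A] R, α' (eR.hom z) =
      eT.hom (Algebra.TensorProduct.map (AlgHom.id A A') αA z) := by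
    intro z
    induction z with
    | zero => simp
    | add u v hu hv => simp only [map_add, hu, hv]
    | tmul u v =>
      rw [eR₁, Algebra.TensorProduct.map_tmul, eT₁, map_mul, ← CommRingCat.comp_apply,
        ← CommRingCat.comp_apply, hα₁, hα₂]
      rfl
  have hβe : ∀ z : A' ⊗[A] R, β' (eR.hom z) =
      eT.hom (Algebra.TensorProduct.map (AlgHom.id A A') βA z) := by
    intro z
    induction z with
    | zero => simp
    | add u v hu hv => simp only [map_add, hu, hv]
    | tmul u v =>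
      rw [eR₁, Algebra.TensorProduct.map_tmul, eT₁, map_mul, ← CommRingCat.comp_apply,
        ← CommRingCat.comp_apply, hβ₁, hβ₂]
      rfl
  refine ⟨fun u v h => ?_, fun x hx he => ?_⟩
  · obtain ⟨u, rfl⟩ := (ConcreteCategory.bijective_of_isIso eC.hom).2 u
    obtain ⟨v, rfl⟩ := (ConcreteCategory.bijective_of_isIso eC.hom).2 v
    rw [hne, hne] at h
    congr 1
    exact Module.Flat.lTensor_preserves_injective_linearMap (M := A') nA.toLinearMap hninj
      ((ConcreteCategory.bijective_of_isIso eR.hom).1 h)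
  · obtain ⟨z, rfl⟩ := (ConcreteCategory.bijective_of_isIso eR.hom).2 x
    rw [hαe, hβe] at he
    have hz : IsIntegral A' z := by
      obtain ⟨P, hP, hPz⟩ := hx
      refine ⟨P, hP, (ConcreteCategory.bijective_of_isIso eR.hom).1 ?_⟩
      rw [map_zero, ← hPz, Polynomial.hom_eval₂]
      congr 1
      ext y
      show eR.hom (y ⊗ₜ[A] 1) = r₂ y
      rw [eR₁, map_one, mul_one]
    obtain ⟨y, hy⟩ := exists_of_isIntegral_of_eq αA βA z hz ((ConcreteCategory.bijective_of_isIso eT.hom).1 he)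
    obtain ⟨w, rfl⟩ : ∃ w, Algebra.TensorProduct.map (AlgHom.id A' A') k w = y :=
      LinearMap.lTensor_surjective A' (g := k.toLinearMap) hk.2 y
    refine ⟨eC.hom w, ?_⟩
    show n' (eC.hom w) = _
    rw [hne, ← hy, ← AlgHom.comp_apply, ← Algebra.TensorProduct.map_comp]
    rfl

end Groth.AlgSp3
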