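import Groth.Agent.AlgSp3.NormApps
import Groth.Agent.AlgSpBasic.SepLQFScheme
import Mathlib.AlgebraicGeometry.ZariskisMainTheorem
import Mathlib.AlgebraicGeometry.QuasiAffine

/-!
# Zariski's main theorem for algebraic spaces, through the normalization
-/

set_option autoImplicit false
set_option backward.isDefEq.respectTransparency.types false
universe u

open CategoryTheory CategoryTheory.Limits AlgebraicGeometry Opposite AlgSp

namespace Groth.AlgSp3

open Groth.AlgSpBasic

noncomputable section

variable {S : Scheme.{u}} {X Y X' : Sp S} {f : Y ⟶ X} {ν : X' ⟶ X} {f' : Y ⟶ X'}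

theorem isOpenImmersion_to_normalization (hX : IsAlgSpace X) (hY : IsAlgSpace Y)
    (hX' : IsAlgSpace X') (hqf : LocP (@LocallyQuasiFinite ⊓ @LocallyOfFiniteType) f)
    (hqc : IsQuasiCompactMor f) (hsep : IsSeparatedMor f) (hn : IsRelNormalization f ν f') :
    RepWith @IsOpenImmersion f' ∧ IsQuasiCompactMor f' ∧ IsQuasiAffineMor f := by
  have hrep := representable_of_separated_lqf hY hX hqf hsep
  have hq := repWith_of_isQuasiCompactMor hrep hqc
  have hs := (AlgSp2.repWith_isSeparated_iff hrep).1 hsep
  have hl := repWith_of_locP hX hrep hqf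
  have hqs : IsQuasiSeparatedMor f :=
    repWith_mono (fun _ _ k (_ : IsClosedImmersion k) => (inferInstance : QuasiCompact k)) hsep
  obtain ⟨U, p, P, qP, π, N, q, ν₀, f₀, hp, hps, sqP, sqN, hf₀, h⟩ :=
    exists_stable_chart hX hY hX' hqc hqs hn
  obtain ⟨W, i, fst, sqW⟩ := hrep p
  have : QuasiCompact i.left := hq.property p fst i sqW
  have : IsSeparated i.left := hs.property p fst i sqW
  have : LocallyQuasiFinite i.left := (hl.property p fst i sqW).1
  have : LocallyOfFiniteType i.left := (hl.property p fst i sqW).2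
  obtain ⟨e, he₁, he₂⟩ : ∃ e : (yon S).obj W ≅ P, e.hom ≫ qP = fst ∧ e.hom ≫ π = (yon S).map i :=
    ⟨sqW.isoIsPullback _ _ sqP, sqW.isoIsPullback_hom_fst _ _ sqP,
      sqW.isoIsPullback_hom_snd _ _ sqP⟩
  obtain ⟨k, hk⟩ := (yon S).map_surjective (e.hom ≫ f₀)
  have hν₀ := isIntegralMor_yon_map ν₀ h.integral
  have hkν : k ≫ ν₀ = i := (yon S).map_injective (by
    rw [Functor.map_comp, hk, Category.assoc, h.fac, he₂])
  -- the chart is the scheme theoretic normalization
  have hn₀ : IsRelNormalization ((yon S).map i) ((yon S).map ν₀) ((yon S).map k) := by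
    refine ⟨by rw [← Functor.map_comp, hkν], hν₀, fun Z hZ ρ g hρ hg => ?_⟩
    obtain ⟨m, ⟨hm₁, hm₂⟩, hmu⟩ := h.isNormHom hZ ρ (e.inv ≫ g) hρ
      (by rw [Category.assoc, hg, ← he₂, Iso.inv_hom_id_assoc])
    refine ⟨m, ⟨by rw [hk, Category.assoc, hm₁, Iso.hom_inv_id_assoc], hm₂⟩, fun m' hm' => ?_⟩
    refine hmu m' ⟨?_, hm'.2⟩
    rw [← hm'.1, hk, Category.assoc, Iso.inv_hom_id_assoc]
  let Ns : Over S := Over.mk (i.left.fromNormalization ≫ U.hom)
  let ks : W ⟶ Ns := Over.homMk i.left.toNormalization (by
    show i.left.toNormalization ≫ i.left.fromNormalization ≫ U.hom = W.hom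
    rw [Scheme.Hom.toNormalization_fromNormalization_assoc, Over.w])
  let νs : Ns ⟶ U := Over.homMk i.left.fromNormalization rfl
  have hn₁ : IsRelNormalization ((yon S).map i) ((yon S).map νs) ((yon S).map ks) :=
    isRelNormalization_of_scheme i ks νs (Iso.refl _) (Category.comp_id _) (Category.id_comp _)
  obtain ⟨d, -, hd⟩ := exists_iso_of_isRelNormalization (IsAlgSpace.yon_obj N)
    (IsAlgSpace.yon_obj Ns) hn₀ hn₁
  have hko : IsOpenImmersion k.left := by
    have e₁ : ks ≫ ((yon S).preimageIso d).hom = k := (yon S).map_injective (by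
      rw [Functor.map_comp, Functor.preimageIso_hom, Functor.map_preimage, hd])
    rw [← e₁, Over.comp_left]
    have : IsOpenImmersion ks.left :=
      (inferInstance : IsOpenImmersion i.left.toNormalization)
    have : IsIso ((yon S).preimageIso d).hom.left :=
      inferInstanceAs (IsIso ((Over.forget S).map ((yon S).preimageIso d).hom))
    infer_instance
  have hkq : QuasiCompact k.left := by
    have := h.integral
    have : QuasiCompact (k.left ≫ ν₀.left) := by
      rw [← Over.comp_left, hkν]; infer_instance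
    exact QuasiCompact.of_comp k.left ν₀.left
  -- descent to `X'`
  have sqF : IsPullback qP f₀ f' q :=
    IsPullback.of_bot (by rw [h.fac, hn.1]; exact sqP) hf₀.symm sqN
  have hνs : IsSeparatedMor ν := by
    have hν' := (AlgSp2.isIntegralMor_iff hX' hX).1 hn.2.1
    exact (AlgSp2.repWith_isSeparated_iff hν'.rep).2
      (repWith_mono (Q := @IsSeparated) (fun _ _ j (_ : IsIntegralHom j) => inferInstance) hν')
  have hrep' : Representable f' := by
    refine (repWith_of_comp_of_diagonal (b := ν) @IsSeparated ?_ ?_).rep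
    · rw [hn.1]; exact hs
    · exact repWith_mono (Q := @IsSeparated)
        (fun _ _ j (_ : IsClosedImmersion j) => inferInstance) hνs
  have := isLocallySurjective_of_etale q (repWith_of_isPullback sqN.flip hp)
    (repWith_of_isPullback sqN.flip hps)
  have hf₀' : f₀ = e.inv ≫ (yon S).map k := by rw [hk, Iso.inv_hom_id_assoc]
  have ho : RepWith @IsOpenImmersion f' :=
    repWith_of_isLocallySurjective f' hrep' q qP f₀ sqF (by
      rw [hf₀']
      exact repWith_comp (repWith_isIso _) ((repWith_yon_map_iff _ k).2 hko))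
  have hqc' : RepWith @QuasiCompact f' :=
    repWith_of_isLocallySurjective f' hrep' q qP f₀ sqF (by
      rw [hf₀']
      exact repWith_comp (repWith_isIso _) ((repWith_yon_map_iff _ k).2 hkq))
  refine ⟨ho, isQuasiCompactMor_of_repWith hY hX' hqc', fun Z hZ g => ?_⟩
  obtain ⟨V, v, fv, sqV, hV, -⟩ := hn.2.1 hZ g
  obtain ⟨T, t, ft, sqT⟩ := ho.rep fv
  have : IsOpenImmersion t.left := ho.property fv ft t sqT
  have : QuasiCompact t.left := hqc'.property fv ft t sqT
  have : IsAffine V.left := hV
  have : CompactSpace T.left := QuasiCompact.compactSpace_of_compactSpace t.left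
  refine ⟨T, t ≫ v, ft, ?_, Scheme.IsQuasiAffine.of_isImmersion t.left⟩
  rw [Functor.map_comp, ← hn.1]
  exact sqT.paste_vert sqV

end

end Groth.AlgSp3
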