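import Groth.Agent.AlgSpBasic.AffineMor
import Groth.Agent.AlgSpBasic.QuasiAffineDescent
import Groth.Agent.SpectralTopology.QuasiAffineDescent
import Groth.Prelude.Def_AlgSp2

/-!
# Quasi-affine morphisms of algebraic spaces are local on the target
-/

set_option autoImplicit false
set_option backward.isDefEq.respectTransparency.types false
universe u

open CategoryTheory CategoryTheory.Limits AlgebraicGeometry Opposite AlgSp

namespace Groth.AlgSp3

open Groth.AlgSpBasic

variable {S : Scheme.{u}} {X Y P : Sp S} {f : X ⟶ Y} {V : Over S} {p : (yon S).obj V ⟶ Y}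

/-- A morphism whose base change along an étale covering is quasi-affine is quasi-affine. -/
theorem isQuasiAffineMor_of_cover (hp : RepWith @Etale p) (hps : RepWith @Surjective p)
    {fst : P ⟶ X} {snd : P ⟶ (yon S).obj V} (sq : IsPullback fst snd f p)
    (h : IsQuasiAffineMor snd) : IsQuasiAffineMor f := by
  intro Z hZ g
  obtain ⟨M, m, q, hM⟩ := hp.rep g
  have : Etale m.left := hp.property g q m hM
  have : Surjective m.left := hps.property g q m hM
  obtain ⟨T', k₀, hT', hk₀, hk₀s⟩ := exists_affine_refinement m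
  let k : T' ⟶ Z := k₀ ≫ m
  have : Etale k.left := inferInstanceAs (Etale (k₀.left ≫ m.left))
  have : Surjective k.left := hk₀s
  obtain ⟨W', w, fst', sq', hW'⟩ := h hT' ((yon S).map k₀ ≫ q)
  have e : ((yon S).map k₀ ≫ q) ≫ p = (yon S).map k ≫ g := by
    rw [Category.assoc, hM.w, ← Category.assoc, ← Functor.map_comp]
  have sq'' : IsPullback (fst' ≫ fst) ((yon S).map w) f ((yon S).map k ≫ g) := by
    rw [← e]
    exact sq'.paste_horiz sq
  obtain ⟨G, p₁, p₂, sqG⟩ : ∃ (G : Sp S) (p₁ : G ⟶ X) (p₂ : G ⟶ (yon S).obj Z),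
      IsPullback p₁ p₂ f g := ⟨_, _, _, IsPullback.of_hasPullback f g⟩
  let l := sqG.lift (fst' ≫ fst) ((yon S).map w ≫ (yon S).map k)
    (by rw [Category.assoc]; exact sq''.w)
  have hl : IsPullback l ((yon S).map w) p₂ ((yon S).map k) :=
    IsPullback.of_right (by rw [sqG.lift_fst]; exact sq'') (sqG.lift_snd _ _ _) sqG
  have : QuasiCompact w.left := quasiCompact_of_compactSpace _
  have hw : MoreMor.IsQuasiAffineHom w.left :=
    Groth.SpectralTopology.isQuasiAffineHom_of_forall_point w.left fun y =>
      ⟨⊤, trivial, Scheme.IsQuasiAffine.of_isAffineHom W'.left.topIso.hom⟩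
  have : QuasiCompact k.left := quasiCompact_of_compactSpace _
  obtain ⟨U, π, e₁, he₁⟩ := exists_iso_of_isQuasiAffineHom hl hw
  refine ⟨U, π, e₁.hom ≫ p₁, ?_, ?_⟩
  · exact sqG.of_iso e₁.symm (Iso.refl _) (Iso.refl _) (Iso.refl _) (by simp) (by simp [← he₁])
      (by simp) (by simp)
  · obtain ⟨l', hl'⟩ := (yon S).map_surjective (l ≫ e₁.inv)
    have h2 : IsPullback ((yon S).map l') ((yon S).map w) ((yon S).map π) ((yon S).map k) := by
      rw [hl']
      exact hl.of_iso (Iso.refl _) e₁.symm (Iso.refl _) (Iso.refl _) (by simp) (by simp)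
        (by simp [← he₁]) (by simp)
    have h3 : IsPullback w.left l'.left k.left π.left := (isPullback_left (isPullback_of_yon h2)).flip
    have : (pullback k.left π.left).IsQuasiAffine :=
      Scheme.IsQuasiAffine.of_isAffineHom h3.isoPullback.inv
    exact Groth.SpectralTopology.isQuasiAffine_of_baseChange k.left π.left
      ⟨⟨inferInstance, inferInstance⟩, inferInstance⟩

/-- Quasi-affine morphisms are representable. -/
theorem representable_of_isQuasiAffineMor (h : IsQuasiAffineMor f) : Representable f := by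
  refine (repWith_of_local (Q := ⊤) fun T g t => ?_).rep
  obtain ⟨i, y, hy⟩ := T.left.affineCover.exists_eq t
  let c : Over.mk (T.left.affineCover.f i ≫ T.hom) ⟶ T := Over.homMk (T.left.affineCover.f i)
  obtain ⟨W, w, fst, sq, -⟩ :=
    h (Z := Over.mk (T.left.affineCover.f i ≫ T.hom))
      (inferInstanceAs (IsAffine (T.left.affineCover.X i))) ((yon S).map c ≫ g)
  exact ⟨_, c, W, w, fst, inferInstanceAs (IsOpenImmersion (T.left.affineCover.f i)), ⟨y, hy⟩,
    sq, trivial⟩

end Groth.AlgSp3
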