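import Groth.Agent.AlgSp3.ValCore

/-!
# For representable morphisms a lift after extension gives a lift
-/

set_option autoImplicit false
set_option backward.isDefEq.respectTransparency.types false
universe u

open CategoryTheory CategoryTheory.Limits AlgebraicGeometry Opposite AlgSp

namespace Groth.AlgSp3

open Groth.AlgSpBasic

noncomputable section

/-- Elements of the fraction field which lie in a dominating valuation ring lie in the valuation
ring. -/
theorem exists_eq_of_dominating {A K A' K' : Type u} [CommRing A] [IsDomain A] [ValuationRing A]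
    [Field K] [Algebra A K] [IsFractionRing A K] [CommRing A'] [Field K'] [Algebra A' K']
    [IsFractionRing A' K'] (φ : A →+* A') [IsLocalHom φ] (ψ : K →+* K')
    (h : (algebraMap A' K').comp φ = ψ.comp (algebraMap A K)) (k : K) (a' : A')
    (hk : ψ k = algebraMap A' K' a') : ∃ a : A, algebraMap A K a = k := by
  rcases (ValuationRing.iff_isInteger_or_isInteger A K).1 inferInstance k with h' | ⟨m, hm⟩
  · exact h'
  by_cases hk0 : k = 0
  · exact ⟨0, by rw [hk0, map_zero]⟩
  have h1 : φ m * a' = 1 := IsFractionRing.injective A' K' (by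
    rw [map_mul, ← hk, map_one, ← RingHom.comp_apply, h, RingHom.comp_apply, hm, ← map_mul,
      inv_mul_cancel₀ hk0, map_one])
  obtain ⟨m, rfl⟩ := IsUnit.of_map φ m (IsUnit.of_mul_eq_one _ h1)
  refine ⟨(↑m⁻¹ : A), ?_⟩
  have e : algebraMap A K ↑m⁻¹ * algebraMap A K ↑m = 1 := by
    rw [← map_mul, Units.inv_mul, map_one]
  rw [hm] at e
  exact (mul_inv_eq_one₀ hk0).1 e

variable {S : Scheme.{u}} {X Y : Sp S} {f : X ⟶ Y}

/-- For a representable morphism a square with a lift after extension has a lift. -/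
theorem hasLift_of_hasLiftExt_of_representable (hf : Representable f) (sq : ValSq f)
    (e : sq.DomExt) (he : e.HasLift) : sq.HasLift := by
  obtain ⟨l, hl₁, hl₂⟩ := he
  obtain ⟨V, snd, fst, sqV⟩ := hf sq.bot
  let pA : e.ptA' ⟶ sq.ptA := Over.homMk (Spec.map (CommRingCat.ofHom e.φ)) rfl
  let pK : e.ptK' ⟶ sq.ptK := Over.homMk (Spec.map (CommRingCat.ofHom e.ψ)) (by
    change Spec.map _ ≫ Spec.map _ ≫ _ = Spec.map _ ≫ Spec.map _ ≫ _
    rw [← Spec.map_comp_assoc, ← Spec.map_comp_assoc, ← CommRingCat.ofHom_comp,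
      ← CommRingCat.ofHom_comp, e.comm])
  let jj : e.ptK' ⟶ e.ptA' :=
    Over.homMk (Spec.map (CommRingCat.ofHom (algebraMap e.A' e.K'))) rfl
  have ej : jj ≫ pA = pK ≫ sq.j := Over.OverMorphism.ext (by
    show Spec.map _ ≫ Spec.map _ = Spec.map _ ≫ Spec.map _
    rw [← Spec.map_comp, ← Spec.map_comp, ← CommRingCat.ofHom_comp, ← CommRingCat.ofHom_comp,
      e.comm])
  obtain ⟨x, hx⟩ := (yon S).map_surjective (sqV.lift sq.top ((yon S).map sq.j) sq.comm)
  obtain ⟨l', hl'⟩ := (yon S).map_surjective (sqV.lift l ((yon S).map pA) hl₂)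
  have hx₁ : (yon S).map x ≫ fst = sq.top := by rw [hx, sqV.lift_fst]
  have hx₂ : x ≫ snd = sq.j :=
    (yon S).map_injective (by rw [Functor.map_comp, hx, sqV.lift_snd])
  have hl'₁ : (yon S).map l' ≫ fst = l := by rw [hl', sqV.lift_fst]
  have hl'₂ : l' ≫ snd = pA :=
    (yon S).map_injective (by rw [Functor.map_comp, hl', sqV.lift_snd])
  have hjl : jj ≫ l' = pK ≫ x := (yon S).map_injective (by
    apply sqV.hom_ext
    · rw [Functor.map_comp, Functor.map_comp, Category.assoc, hl'₁, Category.assoc, hx₁]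
      exact hl₁
    · rw [← Functor.map_comp, ← Functor.map_comp, Category.assoc, hl'₂, Category.assoc, hx₂, ej])
  -- an affine open around the image of the closed point
  let c₀ : e.ptA'.left := IsLocalRing.closedPoint e.A'
  obtain ⟨O, hO, hcO, -⟩ :=
    exists_isAffineOpen_mem_and_subset (X := V.left) (x := l'.left c₀) (U := ⊤) trivial
  have hl'O : Set.range l'.left ⊆ Set.range O.ι := by
    rintro _ ⟨y, rfl⟩
    rw [Scheme.Opens.range_ι]
    exact ((IsLocalRing.specializes_closedPoint
      (y : ↥(Spec (CommRingCat.of e.A')))).map l'.left.continuous).mem_open O.isOpen hcO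
  have hxO : Set.range x.left ⊆ Set.range O.ι := by
    rintro _ ⟨y, rfl⟩
    let z : e.ptK'.left := IsLocalRing.closedPoint e.K'
    have hy : y = pK.left z := Subsingleton.elim (α := PrimeSpectrum sq.K) _ _
    rw [hy, ← Scheme.Hom.comp_apply, ← Over.comp_left, ← hjl, Over.comp_left,
      Scheme.Hom.comp_apply]
    exact hl'O ⟨_, rfl⟩
  let eO := hO.isoSpec
  let a := Spec.preimage (IsOpenImmersion.lift O.ι l'.left hl'O ≫ eO.hom)
  let b := Spec.preimage (IsOpenImmersion.lift O.ι x.left hxO ≫ eO.hom)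
  have hab : (algebraMap e.A' e.K').comp a.hom = e.ψ.comp b.hom := by
    have : Spec.map (a ≫ CommRingCat.ofHom (algebraMap e.A' e.K')) =
        Spec.map (b ≫ CommRingCat.ofHom e.ψ) := by
      rw [Spec.map_comp, Spec.map_comp, Spec.map_preimage, Spec.map_preimage,
        ← cancel_mono (eO.inv ≫ O.ι)]
      simp only [Category.assoc, Iso.hom_inv_id_assoc, IsOpenImmersion.lift_fac]
      exact congrArg CommaMorphism.left hjl
    exact congrArg CommRingCat.Hom.hom (Spec.map_injective this)
  have : IsLocalHom e.φ := e.isLocalHom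
  have hb : ∀ r, ∃ a₀ : sq.A, algebraMap sq.A sq.K a₀ = b.hom r := fun r =>
    exists_eq_of_dominating e.φ e.ψ e.comm (b.hom r) (a.hom r) (RingHom.congr_fun hab r).symm
  choose β hβ using hb
  have hinj : Function.Injective (algebraMap sq.A sq.K) := IsFractionRing.injective sq.A sq.K
  let βh : Γ(V.left, O) →+* sq.A :=
    { toFun := β
      map_one' := hinj (by rw [hβ, map_one, map_one])
      map_mul' := fun r r' => hinj (by rw [hβ, map_mul, map_mul, hβ, hβ])
      map_zero' := hinj (by rw [hβ, map_zero, map_zero])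
      map_add' := fun r r' => hinj (by rw [hβ, map_add, map_add, hβ, hβ]) }
  let g : Spec (CommRingCat.of sq.A) ⟶ V.left := Spec.map (CommRingCat.ofHom βh) ≫ eO.inv ≫ O.ι
  have hjg : Spec.map (CommRingCat.ofHom (algebraMap sq.A sq.K)) ≫ g = x.left := by
    have e₁ : CommRingCat.ofHom βh ≫ CommRingCat.ofHom (algebraMap sq.A sq.K) = b :=
      CommRingCat.hom_ext (RingHom.ext hβ)
    show _ ≫ Spec.map _ ≫ eO.inv ≫ O.ι = _
    rw [← Spec.map_comp_assoc, e₁, Spec.map_preimage, Category.assoc, Iso.hom_inv_id_assoc,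
      IsOpenImmersion.lift_fac]
  have hgs : g ≫ snd.left = 𝟙 _ := by
    have h : Spec.map (CommRingCat.ofHom (algebraMap sq.A sq.K)) ≫ g ≫ snd.left =
        Spec.map (CommRingCat.ofHom (algebraMap sq.A sq.K)) := by
      rw [reassoc_of% hjg]
      exact congrArg CommaMorphism.left hx₂
    rw [← Spec.map_preimage (g ≫ snd.left)] at h ⊢
    rw [← Spec.map_comp] at h
    have h' := congrArg CommRingCat.Hom.hom (Spec.map_injective h)
    refine (congrArg Spec.map ?_).trans (Spec.map_id _)
    exact CommRingCat.hom_ext (RingHom.ext fun z => hinj (RingHom.congr_fun h' z))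
  let gO : sq.ptA ⟶ V := Over.homMk g (by
    show g ≫ V.hom = sq.str
    rw [← Over.w snd, ← Category.assoc]
    exact (congrArg (· ≫ sq.str) hgs).trans (Category.id_comp _))
  refine ⟨(yon S).map gO ≫ fst, ?_, ?_⟩
  · rw [← Category.assoc, ← Functor.map_comp, show sq.j ≫ gO = x from Over.OverMorphism.ext hjg]
    exact hx₁
  · rw [Category.assoc, sqV.w, ← Category.assoc, ← Functor.map_comp,
      show gO ≫ snd = 𝟙 _ from Over.OverMorphism.ext hgs, CategoryTheory.Functor.map_id,
      Category.id_comp]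

end

end Groth.AlgSp3
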