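import Groth.Agent.AlgSp3.ValCore
import Groth.Agent.AlgSpBasic.ClosedQC
import Groth.Agent.AlgSpBasic.UnivTest
import Groth.Agent.AlgSpBasic.Compact
import Groth.Agent.AlgSpBasic.DiagBaseChange
import Groth.Agent.AlgSpBasic.LocP
import Groth.Agent.AlgSp2.ThickProps

/-!
# The valuative criteria for algebraic spaces
-/

set_option autoImplicit false
set_option backward.isDefEq.respectTransparency.types false
universe u

open CategoryTheory CategoryTheory.Limits AlgebraicGeometry Opposite AlgSp

namespace Groth.AlgSp3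

open Groth.AlgSpBasic

noncomputable section

theorem isClosed_image_of_stable {W Z : Scheme.{u}} [IsAffine W] [IsAffine Z] (α : W ⟶ Z)
    {C : Set W} (hC : IsClosed C) (h : StableUnderSpecialization (α '' C)) :
    IsClosed (α '' C) := by
  let eW : W ≃ₜ Spec Γ(W, ⊤) := Scheme.homeoOfIso W.isoSpec
  let eZ : Z ≃ₜ Spec Γ(Z, ⊤) := Scheme.homeoOfIso Z.isoSpec
  have hnat : ∀ w : W, eZ (α w) = PrimeSpectrum.comap α.appTop.hom (eW w) := fun w => by
    show Z.isoSpec.hom (α w) = Spec.map α.appTop (W.isoSpec.hom w)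
    rw [← Scheme.Hom.comp_apply, ← Scheme.Hom.comp_apply, Scheme.isoSpec_hom_naturality]
  let C' : Set (PrimeSpectrum Γ(W, ⊤)) := eW '' C
  have hC' : IsClosed C' := eW.isClosedMap C hC
  have e : (PrimeSpectrum.comap α.appTop.hom '' C') = eZ '' (α '' C) := by
    rw [Set.image_image, Set.image_image]
    exact Set.image_congr fun w _ => (hnat w).symm
  have hst : StableUnderSpecialization (PrimeSpectrum.comap α.appTop.hom '' C') := by
    rw [e]
    intro x y hxy hx
    obtain ⟨x', hx', rfl⟩ := hx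
    have hy : x' ⤳ eZ.symm y := by
      have := hxy.map eZ.symm.continuous
      rwa [eZ.symm_apply_apply] at this
    exact ⟨eZ.symm y, h hy hx', eZ.apply_symm_apply y⟩
  have := PrimeSpectrum.isClosed_image_of_stableUnderSpecialization α.appTop.hom C' hC' hst
  rw [e] at this
  exact eZ.isClosed_image.1 this

variable {S : Scheme.{u}} {X Y : Sp S} {f : X ⟶ Y}

/-- A quasi-compact morphism with the existence part of the valuative criterion is universally closed. -/
theorem isUnivClosedMor_of_existVC (hX : IsAlgSpace X) (hY : IsAlgSpace Y)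
    (hq : IsQuasiCompactMor f) (he : ExistVC f) : IsUnivClosedMor f := by
  refine isUnivClosedMor_of_affine fun Z hZ g P fst snd sq => ?_
  have hP := isAlgSpace_of_isPullback sq hY.diag hX (IsAlgSpace.yon_obj Z)
  have : IsAffine Z.left := hZ
  have hPc : IsQuasiCompactSp P := hq (IsAlgSpace.yon_obj Z)
    ((isQuasiCompactSp_yon_iff _).2 (inferInstance : CompactSpace Z.left)) g fst snd sq
  obtain ⟨W, w, hW, hwe, hws⟩ := exists_affine_chart hP hPc
  obtain ⟨α, hα⟩ := (yon S).map_surjective (w ≫ snd)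
  have hvc := existVC_of_isPullback sq he
  intro T hT
  have himg : Points.map snd '' T =
      Points.schemeHomeo Z '' (α.left '' (Points.ofPt w ⁻¹' T)) := by
    have key : ∀ u : W.left,
        Points.map snd (Points.ofPt w u) = Points.schemeHomeo Z (α.left u) := fun u => by
      rw [Points.map_ofPt, ← hα, ofPt_eq_map]
      exact Points.map_yon_map_apply α u
    ext z
    constructor
    · rintro ⟨x, hx, rfl⟩
      obtain ⟨u, rfl⟩ := surjective_ofPt_of_repWith hws x
      exact ⟨α.left u, ⟨u, hx, rfl⟩, (key u).symm⟩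
    · rintro ⟨_, ⟨u, hu, rfl⟩, rfl⟩
      exact ⟨_, hu, key u⟩
  rw [himg]
  refine (Points.schemeHomeo Z).isClosedMap _
    (isClosed_image_of_stable α.left (hT.preimage (Points.continuous_ofPt w)) ?_)
  rintro _ z' hz ⟨u, hu, rfl⟩
  obtain ⟨A, g₀, hg₀, hg₀c⟩ := exists_valuation_center α.left hz
  let η := Spec.map (CommRingCat.ofHom (algebraMap A (W.left.residueField u)))
  let str : Spec (CommRingCat.of A) ⟶ S := g₀ ≫ Z.hom
  let xO : Over.mk (η ≫ str) ⟶ W := Over.homMk (W.left.fromSpecResidueField u) (by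
    show W.left.fromSpecResidueField u ≫ W.hom = η ≫ g₀ ≫ Z.hom
    rw [← Over.w α, ← Category.assoc, hg₀, Category.assoc])
  let gO : Over.mk str ⟶ Z := Over.homMk g₀ rfl
  let v : ValSq snd :=
    { A := A
      K := W.left.residueField u
      str := str
      top := (yon S).map xO ≫ w
      bot := (yon S).map gO
      comm := by
        rw [Category.assoc, ← hα, ← Functor.map_comp, ← Functor.map_comp]
        congr 1
        exact Over.OverMorphism.ext hg₀ }
  obtain ⟨e, l, hl, hl'⟩ := hvc v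
  let jj : e.ptK' ⟶ e.ptA' :=
    Over.homMk (Spec.map (CommRingCat.ofHom (algebraMap e.A' e.K'))) rfl
  let z₀ : e.ptK'.left := IsLocalRing.closedPoint e.K'
  let c : e.ptA'.left := IsLocalRing.closedPoint e.A'
  have hgen : Points.ofPt l (jj.left z₀) ∈ T := by
    rw [← ofPt_comp_yon jj l z₀, hl, ofPt_comp_yon]
    show Points.ofPt ((yon S).map xO ≫ w) _ ∈ T
    rw [ofPt_comp_yon]
    show Points.ofPt w (W.left.fromSpecResidueField u _) ∈ T
    rw [Scheme.fromSpecResidueField_apply]
    exact hu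
  have hc : Points.ofPt l c ∈ T :=
    ((specializes_of_fraction (A := e.A') (K := e.K') z₀ c).map
      (Points.continuous_ofPt l)).mem_closed hT hgen
  obtain ⟨q, hq'⟩ := surjective_ofPt_of_repWith hws (Points.ofPt l c)
  refine ⟨q, show Points.ofPt w q ∈ T by rw [hq']; exact hc, (Points.schemeHomeo Z).injective ?_⟩
  refine (Points.map_yon_map_apply α q).symm.trans ?_
  rw [hα, Points.map_comp]
  refine (congrArg (Points.map snd) (ofPt_eq_map w q).symm).trans ?_
  rw [hq', Points.map_ofPt, hl', ofPt_comp_yon, ofPt_eq_map]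
  refine (Points.map_yon_map_apply gO _).trans (congrArg (Points.schemeHomeo Z) ?_)
  show g₀ (Spec.map (CommRingCat.ofHom e.φ) c) = z'
  rw [show Spec.map (CommRingCat.ofHom e.φ) c = IsLocalRing.closedPoint v.A from
    (IsLocalRing.isLocalHom_iff_comap_closedPoint e.φ).1 e.isLocalHom, ← hg₀c]

/-- A quasi-separated universally closed morphism satisfies the existence part. -/
theorem existVC_of_isUnivClosedMor (hX : IsAlgSpace X) (hY : IsAlgSpace Y)
    (hqs : IsQuasiSeparatedMor f) (hc : IsUnivClosedMor f) : ExistVC f := by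
  intro sq
  have sqP := IsPullback.of_hasPullback f sq.bot
  let π := pullback.snd f sq.bot
  have hP := isAlgSpace_of_isPullback sqP hY.diag hX (IsAlgSpace.yon_obj sq.ptA)
  have hπc : IsUnivClosedMor π := isUnivClosedMor_of_isPullback sqP hc
  have hπs : IsQuasiSeparatedMor π := repWith_of_isPullback (isPullback_diagonal_baseChange sqP) hqs
  have hπq := isQuasiCompactMor_of_univClosed hP (IsAlgSpace.yon_obj sq.ptA) hπc
  have : IsAffine sq.ptA.left := inferInstanceAs (IsAffine (Spec (CommRingCat.of sq.A)))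
  have hPc : IsQuasiCompactSp (pullback f sq.bot) := hπq (IsAlgSpace.yon_obj sq.ptA)
    ((isQuasiCompactSp_yon_iff _).2 (inferInstance : CompactSpace sq.ptA.left)) (𝟙 _) (𝟙 _) π
    IsPullback.of_id_fst
  obtain ⟨W, w, hW, hwe, hws⟩ := exists_affine_chart hP hPc
  obtain ⟨α, hα⟩ := (yon S).map_surjective (w ≫ π)
  obtain ⟨x, hx₁, hx₂⟩ : ∃ x : (yon S).obj sq.ptK ⟶ pullback f sq.bot,
      x ≫ pullback.fst f sq.bot = sq.top ∧ x ≫ π = (yon S).map sq.j :=
    ⟨_, sqP.lift_fst _ _ sq.comm, sqP.lift_snd _ _ sq.comm⟩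
  obtain ⟨F, fw, fk, sqF⟩ := exists_pullback_of_diag hP.diag w x
  have hwq : RepWith @QuasiCompact w := by
    refine repWith_of_comp_of_diagonal @QuasiCompact (b := π) ?_ hπs
    rw [← hα, repWith_yon_map_iff]
    infer_instance
  have hfk : Etale fk.left := (repWith_yon_map_iff _ fk).1 (repWith_of_isPullback sqF hwe)
  have hfkq : QuasiCompact fk.left := (repWith_yon_map_iff _ fk).1 (repWith_of_isPullback sqF hwq)
  let k₀ : sq.ptK.left := IsLocalRing.closedPoint sq.K
  have hk₀ : ∀ y : sq.ptK.left, y = k₀ := fun y =>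
    Subsingleton.elim (α := PrimeSpectrum sq.K) y k₀
  have : Finite F.left := by
    have := Groth.AlgSpBasic.locallyQuasiFinite_of_formallyUnramified fk.left
    have h := fk.left.finite_preimage_singleton k₀
    rw [show fk.left ⁻¹' {k₀} = Set.univ from Set.eq_univ_of_forall fun y => hk₀ _] at h
    exact Set.finite_univ_iff.1 h
  -- a point over the closed point in the closure of the generic point
  let ξ := Points.ofPt x k₀
  let cA : sq.ptA.left := IsLocalRing.closedPoint sq.A
  have hπcl : IsClosed (Points.map π '' closure {ξ}) :=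
    hπc (IsAlgSpace.yon_obj sq.ptA) (𝟙 _) (𝟙 _) π IsPullback.of_id_fst _ isClosed_closure
  have hcl : Points.schemeHomeo sq.ptA cA ∈ Points.map π '' closure {ξ} := by
    refine Specializes.mem_closed (x := Points.schemeHomeo sq.ptA (sq.j.left k₀)) ?_ hπcl
      ⟨ξ, subset_closure rfl, ?_⟩
    · exact (specializes_of_fraction (A := sq.A) (K := sq.K) k₀ cA).map
        (Points.schemeHomeo sq.ptA).continuous
    · rw [Points.map_ofPt, hx₂, ofPt_eq_map]
      exact Points.map_yon_map_apply sq.j k₀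
  obtain ⟨p, hp, hpc⟩ := hcl
  obtain ⟨q, rfl⟩ := surjective_ofPt_of_repWith hws p
  have hqc : α.left q = cA := (Points.schemeHomeo sq.ptA).injective (by
    refine (Points.map_yon_map_apply α q).symm.trans ?_
    rw [hα, Points.map_comp]
    exact (congrArg (Points.map π) (ofPt_eq_map w q).symm).trans hpc)
  have hmem : q ∈ closure (Points.ofPt w ⁻¹' {ξ}) := by
    rw [← (isOpenMap_ofPt_of_etale hwe).preimage_closure_eq_closure_preimage
      (Points.continuous_ofPt w)]
    exact hp
  have hpre : Points.ofPt w ⁻¹' {ξ} = Set.range fw.left := by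
    ext u
    rw [Set.mem_preimage, Set.mem_singleton_iff, ofPt_eq_ofPt_iff sqF]
    exact ⟨fun ⟨y, hy, _⟩ => ⟨y, hy⟩, fun ⟨y, hy⟩ => ⟨y, hy, hk₀ _⟩⟩
  rw [hpre, ← Set.iUnion_singleton_eq_range, closure_iUnion_of_finite] at hmem
  obtain ⟨y, hy⟩ := Set.mem_iUnion.1 hmem
  obtain ⟨e, he, -⟩ := exists_lift_of_specializes sq (w := w ≫ pullback.fst f sq.bot) (α := α)
    (by rw [Category.assoc, sqP.w, ← Category.assoc, hα]) (fw := fw) (fk := fk)
    (by rw [← Category.assoc, sqF.w, Category.assoc, hx₁])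
    ((yon S).map_injective (by
      rw [Functor.map_comp, Functor.map_comp, hα, ← Category.assoc, sqF.w, Category.assoc, hx₂]))
    (specializes_iff_mem_closure.2 hy) hqc
  exact ⟨e, he⟩

/-- One may always use a finite separable extension. -/
theorem exists_finite_separable_lift (hX : IsAlgSpace X) (hY : IsAlgSpace Y) (he : ExistVC f)
    (sq : ValSq f) :
    ∃ e : sq.DomExt, (letI := e.ψ.toAlgebra;
      Module.Finite sq.K e.K' ∧ Algebra.IsSeparable sq.K e.K') ∧ e.HasLift := by
  obtain ⟨e₀, l, hl₁, hl₂⟩ := he sq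
  have sqP := IsPullback.of_hasPullback f sq.bot
  let π := pullback.snd f sq.bot
  have hP := isAlgSpace_of_isPullback sqP hY.diag hX (IsAlgSpace.yon_obj sq.ptA)
  obtain ⟨x, hx₁, hx₂⟩ : ∃ x : (yon S).obj sq.ptK ⟶ pullback f sq.bot,
      x ≫ pullback.fst f sq.bot = sq.top ∧ x ≫ π = (yon S).map sq.j :=
    ⟨_, sqP.lift_fst _ _ sq.comm, sqP.lift_snd _ _ sq.comm⟩
  let pA : e₀.ptA' ⟶ sq.ptA := Over.homMk (Spec.map (CommRingCat.ofHom e₀.φ)) rfl
  let pK : e₀.ptK' ⟶ sq.ptK := Over.homMk (Spec.map (CommRingCat.ofHom e₀.ψ)) (by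
    change Spec.map _ ≫ Spec.map _ ≫ _ = Spec.map _ ≫ Spec.map _ ≫ _
    rw [← Spec.map_comp_assoc, ← Spec.map_comp_assoc, ← CommRingCat.ofHom_comp,
      ← CommRingCat.ofHom_comp, e₀.comm])
  let jj : e₀.ptK' ⟶ e₀.ptA' :=
    Over.homMk (Spec.map (CommRingCat.ofHom (algebraMap e₀.A' e₀.K'))) rfl
  have ej : jj ≫ pA = pK ≫ sq.j := Over.OverMorphism.ext (by
    show Spec.map _ ≫ Spec.map _ = Spec.map _ ≫ Spec.map _
    rw [← Spec.map_comp, ← Spec.map_comp, ← CommRingCat.ofHom_comp, ← CommRingCat.ofHom_comp,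
      e₀.comm])
  have hl₁' : (yon S).map jj ≫ l = (yon S).map pK ≫ sq.top := hl₁
  obtain ⟨l', hl'₁, hl'₂⟩ : ∃ l' : (yon S).obj e₀.ptA' ⟶ pullback f sq.bot,
      l' ≫ pullback.fst f sq.bot = l ∧ l' ≫ π = (yon S).map pA :=
    ⟨_, sqP.lift_fst _ _ hl₂, sqP.lift_snd _ _ hl₂⟩
  have hjl : (yon S).map jj ≫ l' = (yon S).map pK ≫ x := by
    apply sqP.hom_ext
    · rw [Category.assoc, hl'₁, hl₁', Category.assoc, hx₁]
    · rw [Category.assoc, hl'₂, ← Functor.map_comp, ej, Category.assoc, hx₂, Functor.map_comp]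
  obtain ⟨W, w, hwe, hws⟩ := hP.atlas
  obtain ⟨α, hα⟩ := (yon S).map_surjective (w ≫ π)
  obtain ⟨F, fw, fk, sqF⟩ := exists_pullback_of_diag hP.diag w x
  have hfk : Etale fk.left := (repWith_yon_map_iff _ fk).1 (repWith_of_isPullback sqF hwe)
  obtain ⟨M, mw, ml, sqM⟩ := exists_pullback_of_diag hP.diag w l'
  have hml : Etale ml.left := (repWith_yon_map_iff _ ml).1 (repWith_of_isPullback sqM hwe)
  let c : e₀.ptA'.left := IsLocalRing.closedPoint e₀.A'
  let z₀ : e₀.ptK'.left := IsLocalRing.closedPoint e₀.K'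
  obtain ⟨q, hq⟩ := surjective_ofPt_of_repWith hws (Points.ofPt l' c)
  obtain ⟨μ, hμq, hμc⟩ := (ofPt_eq_ofPt_iff sqM q c).1 hq
  obtain ⟨μ', hμ', hμz⟩ := Flat.generalizingMap ml.left
    (show jj.left z₀ ⤳ ml.left μ by
      rw [hμc]; exact specializes_of_fraction (A := e₀.A') (K := e₀.K') z₀ c)
  have hgen : Points.ofPt w (mw.left μ') = Points.ofPt x (pK.left z₀) := by
    rw [← ofPt_comp_yon mw w μ', sqM.w, ofPt_comp_yon, hμz, ← ofPt_comp_yon jj l' z₀, hjl,
      ofPt_comp_yon]
  obtain ⟨y, hy, -⟩ := (ofPt_eq_ofPt_iff sqF _ _).1 hgen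
  obtain ⟨e, he, hfin⟩ := exists_lift_of_specializes sq (w := w ≫ pullback.fst f sq.bot) (α := α)
    (by rw [Category.assoc, sqP.w, ← Category.assoc, hα]) (fw := fw) (fk := fk)
    (by rw [← Category.assoc, sqF.w, Category.assoc, hx₁])
    ((yon S).map_injective (by
      rw [Functor.map_comp, Functor.map_comp, hα, ← Category.assoc, sqF.w, Category.assoc, hx₂]))
    (show fw.left y ⤳ q by rw [hy, ← hμq]; exact hμ'.map mw.left.continuous)
    (by
      have e₁ : mw ≫ α = ml ≫ pA := (yon S).map_injective (by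
        rw [Functor.map_comp, Functor.map_comp, hα, ← Category.assoc, sqM.w, Category.assoc, hl'₂])
      rw [← hμq, ← Scheme.Hom.comp_apply, ← Over.comp_left, e₁, Over.comp_left,
        Scheme.Hom.comp_apply, hμc]
      exact (IsLocalRing.isLocalHom_iff_comap_closedPoint e₀.φ).1 e₀.isLocalHom)
  exact ⟨e, hfin hfk, he⟩

/-- The diagonal of a morphism with the uniqueness part has the existence part. -/
theorem existVC_diagonal_of_uniqVC (hu : UniqVC f) : ExistVCStrict (pullback.diagonal f) := by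
  intro v
  have h₁ := v.comm =≫ pullback.fst f f
  have h₂ := v.comm =≫ pullback.snd f f
  rw [Category.assoc, Category.assoc, pullback.diagonal_fst, Category.comp_id] at h₁
  rw [Category.assoc, Category.assoc, pullback.diagonal_snd, Category.comp_id] at h₂
  let v' : ValSq f :=
    { A := v.A, K := v.K, str := v.str, top := v.top, bot := v.bot ≫ pullback.fst f f ≫ f
      comm := by rw [h₁, Category.assoc, Category.assoc] }
  have e : v.bot ≫ pullback.fst f f = v.bot ≫ pullback.snd f f :=
    hu v' _ _ h₁.symm (Category.assoc _ _ _) h₂.symm (by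
      show (v.bot ≫ pullback.snd f f) ≫ f = v.bot ≫ pullback.fst f f ≫ f
      rw [Category.assoc, pullback.condition])
  refine ⟨v.bot ≫ pullback.fst f f, h₁.symm, pullback.hom_ext ?_ ?_⟩
  · rw [Category.assoc, pullback.diagonal_fst, Category.comp_id]
  · rw [Category.assoc, pullback.diagonal_snd, Category.comp_id, e]

/-- A quasi-separated morphism with the uniqueness part is separated. -/
theorem isSeparatedMor_of_uniqVC (hX : IsAlgSpace X) (hY : IsAlgSpace Y)
    (hqs : IsQuasiSeparatedMor f) (hu : UniqVC f) : IsSeparatedMor f := by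
  have hXX := isAlgSpace_of_isPullback (IsPullback.of_hasPullback f f) hY.diag hX hX
  exact (AlgSp2.isSeparatedMor_iff_univClosed_diagonal hX f).2
    (isUnivClosedMor_of_existVC hX hXX (isQuasiCompactMor_of_repWith hX hXX hqs)
      (existVC_of_existVCStrict (existVC_diagonal_of_uniqVC hu)))

/-- Valuation rings lift along flat morphisms at points of the image, after extension. -/
theorem exists_lift_of_flat (hX : IsAlgSpace X) (hY : IsAlgSpace Y) (hf : LocP @Flat f)
    (A : Type u) [CommRing A] [IsDomain A] [ValuationRing A] (str : Spec (.of A) ⟶ S)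
    (b : (yon S).obj (Over.mk str) ⟶ Y)
    (hb : Points.ofPt b (IsLocalRing.closedPoint A) ∈ Set.range (Points.map f)) :
    ∃ (A' : Type u) (_ : CommRing A') (_ : IsDomain A') (_ : ValuationRing A') (φ : A →+* A'),
      Function.Injective φ ∧ IsLocalHom φ ∧
      ∃ l : (yon S).obj (Over.mk (Spec.map (CommRingCat.ofHom φ) ≫ str)) ⟶ X,
        l ≫ f = (yon S).map (Over.homMk (Spec.map (CommRingCat.ofHom φ)) rfl :
          Over.mk (Spec.map (CommRingCat.ofHom φ) ≫ str) ⟶ Over.mk str) ≫ b := by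
  obtain ⟨x, hx⟩ := hb
  obtain ⟨U, V, a, bV, h, ha, has, hbV, -, comm⟩ := exists_charts hX hY f
  obtain ⟨u, rfl⟩ := surjective_ofPt_of_repWith has x
  rw [Points.map_ofPt, comm, ofPt_comp_yon] at hx
  obtain ⟨M, mV, mA, sqM⟩ := exists_pullback_of_diag hY.diag bV b
  obtain ⟨μ, hμV, hμA⟩ := (ofPt_eq_ofPt_iff sqM _ _).1 hx
  obtain ⟨N, nU, nM, sqN⟩ : ∃ (N : Over S) (nU : N ⟶ U) (nM : N ⟶ M),
      IsPullback nU nM h mV := ⟨_, _, _, IsPullback.of_hasPullback _ _⟩
  have : Flat h.left := hf a bV h ha hbV comm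
  have : Flat nM.left := MorphismProperty.of_isPullback (isPullback_left sqN) this
  have : Etale mA.left := (repWith_yon_map_iff _ mA).1 (repWith_of_isPullback sqM hbV)
  obtain ⟨ν, -, hνM⟩ := Scheme.exists_preimage_of_isPullback (isPullback_left sqN) u μ
    hμV.symm
  let cmp : N.left ⟶ Spec (.of A) := nM.left ≫ mA.left
  have : Flat cmp := inferInstanceAs (Flat (nM.left ≫ mA.left))
  have hν : cmp ν = IsLocalRing.closedPoint A := by
    show mA.left (nM.left ν) = _
    rw [hνM, hμA]
  let K := FractionRing A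
  let z₀ : Spec (CommRingCat.of K) := IsLocalRing.closedPoint K
  obtain ⟨ν', hν', hν'z⟩ := Flat.generalizingMap cmp
    (show Spec.map (CommRingCat.ofHom (algebraMap A K)) z₀ ⤳ cmp ν from
      specializes_of_fraction z₀ _)
  obtain ⟨A', g, hg, hgc⟩ := exists_valuation_center (𝟙 N.left)
    (show (𝟙 N.left : N.left ⟶ N.left) ν' ⤳ ν from hν')
  let φ : A →+* A' := (Spec.preimage (g ≫ cmp)).hom
  have hφ : Spec.map (CommRingCat.ofHom φ) = g ≫ cmp := by
    rw [CommRingCat.ofHom_hom, Spec.map_preimage]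
  refine ⟨A', inferInstance, inferInstance, inferInstance, φ, ?_,
    isLocalHom_of_closedPoint φ (by rw [hφ, Scheme.Hom.comp_apply, hgc, hν]), ?_⟩
  · -- the generic point maps to the generic point
    let z : Spec (N.left.residueField ν') := IsLocalRing.closedPoint _
    have hz : Spec.map (CommRingCat.ofHom φ)
        (Spec.map (CommRingCat.ofHom (algebraMap A' (N.left.residueField ν'))) z) =
        Spec.map (CommRingCat.ofHom (algebraMap A K)) z₀ := by
      rw [hφ, ← Scheme.Hom.comp_apply, ← Category.assoc, ← hg, Category.comp_id,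
        Scheme.Hom.comp_apply, Scheme.fromSpecResidueField_apply, hν'z]
    have h0 := congrArg (fun p : PrimeSpectrum A => p.asIdeal) hz
    have e₁ : (z : PrimeSpectrum (N.left.residueField ν')).asIdeal = ⊥ :=
      (Ideal.eq_bot_or_top _).resolve_right (z : PrimeSpectrum _).2.ne_top
    have e₂ : (z₀ : PrimeSpectrum K).asIdeal = ⊥ :=
      (Ideal.eq_bot_or_top _).resolve_right (z₀ : PrimeSpectrum K).2.ne_top
    rw [RingHom.injective_iff_ker_eq_bot, eq_bot_iff]
    intro r hr
    have : r ∈ Ideal.comap φ (Ideal.comap (algebraMap A' (N.left.residueField ν'))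
        (z : PrimeSpectrum (N.left.residueField ν')).asIdeal) := by
      rw [Ideal.mem_comap, RingHom.mem_ker.1 hr]
      exact Submodule.zero_mem _
    have h1 : r ∈ Ideal.comap (algebraMap A K) (z₀ : PrimeSpectrum K).asIdeal := (SetLike.ext_iff.1 h0 r).1 this
    rw [e₂, Ideal.comap_bot_of_injective _ (IsFractionRing.injective A K)] at h1
    exact h1
  · let gO : Over.mk (Spec.map (CommRingCat.ofHom φ) ≫ str) ⟶ N := Over.homMk g (by
      show g ≫ N.hom = Spec.map (CommRingCat.ofHom φ) ≫ str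
      rw [hφ, ← Over.w (nM ≫ mA), Category.assoc]
      rfl)
    refine ⟨(yon S).map (gO ≫ nU) ≫ a, ?_⟩
    rw [Category.assoc, comm, ← Category.assoc, ← Functor.map_comp, Category.assoc, sqN.w,
      ← Category.assoc, Functor.map_comp, Category.assoc, sqM.w, ← Category.assoc,
      ← Functor.map_comp]
    congr 2
    exact Over.OverMorphism.ext (by rw [Over.comp_left, Over.comp_left, Category.assoc]; exact hφ.symm)

end

end Groth.AlgSp3
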