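import Groth.Agent.AlgSp3.SepLiftScheme
import Groth.Agent.AlgSp3.ValCriteria
import Groth.Agent.AlgSpBasic.DiagProps
import Groth.Agent.AlgSp2.InfGlue

/-!
# For separated morphisms a lift after extension gives a lift
-/

set_option autoImplicit false
set_option backward.isDefEq.respectTransparency.types false
universe u

open CategoryTheory CategoryTheory.Limits AlgebraicGeometry Opposite AlgSp TensorProduct

namespace Groth.AlgSp3

open Groth.AlgSpBasic

noncomputable section

theorem std_specMap {R T : CommRingCat.{u}} (g : R ⟶ T) (hg : Function.Injective g.hom) :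
    IsSchemeTheoreticallyDominant (Spec.map g) := by
  refine ⟨Scheme.IdealSheafData.ext_of_isAffine ?_⟩
  rw [Scheme.IdealSheafData.ideal_bot, Pi.bot_apply, Scheme.Hom.ker_apply]
  refine (RingHom.injective_iff_ker_eq_bot _).1 ?_
  have e : (Spec.map g).appTop = (Scheme.ΓSpecIso R).hom ≫ g ≫ (Scheme.ΓSpecIso T).inv := by
    rw [← Category.assoc, Iso.eq_comp_inv]
    exact Scheme.ΓSpecIso_naturality g
  show Function.Injective (Spec.map g).appTop.hom
  rw [e]
  exact ((Scheme.ΓSpecIso T).symm.commRingCatIsoToRingEquiv.injective.comp hg).comp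
    (Scheme.ΓSpecIso R).commRingCatIsoToRingEquiv.injective

/-- An injective local map from a valuation ring to a local domain is faithfully flat. -/
theorem faithfullyFlat_of_isLocalHom {A B : Type u} [CommRing A] [IsDomain A] [ValuationRing A]
    [CommRing B] [IsDomain B] [IsLocalRing B] (φ : A →+* B) [hloc : IsLocalHom φ]
    (hφ : Function.Injective φ) : φ.FaithfullyFlat := by
  algebraize [φ]
  have : Module.Flat A B := by
    rw [Module.Flat.flat_iff_torsion_eq_bot_of_isBezout, eq_bot_iff]
    rintro b ⟨⟨a, ha⟩, h⟩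
    rw [Submodule.mem_bot]
    have h' : φ a * b = 0 := h
    exact (mul_eq_zero.1 h').resolve_left ((map_ne_zero_iff φ hφ).2 (nonZeroDivisors.ne_zero ha))
  have : IsLocalHom (algebraMap A B) := hloc
  exact Module.FaithfullyFlat.of_flat_of_isLocalHom

/-- An extension of valuation rings has injective generic fibre in the bigger field. -/
theorem injective_tensor_fraction {A K A' K' : Type u} [CommRing A] [CommRing A'] [Field K]
    [Field K'] [Algebra A K] [IsFractionRing A K] [Algebra A' K'] [IsFractionRing A' K']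
    [Algebra A A'] [Algebra A K'] [IsScalarTower A A' K'] (p : K →ₐ[A] K') :
    Function.Injective (Algebra.TensorProduct.lift p (IsScalarTower.toAlgHom A A' K')
      (fun _ _ => Commute.all _ _) : K ⊗[A] A' →ₐ[A] K') := by
  let : Algebra K (K ⊗[A] A') := Algebra.TensorProduct.leftAlgebra
  rw [injective_iff_map_eq_zero]
  intro x hx
  obtain ⟨s, a, rfl⟩ : ∃ (s : nonZeroDivisors A) (a : A'),
      x = IsLocalization.mk' K (1 : A) s ⊗ₜ[A] a := by
    clear hx
    induction x with
    | zero => exact ⟨1, 0, (tmul_zero _ _).symm⟩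
    | tmul k a =>
      obtain ⟨⟨r, s⟩, rfl⟩ := IsLocalization.mk'_surjective (nonZeroDivisors A) k
      refine ⟨s, r • a, ?_⟩
      rw [← smul_tmul]
      congr 1
      rw [Algebra.smul_def, IsLocalization.mul_mk'_eq_mk'_of_mul, mul_one]
    | add x y hx hy =>
      obtain ⟨s, a, rfl⟩ := hx
      obtain ⟨t, b, rfl⟩ := hy
      refine ⟨s * t, (t : A) • a + (s : A) • b, ?_⟩
      rw [tmul_add, ← smul_tmul, ← smul_tmul]
      congr 2 <;>
      · rw [Algebra.smul_def, IsLocalization.mul_mk'_eq_mk'_of_mul, mul_one]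
        refine IsLocalization.mk'_eq_of_eq ?_
        simp only [Submonoid.coe_mul]
        ring
  rw [Algebra.TensorProduct.lift_tmul] at hx
  have hs : p (IsLocalization.mk' K (1 : A) s) ≠ 0 := by
    intro h'
    have h0 : IsLocalization.mk' K (1 : A) s = 0 := p.toRingHom.injective (h'.trans (map_zero p).symm)
    have := IsLocalization.mk'_spec K (1 : A) s
    rw [h0, zero_mul, map_one] at this
    exact zero_ne_one this
  have ha : algebraMap A' K' a = 0 := (mul_eq_zero.1 hx).resolve_left hs
  rw [(IsFractionRing.injective A' K') (ha.trans (map_zero _).symm), tmul_zero]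

/-- The comparison between the two generic fibres of an extension of valuation rings is
scheme-theoretically dominant. -/
theorem std_lift_fraction {A K A' K' : Type u} [CommRing A] [CommRing A'] [Field K] [Field K']
    [Algebra A K] [IsFractionRing A K] [Algebra A' K'] [IsFractionRing A' K'] (φ : A →+* A')
    (ψ : K →+* K') (h : (algebraMap A' K').comp φ = ψ.comp (algebraMap A K))
    (w : Spec.map (CommRingCat.ofHom ψ) ≫ Spec.map (CommRingCat.ofHom (algebraMap A K)) =
      Spec.map (CommRingCat.ofHom (algebraMap A' K')) ≫ Spec.map (CommRingCat.ofHom φ)) :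
    IsSchemeTheoreticallyDominant (pullback.lift _ _ w) ∧
      QuasiCompact (pullback.lift _ _ w) := by
  algebraize [φ]
  let : Algebra A K' := ((algebraMap A' K').comp φ).toAlgebra
  have : IsScalarTower A A' K' := IsScalarTower.of_algebraMap_eq fun _ => rfl
  let p : K →ₐ[A] K' := { ψ with commutes' := fun a => (RingHom.congr_fun h a).symm }
  let l : K ⊗[A] A' →ₐ[A] K' := Algebra.TensorProduct.lift p (IsScalarTower.toAlgHom A A' K')
      (fun _ _ => Commute.all _ _)
  have e : pullback.lift _ _ w = Spec.map (CommRingCat.ofHom l.toRingHom) ≫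
      (pullbackSpecIso A K A').inv := by
    apply pullback.hom_ext
    · refine (pullback.lift_fst _ _ _).trans (Eq.symm ?_)
      refine (Category.assoc _ _ _).trans ((_ ≫= pullbackSpecIso_inv_fst A K A').trans ?_)
      rw [← Spec.map_comp, ← CommRingCat.ofHom_comp]
      congr 2
      ext k
      show l (k ⊗ₜ 1) = ψ k
      rw [Algebra.TensorProduct.lift_tmul, map_one, mul_one]
      rfl
    · refine (pullback.lift_snd _ _ _).trans (Eq.symm ?_)
      refine (Category.assoc _ _ _).trans ((_ ≫= pullbackSpecIso_inv_snd A K A').trans ?_)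
      rw [← Spec.map_comp, ← CommRingCat.ofHom_comp]
      congr 2
      ext a
      show l (1 ⊗ₜ a) = algebraMap A' K' a
      rw [Algebra.TensorProduct.lift_tmul, map_one, one_mul]
      rfl
  have := std_specMap (CommRingCat.ofHom l.toRingHom) (injective_tensor_fraction p)
  exact ⟨by rw [e]; infer_instance, by rw [e]; infer_instance⟩

variable {S : Scheme.{u}} {X Y : Sp S} {f : X ⟶ Y}

/-- Fibre products over a space separated over a scheme are closed in the products over the
scheme. -/
theorem isClosedImmersion_lift_of_sep {P : Sp S} {A : Over S} {π : P ⟶ (yon S).obj A}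
    (hd : RepWith @IsClosedImmersion (pullback.diagonal π)) {W T F : Over S}
    {w : (yon S).obj W ⟶ P} {x : (yon S).obj T ⟶ P} {α : W ⟶ A} {τ : T ⟶ A}
    (hα : (yon S).map α = w ≫ π) (hτ : (yon S).map τ = x ≫ π) {fw : F ⟶ W} {fk : F ⟶ T}
    (sqF : IsPullback ((yon S).map fw) ((yon S).map fk) w x) :
    ∃ wF : fw.left ≫ α.left = fk.left ≫ τ.left,
      IsClosedImmersion (pullback.lift fw.left fk.left wF) := by
  have e0 : fw ≫ α = fk ≫ τ := (yon S).map_injective (by
    rw [Functor.map_comp, Functor.map_comp, hα, hτ, ← Category.assoc, sqF.w, Category.assoc])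
  refine ⟨congrArg CommaMorphism.left e0, ?_⟩
  let V : Over S := Over.mk (pullback.fst α.left τ.left ≫ W.hom)
  let v₁ : V ⟶ W := Over.homMk (pullback.fst α.left τ.left) rfl
  let v₂ : V ⟶ T := Over.homMk (pullback.snd α.left τ.left) (by
    show pullback.snd α.left τ.left ≫ T.hom = pullback.fst α.left τ.left ≫ W.hom
    rw [← Over.w τ, ← Over.w α, pullback.condition_assoc])
  have sqV₀ : IsPullback v₁ v₂ α τ := IsPullback.of_map (Over.forget S)
    (Over.OverMorphism.ext pullback.condition) (IsPullback.of_hasPullback α.left τ.left)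
  have sqV : IsPullback ((yon S).map v₁) ((yon S).map v₂) (w ≫ π) (x ≫ π) := by
    rw [← hα, ← hτ]
    exact sqV₀.map (yon S)
  let k : F ⟶ V := Over.homMk (pullback.lift fw.left fk.left (congrArg CommaMorphism.left e0)) (by
    show pullback.lift _ _ _ ≫ pullback.fst _ _ ≫ W.hom = F.hom
    rw [pullback.lift_fst_assoc, Over.w fw])
  have e : (yon S).map k =
      sqF.isoPullback.hom ≫ pullback.mapDesc w x π ≫ sqV.isoPullback.inv := by
    rw [← Category.assoc, Iso.eq_comp_inv]
    apply pullback.hom_ext
    · simp only [Category.assoc, IsPullback.isoPullback_hom_fst, pullback.mapDesc, pullback.map,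
        pullback.lift_fst, Category.comp_id]
      rw [← Functor.map_comp]
      congr 1
      exact Over.OverMorphism.ext (pullback.lift_fst _ _ _)
    · simp only [Category.assoc, IsPullback.isoPullback_hom_snd, pullback.mapDesc, pullback.map,
        pullback.lift_snd, Category.comp_id]
      rw [← Functor.map_comp]
      congr 1
      exact Over.OverMorphism.ext (pullback.lift_snd _ _ _)
  have h : RepWith @IsClosedImmersion ((yon S).map k) := by
    rw [e]
    exact repWith_comp (repWith_isIso _) (repWith_comp (repWith_mapDesc w x π hd) (repWith_isIso _))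
  exact (repWith_yon_map_iff _ k).1 h

/-- Two maps to a space separated over a scheme which agree after a scheme-theoretically dominant
morphism agree. -/
theorem hom_ext_of_std {P : Sp S} {A : Over S} {π : P ⟶ (yon S).obj A}
    (hd : RepWith @IsClosedImmersion (pullback.diagonal π)) {T T₀ : Over S} (c : T₀ ⟶ T)
    [IsSchemeTheoreticallyDominant c.left] {a b : (yon S).obj T ⟶ P} (hab : a ≫ π = b ≫ π)
    (hc : (yon S).map c ≫ a = (yon S).map c ≫ b) : a = b := by
  obtain ⟨V, snd, fst, sq⟩ := hd.rep (pullback.lift a b hab)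
  have : IsClosedImmersion snd.left := hd.property _ fst snd sq
  obtain ⟨k, hk⟩ := (yon S).map_surjective (sq.lift ((yon S).map c ≫ a) ((yon S).map c) (by
    apply pullback.hom_ext
    · simp only [Category.assoc, pullback.diagonal_fst, Category.comp_id, pullback.lift_fst]
    · simp only [Category.assoc, pullback.diagonal_snd, Category.comp_id, pullback.lift_snd]
      exact hc))
  have ek : k ≫ snd = c := (yon S).map_injective (by rw [Functor.map_comp, hk, sq.lift_snd])
  have ek' : k.left ≫ snd.left = c.left := by rw [← Over.comp_left, ek]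
  have : IsSchemeTheoreticallyDominant (k.left ≫ snd.left) := ek' ▸ inferInstance
  have : IsIso snd.left := isIso_of_std snd.left k.left
  have : IsIso ((Over.forget S).map snd) := this
  have : IsIso snd := isIso_of_reflects_iso snd (Over.forget S)
  have h := (inv ((yon S).map snd)) ≫= sq.w
  rw [IsIso.inv_hom_id_assoc] at h
  have h₁ := h =≫ pullback.fst π π
  have h₂ := h =≫ pullback.snd π π
  rw [Category.assoc, Category.assoc, pullback.diagonal_fst, Category.comp_id, pullback.lift_fst] at h₁
  rw [Category.assoc, Category.assoc, pullback.diagonal_snd, Category.comp_id, pullback.lift_snd] at h₂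
  rw [← h₁, h₂]

/-- For a separated morphism a square with a lift after extension has a lift. -/
theorem hasLift_of_hasLiftExt_of_separated (hX : IsAlgSpace X) (hY : IsAlgSpace Y)
    (hf : IsSeparatedMor f) (sq : ValSq f) (e : sq.DomExt) (he : e.HasLift) : sq.HasLift := by
  obtain ⟨l, hl₁, hl₂⟩ := he
  have sqP := IsPullback.of_hasPullback f sq.bot
  let π := pullback.snd f sq.bot
  have hP := isAlgSpace_of_isPullback sqP hY.diag hX (IsAlgSpace.yon_obj sq.ptA)
  have hd : RepWith @IsClosedImmersion (pullback.diagonal π) := repWith_diagonal_baseChange sqP hf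
  obtain ⟨x, hx₁, hx₂⟩ : ∃ x : (yon S).obj sq.ptK ⟶ pullback f sq.bot,
      x ≫ pullback.fst f sq.bot = sq.top ∧ x ≫ π = (yon S).map sq.j :=
    ⟨_, sqP.lift_fst _ _ sq.comm, sqP.lift_snd _ _ sq.comm⟩
  let pA : e.ptA' ⟶ sq.ptA := Over.homMk (Spec.map (CommRingCat.ofHom e.φ)) rfl
  let pK : e.ptK' ⟶ sq.ptK := Over.homMk (Spec.map (CommRingCat.ofHom e.ψ)) (by
    change Spec.map _ ≫ Spec.map _ ≫ _ = Spec.map _ ≫ Spec.map _ ≫ _
    rw [← Spec.map_comp_assoc, ← Spec.map_comp_assoc, ← CommRingCat.ofHom_comp,
      ← CommRingCat.ofHom_comp, e.comm])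
  let jj : e.ptK' ⟶ e.ptA' :=
    Over.homMk (Spec.map (CommRingCat.ofHom (algebraMap e.A' e.K'))) rfl
  have ej : jj ≫ pA = pK ≫ sq.j := Over.OverMorphism.ext (by
    show Spec.map _ ≫ Spec.map _ = Spec.map _ ≫ Spec.map _
    rw [← Spec.map_comp, ← Spec.map_comp, ← CommRingCat.ofHom_comp, ← CommRingCat.ofHom_comp,
      e.comm])
  have hl₁' : (yon S).map jj ≫ l = (yon S).map pK ≫ sq.top := hl₁
  obtain ⟨l', hl'₁, hl'₂⟩ : ∃ l' : (yon S).obj e.ptA' ⟶ pullback f sq.bot,
      l' ≫ pullback.fst f sq.bot = l ∧ l' ≫ π = (yon S).map pA :=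
    ⟨_, sqP.lift_fst _ _ hl₂, sqP.lift_snd _ _ hl₂⟩
  have hjl : (yon S).map jj ≫ l' = (yon S).map pK ≫ x := by
    apply sqP.hom_ext
    · rw [Category.assoc, hl'₁, hl₁', Category.assoc, hx₁]
    · rw [Category.assoc, hl'₂, ← Functor.map_comp, ej, Category.assoc, hx₂, Functor.map_comp]
  -- an affine chart through the image of the closed point
  let c₀ : e.ptA'.left := IsLocalRing.closedPoint e.A'
  obtain ⟨W₀, w₀, hw₀, hw₀s⟩ := hP.atlas
  obtain ⟨q₀, hq₀⟩ := surjective_ofPt_of_repWith hw₀s (Points.ofPt l' c₀)
  obtain ⟨O, hO, hqO, -⟩ :=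
    exists_isAffineOpen_mem_and_subset (X := W₀.left) (x := q₀) (U := ⊤) trivial
  let W : Over S := Over.mk (O.ι ≫ W₀.hom)
  let iO : W ⟶ W₀ := Over.homMk O.ι rfl
  have : IsAffine W.left := hO
  let w := (yon S).map iO ≫ w₀
  have hw : RepWith @Etale w :=
    repWith_comp ((repWith_yon_map_iff _ iO).2 (inferInstanceAs (Etale O.ι))) hw₀
  obtain ⟨α, hα⟩ := (yon S).map_surjective (w ≫ π)
  -- the fibres over the generic points and over the extension
  obtain ⟨F, fw, fk, sqF⟩ := exists_pullback_of_diag hP.diag w x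
  obtain ⟨G, gw, gA, sqG⟩ := exists_pullback_of_diag hP.diag w l'
  have : Etale fk.left := (repWith_yon_map_iff _ fk).1 (repWith_of_isPullback sqF hw)
  have : Etale gA.left := (repWith_yon_map_iff _ gA).1 (repWith_of_isPullback sqG hw)
  obtain ⟨g₀, -, hg₀⟩ := (ofPt_eq_ofPt_iff sqG ⟨q₀, hqO⟩ c₀).1
    (by rw [ofPt_comp_yon]; exact hq₀)
  obtain ⟨wF, hcF⟩ := isClosedImmersion_lift_of_sep hd hα hx₂.symm sqF
  obtain ⟨wG, hcG⟩ := isClosedImmersion_lift_of_sep hd hα hl'₂.symm sqG
  -- the common fibre over the generic point of the extension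
  obtain ⟨E, ew, eK, sqE⟩ := exists_pullback_of_diag hP.diag w ((yon S).map pK ≫ x)
  obtain ⟨eF, heF⟩ := (yon S).map_surjective
    (sqF.lift ((yon S).map ew) ((yon S).map (eK ≫ pK))
      (by rw [Functor.map_comp, Category.assoc]; exact sqE.w))
  obtain ⟨eG, heG⟩ := (yon S).map_surjective
    (sqG.lift ((yon S).map ew) ((yon S).map (eK ≫ jj))
      (by rw [Functor.map_comp, Category.assoc, hjl]; exact sqE.w))
  have heF₁ : eF ≫ fw = ew := (yon S).map_injective (by
    rw [Functor.map_comp, heF, sqF.lift_fst])
  have heG₁ : eG ≫ gw = ew := (yon S).map_injective (by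
    rw [Functor.map_comp, heG, sqG.lift_fst])
  have sqEF : IsPullback eF eK fk pK := by
    refine IsPullback.of_map (yon S) ((yon S).map_injective (by
      rw [Functor.map_comp, heF, sqF.lift_snd])) ?_
    refine (IsPullback.of_bot ?_ ?_ sqF.flip).flip
    · rw [← Functor.map_comp, heF₁]; exact sqE.flip
    · rw [← Functor.map_comp, heF, sqF.lift_snd, Functor.map_comp]
  have sqEG : IsPullback eG eK gA jj := by
    refine IsPullback.of_map (yon S) ((yon S).map_injective (by
      rw [Functor.map_comp, heG, sqG.lift_snd])) ?_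
    refine (IsPullback.of_bot ?_ ?_ sqG.flip).flip
    · rw [← Functor.map_comp, heG₁, hjl]; exact sqE.flip
    · rw [← Functor.map_comp, heG, sqG.lift_snd, Functor.map_comp]
  -- the scheme morphisms
  have : IsAffine sq.ptA.left := inferInstanceAs (IsAffine (Spec (CommRingCat.of sq.A)))
  have : IsAffine sq.ptK.left := inferInstanceAs (IsAffine (Spec (CommRingCat.of sq.K)))
  have : Flat sq.j.left := by
    show Flat (Spec.map (CommRingCat.ofHom (algebraMap sq.A sq.K)))
    rw [HasRingHomProperty.Spec_iff (P := @Flat), CommRingCat.hom_ofHom,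
      RingHom.flat_algebraMap_iff]
    exact IsLocalization.flat sq.K (nonZeroDivisors sq.A)
  have : Mono sq.j.left := by
    have : Epi (CommRingCat.ofHom (algebraMap sq.A sq.K)) :=
      IsLocalization.epi (nonZeroDivisors sq.A) sq.K
    show Mono (Scheme.Spec.map (CommRingCat.ofHom (algebraMap sq.A sq.K)).op)
    infer_instance
  have hloc : IsLocalHom e.φ := e.isLocalHom
  have hφinj : Function.Injective e.φ := fun a b h => IsFractionRing.injective sq.A sq.K
    (e.ψ.injective (by
      rw [← RingHom.comp_apply, ← RingHom.comp_apply, ← e.comm, RingHom.comp_apply,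
        RingHom.comp_apply, h]))
  have hff : e.φ.FaithfullyFlat := faithfullyFlat_of_isLocalHom e.φ hφinj
  have : Flat pA.left ∧ Surjective pA.left := by
    rw [RingHom.FaithfullyFlat.iff_flat_and_comap_surjective] at hff
    exact ⟨(HasRingHomProperty.Spec_iff (P := @Flat)).2 hff.1, ⟨hff.2⟩⟩
  obtain ⟨_, _⟩ := this
  have : QuasiCompact pA.left := inferInstanceAs (QuasiCompact (Spec.map _))
  have : IsSchemeTheoreticallyDominant jj.left := std_specMap _ (IsFractionRing.injective e.A' e.K')
  have : QuasiCompact jj.left := inferInstanceAs (QuasiCompact (Spec.map _))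
  have wψ : pK.left ≫ sq.j.left = jj.left ≫ pA.left := (congrArg CommaMorphism.left ej).symm
  obtain ⟨_, _⟩ : IsSchemeTheoreticallyDominant (pullback.lift pK.left jj.left wψ) ∧
      QuasiCompact (pullback.lift pK.left jj.left wψ) := std_lift_fraction e.φ e.ψ e.comm wψ
  have : QuasiCompact fw.left := by
    rw [← pullback.lift_fst fw.left fk.left wF]
    infer_instance
  obtain ⟨hζ, sqZ, hrange⟩ := etale_imageι_comp sq.j.left pA.left jj.left pK.left wψ α.left
    fw.left fk.left wF gw.left gA.left wG eF.left eG.left eK.left (isPullback_left sqEG)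
    (isPullback_left sqEF) (congrArg CommaMorphism.left (heG₁.trans heF₁.symm))
  -- gluing along the etale cover
  let Z : Over S := Over.mk (fw.left.imageι ≫ W.hom)
  let iZ : Z ⟶ W := Over.homMk fw.left.imageι rfl
  let ζ : Z ⟶ sq.ptA := iZ ≫ α
  have : Etale ζ.left := hζ
  have : Surjective ζ.left := by
    refine ⟨fun y => ?_⟩
    have hopen : IsOpen (Set.range ζ.left) := (etale_isOpenMap ζ.left hζ).isOpen_range
    have hc : (IsLocalRing.closedPoint sq.A : ↥(Spec (CommRingCat.of sq.A))) ∈ Set.range ζ.left := by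
      have := hrange g₀
      rw [hg₀, show pA.left c₀ = IsLocalRing.closedPoint sq.A from
        (IsLocalRing.isLocalHom_iff_comap_closedPoint e.φ).1 hloc] at this
      exact this
    exact (IsLocalRing.specializes_closedPoint y).mem_open hopen hc
  let tI : F ⟶ Z := Over.homMk fw.left.toImage (by
    show fw.left.toImage ≫ fw.left.imageι ≫ W.hom = F.hom
    rw [Scheme.Hom.toImage_imageι_assoc, Over.w fw])
  have htI : tI ≫ iZ = fw := Over.OverMorphism.ext fw.left.toImage_imageι
  let sec := (yon S).map iZ ≫ w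
  have hsec : sec ≫ π = (yon S).map ζ := by
    show ((yon S).map iZ ≫ w) ≫ π = (yon S).map (iZ ≫ α)
    rw [Category.assoc, Functor.map_comp, hα]
  obtain ⟨s, hs⟩ := AlgSp2.exists_glue_of_fppf ζ sec fun T p q hpq => by
    -- check on the universal pair
    let ZZ : Over S := Over.mk (pullback.fst ζ.left ζ.left ≫ Z.hom)
    let z₁ : ZZ ⟶ Z := Over.homMk (pullback.fst ζ.left ζ.left) rfl
    let z₂ : ZZ ⟶ Z := Over.homMk (pullback.snd ζ.left ζ.left) (by
      show pullback.snd _ _ ≫ Z.hom = pullback.fst _ _ ≫ Z.hom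
      rw [← Over.w ζ, pullback.condition_assoc])
    let u : T ⟶ ZZ := Over.homMk (pullback.lift p.left q.left (congrArg CommaMorphism.left hpq)) (by
      show pullback.lift _ _ _ ≫ pullback.fst _ _ ≫ Z.hom = T.hom
      rw [pullback.lift_fst_assoc, Over.w p])
    rw [show p = u ≫ z₁ from Over.OverMorphism.ext (pullback.lift_fst _ _ _).symm,
      show q = u ≫ z₂ from Over.OverMorphism.ext (pullback.lift_snd _ _ _).symm,
      Functor.map_comp, Functor.map_comp, Category.assoc, Category.assoc]
    congr 1
    let k := pullback.fst ζ.left ζ.left ≫ ζ.left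
    have : Flat k := by show Flat (pullback.fst ζ.left ζ.left ≫ ζ.left); infer_instance
    have : IsSchemeTheoreticallyDominant sq.j.left :=
      std_specMap _ (IsFractionRing.injective sq.A sq.K)
    have : QuasiCompact sq.j.left := inferInstanceAs (QuasiCompact (Spec.map _))
    let ZK : Over S := Over.mk (pullback.fst k sq.j.left ≫ ZZ.hom)
    let c : ZK ⟶ ZZ := Over.homMk (pullback.fst k sq.j.left) rfl
    have : IsSchemeTheoreticallyDominant c.left :=
      inferInstanceAs (IsSchemeTheoreticallyDominant (pullback.fst k sq.j.left))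
    refine hom_ext_of_std hd c ?_ ?_
    · refine (Category.assoc _ _ _).trans ((congrArg (_ ≫ ·) hsec).trans (Eq.trans ?_
        ((congrArg (_ ≫ ·) hsec).symm.trans (Category.assoc _ _ _).symm)))
      rw [← Functor.map_comp, ← Functor.map_comp]
      congr 1
      exact Over.OverMorphism.ext pullback.condition
    · let tk : ZK ⟶ sq.ptK := Over.homMk (pullback.snd k sq.j.left) (by
        show pullback.snd k sq.j.left ≫ sq.ptK.hom = pullback.fst k sq.j.left ≫ ZZ.hom
        rw [← Over.w sq.j, ← pullback.condition_assoc]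
        simp only [k, Category.assoc, Over.w ζ]
        rfl)
      have key : ∀ zi : ZZ ⟶ Z, zi.left ≫ ζ.left = k →
          (yon S).map c ≫ (yon S).map zi ≫ sec = (yon S).map tk ≫ x := by
        intro zi hzi
        have wz : (c.left ≫ zi.left) ≫ fw.left.imageι ≫ α.left = tk.left ≫ sq.j.left := by
          show (pullback.fst k sq.j.left ≫ zi.left) ≫ ζ.left = pullback.snd k sq.j.left ≫ _
          rw [Category.assoc, hzi, pullback.condition]
        let h : ZK ⟶ F := Over.homMk (sqZ.lift _ _ wz) (by
          show sqZ.lift _ _ wz ≫ F.hom = ZK.hom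
          rw [← Over.w fk, ← Category.assoc, sqZ.lift_snd, Over.w tk])
        have h₁ : h ≫ tI = c ≫ zi := Over.OverMorphism.ext (sqZ.lift_fst _ _ wz)
        have h₂ : h ≫ fk = tk := Over.OverMorphism.ext (sqZ.lift_snd _ _ wz)
        rw [← Category.assoc, ← Functor.map_comp, ← h₁, ← h₂, Functor.map_comp, Functor.map_comp,
          Category.assoc, Category.assoc, show (yon S).map tI ≫ sec = (yon S).map fw ≫ w by
            show (yon S).map tI ≫ (yon S).map iZ ≫ w = _
            rw [← Category.assoc, ← Functor.map_comp, htI], sqF.w]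
      exact (key z₁ rfl).trans (key z₂ pullback.condition.symm).symm
  have hsπ : s ≫ π = 𝟙 _ := AlgSp2.hom_ext_of_fppf ζ (by
    rw [reassoc_of% hs, hsec, Category.comp_id])
  have : Surjective fk.left := MorphismProperty.of_isPullback sqZ (inferInstanceAs (Surjective ζ.left))
  have hsx : (yon S).map sq.j ≫ s = x := AlgSp2.hom_ext_of_fppf fk (by
    have : fk ≫ sq.j = tI ≫ ζ := Over.OverMorphism.ext sqZ.w.symm
    rw [← Category.assoc, ← Functor.map_comp, this, Functor.map_comp, Category.assoc, hs]
    show (yon S).map tI ≫ (yon S).map iZ ≫ w = _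
    rw [← Category.assoc, ← Functor.map_comp, htI, sqF.w])
  refine ⟨s ≫ pullback.fst f sq.bot, by rw [← Category.assoc, hsx, hx₁], ?_⟩
  rw [Category.assoc, sqP.w, ← Category.assoc]
  exact (hsπ =≫ sq.bot).trans (Category.id_comp _)

end

end Groth.AlgSp3
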