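import Mathlib.AlgebraicGeometry.Morphisms.LocalFlatDescent
import Mathlib.AlgebraicGeometry.Morphisms.SchemeTheoreticallyDominant
import Mathlib.AlgebraicGeometry.Morphisms.ClosedImmersion
import Mathlib.AlgebraicGeometry.IdealSheaf.Functorial

/-!
# Scheme-theoretic closures of generic fibres and descent of étaleness
-/

set_option autoImplicit false
set_option backward.isDefEq.respectTransparency.types false
universe u

open CategoryTheory CategoryTheory.Limits AlgebraicGeometry

namespace Groth.AlgSp3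

noncomputable section

/-- The map to the scheme-theoretic image is scheme-theoretically dominant. -/
theorem std_toImage {X Y : Scheme.{u}} (f : X ⟶ Y) [QuasiCompact f] :
    IsSchemeTheoreticallyDominant f.toImage := by
  refine ⟨Scheme.IdealSheafData.ext_of_iSup_eq_top
    (fun U : Y.affineOpens => ⟨f.imageι ⁻¹ᵁ U.1, U.2.preimage f.imageι⟩) ?_ fun U => ?_⟩
  · show ⨆ U : Y.affineOpens, f.imageι ⁻¹ᵁ U.1 = ⊤
    rw [← Scheme.Hom.preimage_iSup, iSup_affineOpens_eq_top, Scheme.Hom.preimage_top]
  · rw [Scheme.IdealSheafData.ideal_bot, Pi.bot_apply, Scheme.Hom.ker_apply]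
    exact (RingHom.injective_iff_ker_eq_bot _).1 (f.toImage_app_injective U)

/-- A closed immersion through which a scheme-theoretically dominant morphism factors is an
isomorphism. -/
theorem isIso_of_std {E Z Y : Scheme.{u}} (i : Z ⟶ Y) [IsClosedImmersion i] (e : E ⟶ Z)
    [IsSchemeTheoreticallyDominant (e ≫ i)] : IsIso i :=
  IsClosedImmersion.isIso_iff_ker_eq_bot.2
    (le_bot_iff.1 ((e.le_ker_comp i).trans (e ≫ i).ker_eq_bot.le))

/-- Closed subschemes receiving a common scheme-theoretically dominant morphism are equal. -/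
theorem exists_iso_of_std {E G Z W : Scheme.{u}} (iG : G ⟶ W) (iZ : Z ⟶ W) [IsClosedImmersion iG]
    [IsClosedImmersion iZ] (eG : E ⟶ G) (eZ : E ⟶ Z) [IsSchemeTheoreticallyDominant eG]
    [IsSchemeTheoreticallyDominant eZ] (h : eG ≫ iG = eZ ≫ iZ) :
    ∃ k : G ⟶ Z, IsIso k ∧ k ≫ iZ = iG := by
  have hker : iZ.ker = iG.ker := by
    rw [← Scheme.IdealSheafData.map_bot iZ, ← Scheme.IdealSheafData.map_bot iG,
      ← eG.ker_eq_bot, ← Scheme.Hom.ker_comp, h, Scheme.Hom.ker_comp, eZ.ker_eq_bot]
  exact ⟨IsClosedImmersion.lift iZ iG hker.le, IsClosedImmersion.isIso_lift iZ iG hker,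
    IsClosedImmersion.lift_fac _ _ _⟩

variable {SK SA SA' SK' W F G E : Scheme.{u}} (j : SK ⟶ SA) (φ : SA' ⟶ SA) (jj : SK' ⟶ SA')
  (ψ : SK' ⟶ SK) (wψ : ψ ≫ j = jj ≫ φ) (α : W ⟶ SA) (fw : F ⟶ W) (fk : F ⟶ SK)
  (wF : fw ≫ α = fk ≫ j)

/-- The scheme-theoretic image of the generic fibre becomes, after the extension `φ`, the given
family, so that it is etale, and its generic fibre is the given one. -/
theorem etale_imageι_comp [Mono j] [Flat j] [Surjective φ] [Flat φ] [QuasiCompact φ]
    [IsSchemeTheoreticallyDominant jj] [QuasiCompact jj] [QuasiCompact fw] [Flat fk]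
    [IsSchemeTheoreticallyDominant (pullback.lift ψ jj wψ)] [QuasiCompact (pullback.lift ψ jj wψ)]
    [IsClosedImmersion (pullback.lift fw fk wF)] (gw : G ⟶ W) (gA : G ⟶ SA') [Etale gA]
    (wG : gw ≫ α = gA ≫ φ) [IsClosedImmersion (pullback.lift gw gA wG)]
    (eF : E ⟶ F) (eG : E ⟶ G) (eK : E ⟶ SK') (sqEG : IsPullback eG eK gA jj)
    (sqEF : IsPullback eF eK fk ψ) (wE : eG ≫ gw = eF ≫ fw) :
    Etale (fw.imageι ≫ α) ∧ IsPullback fw.toImage fk (fw.imageι ≫ α) j ∧
      ∀ g, φ (gA g) ∈ Set.range (fw.imageι ≫ α) := by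
  have := std_toImage fw
  let WA := pullback α φ
  let qW : WA ⟶ W := pullback.fst α φ
  let Z' := pullback fw.imageι qW
  let iZ' : Z' ⟶ WA := pullback.snd fw.imageι qW
  let p : Z' ⟶ fw.image := pullback.fst fw.imageι qW
  let q : Z' ⟶ SA' := iZ' ≫ pullback.snd α φ
  have sqZ : IsPullback p q (fw.imageι ≫ α) φ :=
    (IsPullback.of_hasPullback fw.imageι qW).paste_vert (IsPullback.of_hasPullback α φ) |>.flip.flip
  let FA := pullback fw.toImage p
  let a : FA ⟶ Z' := pullback.snd fw.toImage p
  let b : FA ⟶ F := pullback.fst fw.toImage p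
  have : IsSchemeTheoreticallyDominant a := inferInstance
  have sqFA : IsPullback b (a ≫ q) (fk ≫ j) φ := by
    have := (IsPullback.of_hasPullback fw.toImage p).paste_vert sqZ
    rwa [Scheme.Hom.toImage_imageι_assoc, wF] at this
  let t : FA ⟶ pullback j φ :=
    pullback.lift (b ≫ fk) (a ≫ q) (by rw [Category.assoc]; exact sqFA.w)
  have sqt : IsPullback b t fk (pullback.fst j φ) :=
    IsPullback.of_bot (by rw [pullback.lift_snd]; exact sqFA) (pullback.lift_fst _ _ _).symm
      (IsPullback.of_hasPullback j φ)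
  let d := pullback.lift ψ jj wψ
  let e : E ⟶ FA := sqt.lift eF (eK ≫ d) (by rw [Category.assoc, pullback.lift_fst, sqEF.w])
  have sqe : IsPullback e eK t d := by
    refine IsPullback.of_right ?_ (sqt.lift_snd _ _ _) sqt
    rw [sqt.lift_fst, pullback.lift_fst]
    exact sqEF
  have : Flat t := MorphismProperty.of_isPullback sqt inferInstance
  have : IsSchemeTheoreticallyDominant e := .of_isPullback sqe.flip
  have : IsSchemeTheoreticallyDominant eG := .of_isPullback sqEG.flip
  have hs : e ≫ a ≫ q = eK ≫ jj := by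
    rw [show a ≫ q = t ≫ pullback.snd j φ from (pullback.lift_snd _ _ _).symm,
      sqt.lift_snd_assoc, Category.assoc]
    exact eK ≫= pullback.lift_snd _ _ _
  have hbf : a ≫ p ≫ fw.imageι = b ≫ fw := by
    rw [← pullback.condition_assoc, Scheme.Hom.toImage_imageι]
  obtain ⟨k, hk, hkG⟩ := exists_iso_of_std (pullback.lift gw gA wG) iZ' eG (e ≫ a) (by
    apply pullback.hom_ext
    · rw [Category.assoc, pullback.lift_fst, Category.assoc, Category.assoc, wE,
        show iZ' ≫ pullback.fst α φ = p ≫ fw.imageι from pullback.condition.symm, hbf,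
        sqt.lift_fst_assoc]
    · rw [Category.assoc, pullback.lift_snd, Category.assoc, Category.assoc, hs, sqEG.w])
  have hq : k ≫ q = gA := by rw [reassoc_of% hkG, pullback.lift_snd]
  have : Etale q := (MorphismProperty.cancel_left_of_respectsIso @Etale k q).1 (hq ▸ inferInstance)
  refine ⟨MorphismProperty.of_isPullback_of_descendsAlong
    (Q := @Surjective ⊓ @Flat ⊓ @QuasiCompact) sqZ.flip ⟨⟨inferInstance, inferInstance⟩,
      inferInstance⟩ this, ?_, fun g => ⟨p (k g), ?_⟩⟩
  · let Zk := pullback (fw.imageι ≫ α) j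
    let c : F ⟶ Zk := pullback.lift fw.toImage fk (by rw [Scheme.Hom.toImage_imageι_assoc, wF])
    have sqc : IsPullback (𝟙 F) c fw.toImage (pullback.fst (fw.imageι ≫ α) j) :=
      IsPullback.of_horiz_isIso_mono ⟨by rw [Category.id_comp, pullback.lift_fst]⟩
    have : IsSchemeTheoreticallyDominant c := .of_isPullback sqc
    let m : Zk ⟶ pullback α j := pullback.lift (pullback.fst _ _ ≫ fw.imageι) (pullback.snd _ _)
      (by rw [Category.assoc, pullback.condition])
    have hcm : c ≫ m = pullback.lift fw fk wF := by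
      apply pullback.hom_ext
      · rw [Category.assoc, pullback.lift_fst, pullback.lift_fst_assoc,
          Scheme.Hom.toImage_imageι, pullback.lift_fst]
      · rw [Category.assoc, pullback.lift_snd, pullback.lift_snd, pullback.lift_snd]
    have : IsClosedImmersion (c ≫ m) := hcm ▸ inferInstance
    have sqm : IsPullback m (pullback.fst (fw.imageι ≫ α) j) (pullback.fst α j) fw.imageι :=
      IsPullback.of_right (by
        rw [pullback.lift_snd]
        exact (IsPullback.of_hasPullback (fw.imageι ≫ α) j).flip)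
        (pullback.lift_fst _ _ _) (IsPullback.of_hasPullback α j).flip
    have : IsClosedImmersion m := MorphismProperty.of_isPullback sqm.flip inferInstance
    have : IsClosedImmersion c := IsClosedImmersion.of_comp c m
    have : IsIso c := IsClosedImmersion.isIso_iff_ker_eq_bot.2 c.ker_eq_bot
    exact IsPullback.of_iso_pullback ⟨by rw [Scheme.Hom.toImage_imageι_assoc, wF]⟩ (asIso c)
      (pullback.lift_fst _ _ _) (pullback.lift_snd _ _ _)
  · rw [← Scheme.Hom.comp_apply, ← Scheme.Hom.comp_apply, sqZ.w, ← Category.assoc, hq,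
      Scheme.Hom.comp_apply]

end

end Groth.AlgSp3
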