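import Groth.Prelude.Def_AlgSp
import Groth.Agent.AlgSpBasic.RepWith
import Mathlib.CategoryTheory.Sites.Pullback
import Mathlib.CategoryTheory.Adjunction.Unique

/-!
# Extension of sheaves along a change of base, concretely
-/

set_option autoImplicit false
set_option backward.isDefEq.respectTransparency.types false
universe u

open CategoryTheory CategoryTheory.Limits AlgebraicGeometry Opposite AlgSp

namespace Groth.AlgSp3

noncomputable section

variable {S S' : Scheme.{u}} (g : S ⟶ S')

/-- Lifts to `S` of the structure map of a scheme over `S'`. -/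
abbrev BasePt (T : Over S') : Type u := {t : T.left ⟶ S // t ≫ g = T.hom}

/-- Sections of the extension of a sheaf. -/
abbrev shriekObj (F : Sp S) (T : Over S') : Type (u + 1) :=
  Σ x : BasePt g T, F.obj.obj (op (Over.mk x.1))

variable {g}

theorem shriekObj_ext {F : Sp S} {T : Over S'} (p q : shriekObj g F T) (h : p.1.1 = q.1.1)
    (hs : F.obj.map (Over.homMk (𝟙 T.left) ((Category.id_comp _).trans h) :
      Over.mk q.1.1 ⟶ Over.mk p.1.1).op p.2 = q.2) : p = q := by
  obtain ⟨⟨t, ht⟩, s⟩ := p
  obtain ⟨⟨t', ht'⟩, s'⟩ := q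
  obtain rfl : t = t' := h
  have e : (Over.homMk (𝟙 T.left) (Category.id_comp _) : Over.mk t ⟶ Over.mk t) = 𝟙 _ := rfl
  rw [e, op_id, F.obj.map_id] at hs
  obtain rfl : s = s' := hs
  rfl

/-- Two compatible changes of the test object agree. -/
theorem map_map_left {F : Sp S} {A B C D : Over S} (p : C ⟶ B) (q : B ⟶ A) (r : C ⟶ D) (t : D ⟶ A)
    (h : p.left ≫ q.left = r.left ≫ t.left) (z : F.obj.obj (op A)) :
    F.obj.map p.op (F.obj.map q.op z) = F.obj.map r.op (F.obj.map t.op z) := by
  rw [← Functor.map_comp_apply, ← Functor.map_comp_apply, ← op_comp, ← op_comp,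
    show p ≫ q = r ≫ t from Over.OverMorphism.ext h]

theorem map_map_eq {F : Sp S} {A B C : Over S} (p : C ⟶ B) (q : B ⟶ A) (r : C ⟶ A)
    (h : p.left ≫ q.left = r.left) (z : F.obj.obj (op A)) :
    F.obj.map p.op (F.obj.map q.op z) = F.obj.map r.op z := by
  rw [← Functor.map_comp_apply, ← op_comp, show p ≫ q = r from Over.OverMorphism.ext h]

theorem map_congr_left {F : Sp S} {A C : Over S} (p r : C ⟶ A) (h : p.left = r.left)
    (z : F.obj.obj (op A)) : F.obj.map p.op z = F.obj.map r.op z := by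
  rw [show p = r from Over.OverMorphism.ext h]

theorem map_eq_self {F : Sp S} {A : Over S} (p : A ⟶ A) (h : p.left = 𝟙 _) (z : F.obj.obj (op A)) :
    F.obj.map p.op z = z := by
  rw [show p = 𝟙 A from Over.OverMorphism.ext h, op_id, Functor.map_id_apply]

variable (g)

/-- Restriction of a section. -/
abbrev shriekRes {F : Sp S} {T T' : Over S'} (φ : T' ⟶ T) (p : shriekObj g F T) :
    shriekObj g F T' :=
  ⟨⟨φ.left ≫ p.1.1, by rw [Category.assoc, p.1.2, Over.w φ]⟩,
    F.obj.map (Over.homMk φ.left rfl : Over.mk (φ.left ≫ p.1.1) ⟶ Over.mk p.1.1).op p.2⟩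

/-- The extension as a presheaf. -/
def shriekP (F : Sp S) : (Over S')ᵒᵖ ⥤ Type (u + 1) where
  obj T := shriekObj g F (unop T)
  map φ := ↾fun p => shriekRes g φ.unop p
  map_id T := ConcreteCategory.hom_ext _ _ fun p => by
    refine shriekObj_ext (shriekRes g (𝟙 (unop T)) p) p (Category.id_comp p.1.1) ?_
    exact (map_map_eq _ _ (𝟙 _) (Category.id_comp _) p.2).trans (map_eq_self _ rfl p.2)
  map_comp φ ψ := ConcreteCategory.hom_ext _ _ fun p => by
    refine shriekObj_ext (shriekRes g (ψ.unop ≫ φ.unop) p) (shriekRes g ψ.unop (shriekRes g φ.unop p))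
      (Category.assoc _ _ _) ?_
    refine (map_map_eq _ _ (Over.homMk (ψ.unop.left ≫ φ.unop.left) (Category.assoc _ _ _) :
      Over.mk (ψ.unop.left ≫ φ.unop.left ≫ p.1.1) ⟶ Over.mk p.1.1) ?_ _).trans
      (map_map_eq _ _ _ rfl _).symm
    exact Category.id_comp _

variable {g}

/-- The section attached to an element of the extension at the image of an object over `S`, when
its lift to `S` is the given structure map. -/
abbrev shriekVal {F : Sp S} {Z : Over S} (p : shriekObj g F ((Over.map g).obj Z))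
    (h : p.1.1 = Z.hom) : F.obj.obj (op Z) :=
  F.obj.map (Over.homMk (𝟙 Z.left) ((Category.id_comp _).trans h) : Z ⟶ Over.mk p.1.1).op p.2

theorem shriekVal_congr {F : Sp S} {Z : Over S} {p q : shriekObj g F ((Over.map g).obj Z)}
    (e : p = q) (h : p.1.1 = Z.hom) (h' : q.1.1 = Z.hom) : shriekVal p h = shriekVal q h' := by
  subst e; rfl

theorem shriekVal_res {F : Sp S} {Z Z' : Over S} (k : Z' ⟶ Z)
    (p : shriekObj g F ((Over.map g).obj Z)) (h : p.1.1 = Z.hom) :
    shriekVal (shriekRes g ((Over.map g).map k) p)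
        ((congrArg (k.left ≫ ·) h).trans (Over.w k)) = F.obj.map k.op (shriekVal p h) :=
  map_map_left _ _ _ _ ((Category.id_comp _).trans (Category.comp_id _).symm) _

variable (g)

/-- The tautological identification. -/
abbrev overBase {T : Over S'} (t : BasePt g T) : (Over.map g).obj (Over.mk t.1) ⟶ T :=
  Over.homMk (𝟙 T.left) ((Category.id_comp _).trans t.2.symm)

theorem isSheaf_shriekP (F : Sp S) : Presieve.IsSheaf (J S') (shriekP g F) := by
  intro T R hR x hx
  have hcomp : ∀ {Z Z' : Over S'} (i : Z' ⟶ Z) (φ : Z ⟶ T) (hφ : R φ),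
      x (i ≫ φ) (R.downward_closed hφ i) = shriekRes g i (x φ hφ) := fun i φ hφ =>
    hx.to_sieveCompatible φ i hφ
  -- the component in `S`
  let H : Over S' := Over.mk g
  have hH : Presieve.IsSheaf (J S') ((yon S').obj H).obj :=
    (isSheaf_iff_isSheaf_of_type _ _).1 ((yon S').obj H).property
  let xb : Presieve.FamilyOfElements ((yon S').obj H).obj R.arrows := fun Z φ hφ =>
    ULift.up (Over.homMk (x φ hφ).1.1 (x φ hφ).1.2 : Z ⟶ H)
  have hxb : xb.Compatible := by
    intro Y₁ Y₂ Z g₁ g₂ f₁ f₂ h₁ h₂ e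
    have := congrArg (fun p : shriekObj g F Z => p.1.1) (hx g₁ g₂ h₁ h₂ e)
    exact ULift.ext _ _ (Over.OverMorphism.ext this)
  obtain ⟨⟨b⟩, hb, hbu⟩ := hH R hR xb hxb
  let t : BasePt g T := ⟨b.left, Over.w b⟩
  have ht : ∀ {Z : Over S'} (φ : Z ⟶ T) (hφ : R φ), φ.left ≫ t.1 = (x φ hφ).1.1 := fun φ hφ =>
    congrArg CommaMorphism.left (congrArg ULift.down (hb φ hφ))
  -- the component in the sheaf
  have hF : Presieve.IsSheaf (J S) F.obj := (isSheaf_iff_isSheaf_of_type _ _).1 F.property
  let R' : Sieve (Over.mk t.1) := (R.pullback (overBase g t)).functorPullback (Over.map g)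
  have hR'mem : R' ∈ J S (Over.mk t.1) :=
    (Over.map g).cover_lift (J S) (J S') ((J S').pullback_stable _ hR)
  have htA : ∀ {Z : Over S} (φ : Z ⟶ Over.mk t.1) (hφ : R' φ),
      (x ((Over.map g).map φ ≫ overBase g t) hφ).1.1 = Z.hom := fun φ hφ =>
    (ht _ hφ).symm.trans ((congrArg (· ≫ t.1) (Category.comp_id φ.left)).trans (Over.w φ))
  let xs : Presieve.FamilyOfElements F.obj R'.arrows := fun Z φ hφ =>
    shriekVal (x ((Over.map g).map φ ≫ overBase g t) hφ) (htA φ hφ)
  have hxs : xs.Compatible := by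
    intro Y₁ Y₂ Z g₁ g₂ f₁ f₂ h₁ h₂ e
    refine (shriekVal_res g₁ _ (htA f₁ h₁)).symm.trans
      (Eq.trans (shriekVal_congr ?_ _ ((congrArg (g₂.left ≫ ·) (htA f₂ h₂)).trans (Over.w g₂)))
        (shriekVal_res g₂ _ (htA f₂ h₂)))
    refine hx _ _ h₁ h₂ ?_
    have e' := congrArg (fun k => (Over.map g).map k ≫ overBase g t) e
    simp only [Functor.map_comp, Category.assoc] at e'
    exact e' 
  obtain ⟨s, hs, hsu⟩ := hF R' hR'mem xs hxs
  refine ⟨⟨t, s⟩, fun Z φ hφ => ?_, ?_⟩
  · refine shriekObj_ext _ _ (ht φ hφ) ?_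
    let i : (Over.map g).obj (Over.mk (x φ hφ).1.1) ⟶ Z := overBase g (x φ hφ).1
    let k : Over.mk (x φ hφ).1.1 ⟶ Over.mk t.1 := Over.homMk φ.left (ht φ hφ)
    have hk : (Over.map g).map k ≫ overBase g t = i ≫ φ := Over.OverMorphism.ext
      ((Category.comp_id φ.left).trans (Category.id_comp φ.left).symm)
    have hk' : R' k := by
      show R ((Over.map g).map k ≫ overBase g t)
      rw [hk]
      exact R.downward_closed hφ i
    refine (map_map_eq _ _ k (Category.id_comp _) _).trans ((hs k hk').trans ?_)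
    have hx1 : x ((Over.map g).map k ≫ overBase g t) hk' = shriekRes g i (x φ hφ) :=
      Eq.trans (by congr 1) (hcomp i φ hφ)
    refine (shriekVal_congr hx1 (htA k hk') (Category.id_comp _)).trans ?_
    exact (map_map_eq _ _ (𝟙 _) (Category.id_comp _) _).trans (map_eq_self _ rfl _)
  · rintro ⟨t', s'⟩ h'
    have htt : t'.1 = t.1 := by
      have := hbu (ULift.up (Over.homMk t'.1 t'.2 : T ⟶ H)) fun Z φ hφ => by
        have e := congrArg (fun p : shriekObj g F Z => p.1.1) (h' φ hφ)
        exact ULift.ext _ _ (Over.OverMorphism.ext e)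
      exact congrArg CommaMorphism.left (congrArg ULift.down this)
    refine shriekObj_ext _ _ htt (hsu _ fun Z φ hφ => ?_)
    have e := h' ((Over.map g).map φ ≫ overBase g t) hφ
    refine Eq.trans ?_ (shriekVal_congr e ?_ (htA φ hφ))
    · exact map_map_left _ _ _ _ (by
        show φ.left ≫ 𝟙 _ = 𝟙 _ ≫ φ.left ≫ 𝟙 _
        rw [Category.id_comp]) _
    · show (φ.left ≫ 𝟙 _) ≫ t'.1 = Z.hom
      rw [Category.comp_id, htt]
      exact Over.w φ

/-- The extension of a sheaf. -/
def shriek : Sp S ⥤ Sp S' where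
  obj F := ⟨shriekP g F, (isSheaf_iff_isSheaf_of_type _ _).2 (isSheaf_shriekP g F)⟩
  map {F F'} α := ⟨
    { app := fun T => ↾fun p => ⟨p.1, α.hom.app _ p.2⟩
      naturality := fun T T' φ => by
        ext p
        refine shriekObj_ext ⟨(shriekRes g φ.unop p).1, α.hom.app _ (shriekRes g φ.unop p).2⟩
          (shriekRes g φ.unop (⟨p.1, α.hom.app _ p.2⟩ : shriekObj g F' (unop T))) rfl ?_
        exact (map_eq_self _ rfl _).trans (NatTrans.naturality_apply α.hom _ p.2) }⟩
  map_id F := by ext T p; rfl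
  map_comp α β := by ext T p; rfl

variable {g}

/-- The element of the extension given by a section. -/
abbrev shriekMk {F : Sp S} {Z : Over S} (s : F.obj.obj (op Z)) :
    shriekObj g F ((Over.map g).obj Z) :=
  ⟨⟨Z.hom, rfl⟩, F.obj.map (Over.homMk (𝟙 Z.left) (Category.id_comp _) : Over.mk Z.hom ⟶ Z).op s⟩

theorem shriekVal_shriekMk {F : Sp S} {Z : Over S} (s : F.obj.obj (op Z)) :
    shriekVal (shriekMk (g := g) s) rfl = s :=
  (map_map_eq _ _ (𝟙 Z) (Category.id_comp _) _).trans (map_eq_self _ rfl _)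

theorem shriekMk_shriekVal {F : Sp S} {Z : Over S} (p : shriekObj g F ((Over.map g).obj Z))
    (h : p.1.1 = Z.hom) : shriekMk (shriekVal p h) = p :=
  shriekObj_ext (shriekMk (shriekVal p h)) p h.symm
    ((map_map_eq _ _ (Over.homMk (𝟙 _) ((Category.id_comp _).trans h.symm) : Over.mk p.1.1 ⟶ Z) (Category.id_comp _)
      (shriekVal p h)).trans
      ((map_map_eq _ _ (𝟙 _) (Category.id_comp _) p.2).trans (map_eq_self _ rfl p.2)))

theorem shriekRes_shriekMk {F : Sp S} {Z Z' : Over S} (k : Z' ⟶ Z) (s : F.obj.obj (op Z)) :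
    shriekRes g ((Over.map g).map k) (shriekMk s) = shriekMk (F.obj.map k.op s) :=
  shriekObj_ext _ _ (Over.w k) ((map_map_eq _ _ (Over.homMk k.left (Over.w k)) (Category.id_comp _) _).trans
    (map_map_left _ _ _ _ ((Category.comp_id _).trans (Category.id_comp _).symm) _))

theorem shriekRes_overBase {F : Sp S} {T : Over S'} (p : shriekObj g F T) :
    shriekRes g (overBase g p.1) p = shriekMk p.2 :=
  shriekObj_ext (shriekRes g (overBase g p.1) p) (shriekMk p.2) (Category.id_comp _)
    ((map_map_eq _ _ (Over.homMk (𝟙 _) (Category.id_comp _) : Over.mk p.1.1 ⟶ Over.mk p.1.1)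
      (Category.id_comp _) p.2).trans rfl)

variable (g)

/-- The hom-set bijection of extension and restriction. -/
def shriekHomEquiv (F : Sp S) (G : Sp S') :
    ((shriek g).obj F ⟶ G) ≃ (F ⟶ (Scheme.fppfTopology.overMapPullback (Type (u + 1)) g).obj G) where
  toFun α := ⟨
    { app := fun Z => ↾fun s => α.hom.app (op ((Over.map g).obj (unop Z))) (shriekMk s)
      naturality := fun Z Z' k => by
        ext s
        exact (congrArg (fun p => α.hom.app _ p) (shriekRes_shriekMk k.unop s).symm).trans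
          (NatTrans.naturality_apply α.hom ((Over.map g).map k.unop).op (shriekMk s)) }⟩
  invFun β := ⟨
    { app := fun T => ↾fun p => G.obj.map
        (Over.homMk (𝟙 _) ((Category.id_comp _).trans p.1.2) :
          unop T ⟶ (Over.map g).obj (Over.mk p.1.1)).op (β.hom.app (op (Over.mk p.1.1)) p.2)
      naturality := fun T T' φ => by
        ext p
        refine (congrArg (G.obj.map _) (NatTrans.naturality_apply β.hom _ p.2)).trans ?_
        show G.obj.map _ (G.obj.map _ _) = G.obj.map _ (G.obj.map _ _)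
        rw [← Functor.map_comp_apply, ← Functor.map_comp_apply]
        congr 2 }⟩
  left_inv α := by
    ext T p
    refine (NatTrans.naturality_apply α.hom _ (shriekMk p.2)).symm.trans (congrArg _ ?_)
    exact shriekObj_ext _ _ (Category.id_comp _)
      (map_map_left _ _ (Over.homMk (𝟙 _) (Category.id_comp _)) (𝟙 _) rfl _ |>.trans
        ((congrArg _ (map_eq_self _ rfl _)).trans ((map_map_eq _ _ (𝟙 _) (Category.id_comp _) _).trans
          (map_eq_self _ rfl _))))
  right_inv β := by
    ext Z s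
    refine (congrArg (G.obj.map _) (NatTrans.naturality_apply β.hom _ s)).trans ?_
    show G.obj.map _ (G.obj.map _ _) = _
    rw [← Functor.map_comp_apply]
    refine Eq.trans ?_ (Functor.map_id_apply G.obj _ _)
    congr 2

/-- Extension is left adjoint to restriction. -/
def shriekAdj : shriek g ⊣ Scheme.fppfTopology.overMapPullback (Type (u + 1)) g :=
  Adjunction.mkOfHomEquiv
    { homEquiv := shriekHomEquiv g
      homEquiv_naturality_left_symm := fun _ _ => by ext T p; rfl
      homEquiv_naturality_right := fun _ _ => by ext Z s; rfl }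

/-- The comparison with the abstract left adjoint. -/
def shriekIso : (Over.map g).sheafPullback (Type (u + 1)) (J S) (J S') ≅ shriek g :=
  Adjunction.leftAdjointUniq
    ((Over.map g).sheafAdjunctionContinuous (Type (u + 1)) (J S) (J S')) (shriekAdj g)

end

end Groth.AlgSp3
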