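import Groth.Agent.AlgSp3.CutOut
import Groth.Agent.AlgSp2.InfGlue
import Groth.Agent.SpecFerrand.AlgSpPushout
import Groth.Agent.SpecFerrand.Covers
import Groth.Agent.ClosedGlue.Union

/-!
# The scheme theoretic union of two closed subspaces is their pushout
-/

set_option autoImplicit false
set_option backward.isDefEq.respectTransparency.types false
universe u

open CategoryTheory CategoryTheory.Limits AlgebraicGeometry Opposite AlgSp Groth.AlgSpBasic
open Groth.AlgSpCartier (subOver incl)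

namespace Groth.AlgSp3

/-- Two closed immersions satisfy the covering condition for pushouts. -/
theorem covers_of_isClosedImmersion {Z X Y : Scheme.{u}} (i : Z ⟶ X) (j : Z ⟶ Y)
    [IsClosedImmersion i] [IsClosedImmersion j] : Groth.SpecFerrand.Glue.Covers i j := by
  refine Groth.SpecFerrand.Glue.covers_of_fibres i j fun y => ?_
  by_cases h : ∃ z, j z = y
  · obtain ⟨z, rfl⟩ := h
    obtain ⟨U, hU, hzU, -⟩ :=
      exists_isAffineOpen_mem_and_subset (X := X) (x := i z) (U := ⊤) trivial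
    refine ⟨U, hU, fun z' hz' => ?_⟩
    rw [show z' = z from j.isClosedEmbedding.injective hz']
    exact hzU
  · exact ⟨⊥, isAffineOpen_bot X, fun z hz => absurd ⟨z, hz⟩ h⟩

theorem coversStable_of_isClosedImmersion {Z X Y : Scheme.{u}} (i : Z ⟶ X) (j : Z ⟶ Y)
    [IsClosedImmersion i] [IsClosedImmersion j] :
    Groth.SpecFerrand.AlgSpPush.CoversStable i j := by
  intro X' Y' Z' f g h i' j' _ _ _ _ hX hY
  have : IsClosedImmersion i' := MorphismProperty.of_isPullback hX inferInstance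
  have : IsClosedImmersion j' := MorphismProperty.of_isPullback hY inferInstance
  exact covers_of_isClosedImmersion i' j'

/-- Ideal sheaves agree if they do on affine opens seen as schemes. -/
theorem idealSheaf_ext_of_affine {T : Scheme.{u}} {K K' : T.IdealSheafData}
    (h : ∀ W : T.affineOpens, (K.comap W.1.ι).ideal ⟨⊤, @isAffineOpen_top _ W.2⟩ =
      (K'.comap W.1.ι).ideal ⟨⊤, @isAffineOpen_top _ W.2⟩) : K = K' := by
  refine Scheme.IdealSheafData.ext (funext fun W => ?_)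
  have : IsAffine W.1.toScheme := W.2
  have e := h W
  rw [Scheme.IdealSheafData.ideal_comap_of_isOpenImmersion,
    Scheme.IdealSheafData.ideal_comap_of_isOpenImmersion] at e
  have hW' : (⟨W.1.ι ''ᵁ ⊤, (isAffineOpen_top W.1.toScheme).image_of_isOpenImmersion W.1.ι⟩ :
      T.affineOpens) = W := Subtype.ext W.1.ι_image_top
  rw [← hW']
  exact Ideal.comap_injective_of_surjective _
    (ConcreteCategory.bijective_of_isIso (W.1.ι.appIso ⊤).inv).2 e

variable {S : Scheme.{u}} {X : Sp S} {I J K : IdealEt X}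

theorem comap_ideal_eq {Z : Sp S} {i : Z ⟶ X} (hi : IsCutOutBy I i) {T : Over S}
    {φ : (yon S).obj T ⟶ X} (hφ : RepWith @Etale φ) {IZ : T.left.IdealSheafData}
    {fZ : (yon S).obj (subOver T IZ) ⟶ Z}
    (sq : IsPullback fZ ((yon S).map (incl T IZ)) i φ) (W : T.left.affineOpens) :
    (IZ.comap W.1.ι).ideal ⟨⊤, @isAffineOpen_top _ W.2⟩ = I.ideal (affObj φ hφ W.1) W.2 := by
  obtain ⟨hi', rfl⟩ := hi
  have : IsAffine W.1.toScheme := W.2
  let k : Over.mk (W.1.ι ≫ T.hom) ⟶ T := Over.homMk W.1.ι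
  obtain ⟨f₁, sq₁⟩ := Groth.AlgSpCartier.exists_isPullback_comap hi' sq k
  exact (Groth.AlgSpCartier.idealOfRep_ideal hi' (affObj φ hφ W.1) W.2 _ f₁ sq₁).symm

variable {Y Z W V : Sp S} {iY : Y ⟶ X} {iZ : Z ⟶ X} {w : W ⟶ X} {v : V ⟶ X}
  (hY : IsCutOutBy I iY) (hZ : IsCutOutBy J iZ) (hW : IsCutOutBy K w) (hV : IsCutOutBy (I ⊔ J) v)
  (hK : ∀ (E : EtOver X) (hE : IsAffine E.obj.left.left), K.ideal E hE = I.ideal E hE ⊓ J.ideal E hE)
  {a : Y ⟶ W} {b : Z ⟶ W} {c : V ⟶ Y} {d : V ⟶ Z}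
  (ha : a ≫ w = iY) (hb : b ≫ w = iZ) (hc : c ≫ iY = v) (hd : d ≫ iZ = v)

include hY hZ hW hV hK ha hb hc hd in
/-- Over a chart the union is the pushout of the pieces. -/
theorem exists_chart_pushout {T : Over S} {φ : (yon S).obj T ⟶ X} (hφ : RepWith @Etale φ) :
    ∃ (V₁ Y₁ Z₁ W₁ : Over S) (c₁ : V₁ ⟶ Y₁) (d₁ : V₁ ⟶ Z₁) (a₁ : Y₁ ⟶ W₁) (b₁ : Z₁ ⟶ W₁)
      (fV : (yon S).obj V₁ ⟶ V) (fY : (yon S).obj Y₁ ⟶ Y) (fZ : (yon S).obj Z₁ ⟶ Z)
      (fW : (yon S).obj W₁ ⟶ W) (k : W₁ ⟶ T),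
      IsClosedImmersion c₁.left ∧ IsClosedImmersion d₁.left ∧ IsPushout c₁ d₁ a₁ b₁ ∧
      IsPullback fW ((yon S).map k) w φ ∧
      IsPullback fY ((yon S).map a₁) a fW ∧ IsPullback fZ ((yon S).map b₁) b fW ∧
      fV ≫ c = (yon S).map c₁ ≫ fY ∧ fV ≫ d = (yon S).map d₁ ≫ fZ := by
  have hiY := hY.1
  have hiZ := hZ.1
  have hwc := hW.1
  have hvc := hV.1
  obtain ⟨IY, fY, sqY⟩ := Groth.AlgSpCartier.exists_ideal hiY φ
  obtain ⟨IZ, fZ, sqZ⟩ := Groth.AlgSpCartier.exists_ideal hiZ φ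
  obtain ⟨IW, fW, sqW⟩ := Groth.AlgSpCartier.exists_ideal hwc φ
  obtain ⟨IV, fV, sqV⟩ := Groth.AlgSpCartier.exists_ideal hvc φ
  obtain rfl : IW = IY ⊓ IZ := idealSheaf_ext_of_affine fun O => by
    have : IsAffine O.1.toScheme := O.2
    rw [comap_ideal_eq hW hφ sqW, hK, ← comap_ideal_eq hY hφ sqY O, ← comap_ideal_eq hZ hφ sqZ O]
    rw [Scheme.IdealSheafData.ideal_comap_of_isOpenImmersion,
      Scheme.IdealSheafData.ideal_comap_of_isOpenImmersion,
      Scheme.IdealSheafData.ideal_comap_of_isOpenImmersion, Scheme.IdealSheafData.ideal_inf]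
    exact (Ideal.comap_inf _ _ _).symm
  obtain rfl : IV = IY ⊔ IZ := idealSheaf_ext_of_affine fun O => by
    rw [comap_ideal_eq hV hφ sqV, IdealEt.sup_ideal, ← comap_ideal_eq hY hφ sqY O,
      ← comap_ideal_eq hZ hφ sqZ O, Scheme.IdealSheafData.comap_sup,
      Scheme.IdealSheafData.ideal_sup]
    rfl
  let incM : ∀ {A B : T.left.IdealSheafData}, A ≤ B → (subOver T B ⟶ subOver T A) := fun {A B} h =>
    Over.homMk (Scheme.IdealSheafData.inclusion h) (by
      show Scheme.IdealSheafData.inclusion h ≫ A.subschemeι ≫ T.hom = B.subschemeι ≫ T.hom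
      rw [← Category.assoc, Scheme.IdealSheafData.inclusion_subschemeι])
  have hincM : ∀ {A B : T.left.IdealSheafData} (h : A ≤ B), incM h ≫ incl T A = incl T B :=
    fun h => Over.OverMorphism.ext (Scheme.IdealSheafData.inclusion_subschemeι h)
  have hmY : Mono iY := mono_of_repWith (fun _ _ g (_ : IsClosedImmersion g) => inferInstance) hiY
  have hmZ : Mono iZ := mono_of_repWith (fun _ _ g (_ : IsClosedImmersion g) => inferInstance) hiZ
  have hmW : Mono w := mono_of_repWith (fun _ _ g (_ : IsClosedImmersion g) => inferInstance) hwc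
  have hcl : ∀ {A B : T.left.IdealSheafData} (h : A ≤ B),
      IsClosedImmersion (Scheme.IdealSheafData.inclusion h) := fun {A B} h => by
    have : IsClosedImmersion (Scheme.IdealSheafData.inclusion h ≫ A.subschemeι) := by
      rw [Scheme.IdealSheafData.inclusion_subschemeι]; infer_instance
    exact IsClosedImmersion.of_comp _ A.subschemeι
  refine ⟨_, _, _, _, incM le_sup_left, incM le_sup_right, incM inf_le_left, incM inf_le_right,
    fV, fY, fZ, fW, incl T (IY ⊓ IZ), hcl _, hcl _, ?_, sqW, ?_, ?_, ?_, ?_⟩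
  · exact IsPushout.of_map (Over.forget S)
      (Over.OverMorphism.ext (Groth.ClosedGlue.unionData IY IZ).isPushout.w)
      (Groth.ClosedGlue.unionData IY IZ).isPushout
  · refine IsPullback.of_bot ?_ ?_ sqW
    · rw [← Functor.map_comp, hincM, ha]; exact sqY
    · rw [← cancel_mono w, Category.assoc, Category.assoc, ha, sqY.w, sqW.w, ← Category.assoc,
        ← Functor.map_comp, hincM]
  · refine IsPullback.of_bot ?_ ?_ sqW
    · rw [← Functor.map_comp, hincM, hb]; exact sqZ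
    · rw [← cancel_mono w, Category.assoc, Category.assoc, hb, sqZ.w, sqW.w, ← Category.assoc,
        ← Functor.map_comp, hincM]
  · rw [← cancel_mono iY, Category.assoc, Category.assoc, hc, sqV.w, sqY.w, ← Category.assoc,
      ← Functor.map_comp, hincM]
  · rw [← cancel_mono iZ, Category.assoc, Category.assoc, hd, sqV.w, sqZ.w, ← Category.assoc,
      ← Functor.map_comp, hincM]

include hY hZ hW hV hK ha hb hc hd in
/-- Morphisms out of the pieces glue to a morphism out of the union. -/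
theorem existsUnique_desc_union (hX : IsAlgSpace X) (F : Space S) (f : Y ⟶ F.obj)
    (g : Z ⟶ F.obj) (hfg : c ≫ f = d ≫ g) : ∃! τ : W ⟶ F.obj, a ≫ τ = f ∧ b ≫ τ = g := by
  obtain ⟨U, p, hp, hps⟩ := hX.atlas
  obtain ⟨V₁, Y₁, Z₁, W₁, c₁, d₁, a₁, b₁, fV, fY, fZ, fW, k, hc₁, hd₁, hpo, sqW, eY, eZ, eVY, eVZ⟩ :=
    exists_chart_pushout hY hZ hW hV hK ha hb hc hd hp
  have hqe : RepWith @Etale fW := repWith_of_isPullback sqW.flip hp
  have hqs : RepWith @Surjective fW := repWith_of_isPullback sqW.flip hps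
  obtain ⟨h, hha, hhb⟩ := Groth.SpecFerrand.AlgSpPush.exists_desc
    (covers_of_isClosedImmersion c₁.left d₁.left) (coversStable_of_isClosedImmersion _ _) hpo F
    (fY ≫ f) (fZ ≫ g) (by rw [← Category.assoc, ← eVY, Category.assoc, hfg, ← Category.assoc, eVZ,
      Category.assoc])
  -- compatibility on the overlap
  have hcomp : ∀ (A : Over S) (α β : (yon S).obj A ⟶ (yon S).obj W₁), α ≫ fW = β ≫ fW →
      α ≫ h = β ≫ h := by
    intro A α β e
    obtain ⟨R, t, s, sqR⟩ := exists_pullback_of_diag hX.diag p p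
    have hte : RepWith @Etale ((yon S).map t ≫ p) :=
      repWith_comp (repWith_of_isPullback sqR.flip hp) hp
    obtain ⟨V₂, Y₂, Z₂, W₂, c₂, d₂, a₂, b₂, gV, gY, gZ, gW, k₂, -, -, hpo₂, sqW₂, eY₂, eZ₂, -, -⟩ :=
      exists_chart_pushout hY hZ hW hV hK ha hb hc hd hte
    -- the two maps to the first chart
    have w₁ : gW ≫ w = (yon S).map (k₂ ≫ t) ≫ p := by
      rw [sqW₂.w, Functor.map_comp, Category.assoc]
    have w₂ : gW ≫ w = (yon S).map (k₂ ≫ s) ≫ p := by
      rw [sqW₂.w, sqR.w, Functor.map_comp, Category.assoc]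
    let u₁ := sqW.lift gW _ w₁
    let u₂ := sqW.lift gW _ w₂
    have hresY : ∀ u : (yon S).obj W₂ ⟶ (yon S).obj W₁, u ≫ fW = gW →
        (yon S).map a₂ ≫ u ≫ h = gY ≫ f := fun u hu => by
      rw [← Category.assoc,
        ← eY.lift_snd gY ((yon S).map a₂ ≫ u) (by rw [Category.assoc, hu, eY₂.w]), Category.assoc,
        hha, ← Category.assoc, eY.lift_fst]
    have hresZ : ∀ u : (yon S).obj W₂ ⟶ (yon S).obj W₁, u ≫ fW = gW →
        (yon S).map b₂ ≫ u ≫ h = gZ ≫ g := fun u hu => by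
      rw [← Category.assoc,
        ← eZ.lift_snd gZ ((yon S).map b₂ ≫ u) (by rw [Category.assoc, hu, eZ₂.w]), Category.assoc,
        hhb, ← Category.assoc, eZ.lift_fst]
    have hu : u₁ ≫ h = u₂ ≫ h := Groth.SpecFerrand.AlgSpPush.hom_ext_yon hpo₂ F
      ((hresY u₁ (sqW.lift_fst _ _ _)).trans (hresY u₂ (sqW.lift_fst _ _ _)).symm)
      ((hresZ u₁ (sqW.lift_fst _ _ _)).trans (hresZ u₂ (sqW.lift_fst _ _ _)).symm)
    obtain ⟨r, hr⟩ := (yon S).map_surjective (sqR.lift (α ≫ (yon S).map k) (β ≫ (yon S).map k) (by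
      rw [Category.assoc, Category.assoc, ← sqW.w, ← Category.assoc, e, Category.assoc]))
    let l := sqW₂.lift (α ≫ fW) ((yon S).map r) (by
      rw [Category.assoc, sqW.w, ← Category.assoc ((yon S).map r), hr, sqR.lift_fst,
        Category.assoc])
    have hl₁ : l ≫ u₁ = α := sqW.hom_ext
      (by rw [Category.assoc, sqW.lift_fst, sqW₂.lift_fst])
      (by rw [Category.assoc, sqW.lift_snd, Functor.map_comp, ← Category.assoc, sqW₂.lift_snd, hr,
        sqR.lift_fst])
    have hl₂ : l ≫ u₂ = β := sqW.hom_ext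
      (by rw [Category.assoc, sqW.lift_fst, sqW₂.lift_fst, e])
      (by rw [Category.assoc, sqW.lift_snd, Functor.map_comp, ← Category.assoc, sqW₂.lift_snd, hr,
        sqR.lift_snd])
    rw [← hl₁, ← hl₂, Category.assoc, Category.assoc, hu]
  obtain ⟨τ, hτ⟩ := Groth.AlgSp2.exists_desc_of_etale fW hqe hqs h hcomp
  refine ⟨τ, ⟨?_, ?_⟩, fun τ' hτ' => ?_⟩
  · refine Groth.AlgSp2.hom_ext_of_etale fY (repWith_of_isPullback eY.flip hqe)
      (repWith_of_isPullback eY.flip hqs) ?_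
    rw [← Category.assoc, eY.w, Category.assoc, hτ, hha]
  · refine Groth.AlgSp2.hom_ext_of_etale fZ (repWith_of_isPullback eZ.flip hqe)
      (repWith_of_isPullback eZ.flip hqs) ?_
    rw [← Category.assoc, eZ.w, Category.assoc, hτ, hhb]
  · refine Groth.AlgSp2.hom_ext_of_etale fW hqe hqs (hτ ▸ ?_)
    refine Groth.SpecFerrand.AlgSpPush.hom_ext_yon hpo F ?_ ?_
    · rw [← Category.assoc, ← eY.w, Category.assoc, hτ'.1, hha]
    · rw [← Category.assoc, ← eZ.w, Category.assoc, hτ'.2, hhb]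

include ha in
/-- The inclusions of the pieces into the union are closed immersions. -/
theorem repWith_closed_inclusion (hY : IsCutOutBy I iY) (hW : IsCutOutBy K w) :
    RepWith @IsClosedImmersion a := by
  have : Mono w := mono_of_repWith (fun _ _ g (_ : IsClosedImmersion g) => inferInstance) hW.1
  exact repWith_of_isPullback (f := iY) (f' := a) (a := 𝟙 Y) (b := w)
    ⟨⟨by simp [ha]⟩, ⟨PullbackCone.IsLimit.mk _ (fun s => s.fst) (fun s => by simp)
      (fun s => by rw [← cancel_mono w, Category.assoc, ha]; exact s.condition)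
      (fun s m h₁ _ => by simpa using h₁)⟩⟩ hY.1

end Groth.AlgSp3
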