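import Groth.Prelude.Def_AlgSpMor5
import Groth.Agent.AlgSpBasic.Points
import Groth.Agent.AlgSpBasic.Topology
import Groth.Agent.AlgSpBasic.AlgSpace
import Groth.Agent.AlgSpBasic.LocPInst
import Mathlib.AlgebraicGeometry.ValuativeCriterion
import Mathlib.RingTheory.Unramified.Field
import Mathlib.AlgebraicGeometry.Morphisms.QuasiFinite
import Mathlib.AlgebraicGeometry.Morphisms.Etale

/-!
# Valuation rings centred at specializations
-/

set_option autoImplicit false
set_option backward.isDefEq.respectTransparency.types false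
universe u

open CategoryTheory CategoryTheory.Limits AlgebraicGeometry Opposite AlgSp

namespace Groth.AlgSp3

open Groth.AlgSpBasic

noncomputable section

/-- A specialization below the image of a point is realised by a valuation ring of the residue
field of that point. -/
theorem exists_valuation_center {F T : Scheme.{u}} (m : F ⟶ T) {φ : F} {t : T} (h : m φ ⤳ t) :
    ∃ (A : ValuationSubring (F.residueField φ)) (g : Spec (.of A) ⟶ T),
      F.fromSpecResidueField φ ≫ m =
        Spec.map (CommRingCat.ofHom (algebraMap A (F.residueField φ))) ≫ g ∧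
      g (IsLocalRing.closedPoint A) = t := by
  let σ : T.presheaf.stalk t ⟶ F.residueField φ :=
    T.presheaf.stalkSpecializes h ≫ T.residue _ ≫ m.residueFieldMap φ
  obtain ⟨A, hA, hAloc⟩ := IsLocalRing.exists_factor_valuationRing σ.hom
  let τ : T.presheaf.stalk t ⟶ CommRingCat.of A := CommRingCat.ofHom (σ.hom.codRestrict _ hA)
  refine ⟨A, Spec.map τ ≫ T.fromSpecStalk t, ?_, ?_⟩
  · rw [← Scheme.Hom.SpecMap_residueFieldMap_fromSpecResidueField, Scheme.fromSpecResidueField,
      ← Scheme.SpecMap_stalkSpecializes_fromSpecStalk h]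
    simp only [← Spec.map_comp_assoc]
    rfl
  · have hτ : Spec.map τ (IsLocalRing.closedPoint A) =
        IsLocalRing.closedPoint (T.presheaf.stalk t) :=
      IsLocalRing.comap_closedPoint (S := A) (σ.hom.codRestrict A.toSubring hA)
    rw [Scheme.Hom.comp_apply, hτ, T.fromSpecStalk_closedPoint]

/-- The generic point of a domain specializes to every point. -/
theorem specializes_of_fraction {A K : Type u} [CommRing A] [IsDomain A] [Field K] [Algebra A K]
    [IsFractionRing A K] (z : Spec (CommRingCat.of K)) (x : Spec (CommRingCat.of A)) :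
    Spec.map (CommRingCat.ofHom (algebraMap A K)) z ⤳ x := by
  let z' : PrimeSpectrum K := z
  let x' : PrimeSpectrum A := x
  have h : (PrimeSpectrum.comap (algebraMap A K) z').asIdeal ≤ x'.asIdeal := by
    have hz : z'.asIdeal = ⊥ := (Ideal.eq_bot_or_top z'.asIdeal).resolve_right z'.2.ne_top
    rw [PrimeSpectrum.comap_asIdeal, hz, Ideal.comap_bot_of_injective _
      (IsFractionRing.injective A K)]
    exact bot_le
  exact (PrimeSpectrum.le_iff_specializes (PrimeSpectrum.comap (algebraMap A K) z') x').1 h

/-- A local map of local rings from the behaviour of closed points. -/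
theorem isLocalHom_of_closedPoint {A B : Type u} [CommRing A] [CommRing B] [IsLocalRing A]
    [IsLocalRing B] (φ : A →+* B)
    (h : Spec.map (CommRingCat.ofHom φ) (IsLocalRing.closedPoint B) = IsLocalRing.closedPoint A) :
    IsLocalHom φ :=
  (IsLocalRing.isLocalHom_iff_comap_closedPoint φ).2 h

/-- The residue field of a point of an etale scheme over a field is finite separable. -/
theorem finite_separable_residueField {T : Scheme.{u}} {K : Type u} [Field K]
    (f : T ⟶ Spec (.of K)) [Etale f] (t : T) {ψ : CommRingCat.of K ⟶ T.residueField t}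
    (hψ : Spec.map ψ = T.fromSpecResidueField t ≫ f) :
    (letI := ψ.hom.toAlgebra;
      Module.Finite K (T.residueField t) ∧ Algebra.IsSeparable K (T.residueField t)) := by
  have hcl : IsClosed {t} := by
    have := Groth.AlgSpBasic.locallyQuasiFinite_of_formallyUnramified f
    have h1 := f.isDiscrete_preimage_singleton (f t)
    have h2 : f ⁻¹' {f t} = Set.univ := by
      ext y
      simp only [Set.mem_preimage, Set.mem_singleton_iff, Set.mem_univ, iff_true]
      exact Subsingleton.elim (α := PrimeSpectrum K) _ _
    rw [h2, isDiscrete_univ_iff] at h1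
    exact isClosed_discrete _
  have : IsClosedImmersion (T.fromSpecResidueField t) :=
    isClosed_singleton_iff_isClosedImmersion.1 hcl
  have : Mono (T.fromSpecResidueField t) := inferInstance
  have : FormallyUnramified (T.fromSpecResidueField t) := inferInstance
  have hu : FormallyUnramified (Spec.map ψ) := by
    rw [hψ]
    exact MorphismProperty.comp_mem (W := (@FormallyUnramified : MorphismProperty Scheme.{u}))
      _ _ inferInstance inferInstance
  have hft : LocallyOfFiniteType (Spec.map ψ) := by rw [hψ]; infer_instance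
  rw [HasRingHomProperty.Spec_iff (P := @FormallyUnramified)] at hu
  rw [HasRingHomProperty.Spec_iff (P := @LocallyOfFiniteType)] at hft
  algebraize [ψ.hom]
  exact ⟨Algebra.FormallyUnramified.finite_of_free K (T.residueField t),
    Algebra.FormallyUnramified.isSeparable K (T.residueField t)⟩

variable {S : Scheme.{u}} {X Y : Sp S} {f : X ⟶ Y}

/-- A generization in the base change of the top arrow to a chart, specializing to a point over the
closed point, gives a lift of the square after extending the valuation ring to the residue field. -/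
theorem exists_lift_of_specializes (sq : ValSq f) {W : Over S} {w : (yon S).obj W ⟶ X}
    {α : W ⟶ sq.ptA} (hα : w ≫ f = (yon S).map α ≫ sq.bot) {F : Over S} {fw : F ⟶ W}
    {fk : F ⟶ sq.ptK} (hF₁ : (yon S).map fw ≫ w = (yon S).map fk ≫ sq.top)
    (hF₂ : fw ≫ α = fk ≫ sq.j) {φ : F.left} {q : W.left} (h : fw.left φ ⤳ q)
    (hq : α.left q = IsLocalRing.closedPoint sq.A) :
    ∃ e : sq.DomExt, e.HasLift ∧ (Etale fk.left →
      (letI := e.ψ.toAlgebra; Module.Finite sq.K e.K' ∧ Algebra.IsSeparable sq.K e.K')) := by
  obtain ⟨A', g, hg, hgc⟩ := exists_valuation_center fw.left h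
  let η := Spec.map (CommRingCat.ofHom (algebraMap A' (F.left.residueField φ)))
  have hη : η ≫ g = F.left.fromSpecResidueField φ ≫ fw.left := hg.symm
  let a : Spec (.of A') ⟶ Spec (.of sq.A) := g ≫ α.left
  let k : Spec (F.left.residueField φ) ⟶ Spec (.of sq.K) := F.left.fromSpecResidueField φ ≫ fk.left
  have hcomm : η ≫ a = k ≫ sq.j.left := by
    simp only [a, k, ← Category.assoc, hη]
    rw [Category.assoc, ← Over.comp_left, hF₂, Over.comp_left, ← Category.assoc]
  let e : sq.DomExt :=
    { A' := A'
      K' := F.left.residueField φ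
      φ := (Spec.preimage a).hom
      ψ := (Spec.preimage k).hom
      comm := by
        have : Spec.preimage a ≫ CommRingCat.ofHom (algebraMap A' (F.left.residueField φ)) =
            CommRingCat.ofHom (algebraMap sq.A sq.K) ≫ Spec.preimage k := by
          apply Spec.map_injective
          rw [Spec.map_comp, Spec.map_comp, Spec.map_preimage, Spec.map_preimage]
          exact hcomm
        exact congrArg CommRingCat.Hom.hom this
      isLocalHom := isLocalHom_of_closedPoint _ (by
        rw [CommRingCat.ofHom_hom, Spec.map_preimage]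
        show α.left (g _) = _
        rw [hgc, hq]) }
  have hea : Spec.map (CommRingCat.ofHom e.φ) = a := by
    rw [CommRingCat.ofHom_hom, Spec.map_preimage]
  have hek : Spec.map (CommRingCat.ofHom e.ψ) = k := by
    rw [CommRingCat.ofHom_hom, Spec.map_preimage]
  let gO : e.ptA' ⟶ W := Over.homMk g (by
    show g ≫ W.hom = Spec.map (CommRingCat.ofHom e.φ) ≫ sq.str
    rw [hea, ← Over.w α, Category.assoc]
    rfl)
  refine ⟨e, ⟨(yon S).map gO ≫ w, ?_, ?_⟩, fun het => ?_⟩
  · let xO : e.ptK' ⟶ F := Over.homMk (F.left.fromSpecResidueField φ) (by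
      show F.left.fromSpecResidueField φ ≫ F.hom =
        η ≫ Spec.map (CommRingCat.ofHom e.φ) ≫ sq.str
      rw [hea, ← Over.w fk, ← Category.assoc η, hcomm, Category.assoc, ← Category.assoc k]
      rfl)
    rw [← Category.assoc, ← Functor.map_comp]
    rw [show Over.homMk (Spec.map (CommRingCat.ofHom (algebraMap e.A' e.K'))) rfl ≫ gO = xO ≫ fw from
      Over.OverMorphism.ext hη, Functor.map_comp, Category.assoc, hF₁, ← Category.assoc,
      ← Functor.map_comp]
    congr 2
    exact Over.OverMorphism.ext hek.symm
  · rw [Category.assoc, hα, ← Category.assoc, ← Functor.map_comp]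
    congr 2
    exact Over.OverMorphism.ext hea.symm
  · have := het
    exact finite_separable_residueField fk.left φ (ψ := Spec.preimage k) (Spec.map_preimage k)

/-- The trivial extension. -/
theorem hasLiftExt_of_hasLift (sq : ValSq f) (h : sq.HasLift) : sq.HasLiftExt := by
  obtain ⟨l, hl₁, hl₂⟩ := h
  let e : sq.DomExt :=
    { A' := sq.A
      K' := sq.K
      φ := RingHom.id _
      ψ := RingHom.id _
      comm := rfl
      isLocalHom := ⟨fun _ ha => ha⟩ }
  let c : e.ptA' ⟶ sq.ptA := Over.homMk (Spec.map (CommRingCat.ofHom e.φ)) rfl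
  refine ⟨e, (yon S).map c ≫ l, ?_, by rw [Category.assoc, hl₂]⟩
  rw [← hl₁, ← Category.assoc, ← Category.assoc, ← Functor.map_comp, ← Functor.map_comp]
  congr 2
  exact Over.OverMorphism.ext (by
    show Spec.map (CommRingCat.ofHom (algebraMap sq.A sq.K)) ≫
        Spec.map (CommRingCat.ofHom (RingHom.id sq.A)) =
      Spec.map (CommRingCat.ofHom (RingHom.id sq.K)) ≫
        Spec.map (CommRingCat.ofHom (algebraMap sq.A sq.K))
    rw [← Spec.map_comp, ← Spec.map_comp]
    rfl)

theorem existVC_of_existVCStrict (h : ExistVCStrict f) : ExistVC f := fun sq =>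
  hasLiftExt_of_hasLift sq (h sq)

/-- The existence part of the valuative criterion is stable under base change. -/
theorem existVC_of_isPullback {X' Y' : Sp S} {g : Y' ⟶ Y} {fst : X' ⟶ X} {f' : X' ⟶ Y'}
    (sqf : IsPullback fst f' f g) (h : ExistVC f) : ExistVC f' := by
  intro v
  let v' : ValSq f := { A := v.A, K := v.K, str := v.str, top := v.top ≫ fst, bot := v.bot ≫ g,
                        comm := by rw [Category.assoc, sqf.w, ← Category.assoc, v.comm, Category.assoc] }
  obtain ⟨e, l, hl, hl'⟩ := h v'
  let e' : v.DomExt := { A' := e.A', K' := e.K', φ := e.φ, ψ := e.ψ, comm := e.comm,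
                         isLocalHom := e.isLocalHom }
  let pA : e'.ptA' ⟶ v.ptA := Over.homMk (Spec.map (CommRingCat.ofHom e'.φ)) rfl
  let pK : e'.ptK' ⟶ v.ptK := Over.homMk (Spec.map (CommRingCat.ofHom e'.ψ)) (by
    change Spec.map _ ≫ Spec.map _ ≫ _ = Spec.map _ ≫ Spec.map _ ≫ _
    rw [← Spec.map_comp_assoc, ← Spec.map_comp_assoc, ← CommRingCat.ofHom_comp,
      ← CommRingCat.ofHom_comp, e'.comm])
  let jj : e'.ptK' ⟶ e'.ptA' :=
    Over.homMk (Spec.map (CommRingCat.ofHom (algebraMap e'.A' e'.K'))) rfl
  have ej : jj ≫ pA = pK ≫ v.j := Over.OverMorphism.ext (by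
    show Spec.map _ ≫ Spec.map _ = Spec.map _ ≫ Spec.map _
    rw [← Spec.map_comp, ← Spec.map_comp, ← CommRingCat.ofHom_comp, ← CommRingCat.ofHom_comp,
      e'.comm])
  let l₀ : (yon S).obj e'.ptA' ⟶ X := l
  have hl₀ : l₀ ≫ f = ((yon S).map pA ≫ v.bot) ≫ g := hl'.trans (Category.assoc _ _ _).symm
  have hl₁ : (yon S).map jj ≫ l₀ = (yon S).map pK ≫ v.top ≫ fst := hl
  refine ⟨e', sqf.lift l₀ ((yon S).map pA ≫ v.bot) hl₀, ?_, sqf.lift_snd _ _ _⟩
  show (yon S).map jj ≫ sqf.lift l₀ _ hl₀ = (yon S).map pK ≫ v.top
  apply sqf.hom_ext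
  · rw [Category.assoc, sqf.lift_fst, Category.assoc]
    exact hl₁
  · rw [Category.assoc, sqf.lift_snd, Category.assoc, v.comm, ← Category.assoc,
      ← Functor.map_comp, ej, Functor.map_comp, Category.assoc]

end

end Groth.AlgSp3
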