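import Groth.Agent.Ega2Proj.CompositeValuation
import Mathlib.RingTheory.LocalRing.ResidueField.Ideal
import Mathlib.RingTheory.Valuation.LocalSubring
import Mathlib.RingTheory.MvPolynomial
import Mathlib.RingTheory.Localization.AtPrime.Basic
import Mathlib.Algebra.MvPolynomial.Nilpotent

/-!
# Gluing valuation rings
-/

set_option autoImplicit false
universe u

open IsLocalRing

namespace Groth.AlgSp3

noncomputable section

/-- A valuation ring extends so that its residue field receives a given extension of residue fields. -/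
theorem exists_residue_extension {L : Type u} [Field L] (R₁ : ValuationSubring L) {Ω : Type u}
    [Field Ω] (π : R₁ →+* Ω) [IsLocalHom π] :
    ∃ (L₂ : Type u) (_ : Field L₂) (R₂ : ValuationSubring L₂) (ι₁ : L →+* L₂) (φ₂ : R₁ →+* R₂)
      (ι : Ω →+* ResidueField R₂),
      R₂.subtype.comp φ₂ = ι₁.comp R₁.subtype ∧ (residue R₂).comp φ₂ = ι.comp π := by
  let Q := MvPolynomial Ω R₁
  let ev : Q →+* Ω := MvPolynomial.eval₂Hom π id
  let P : Ideal Q := RingHom.ker ev
  have : P.IsPrime := RingHom.ker_isPrime ev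
  let D := Localization.AtPrime P
  let L₂ := FractionRing Q
  have hle : P.primeCompl ≤ nonZeroDivisors Q := P.primeCompl_le_nonZeroDivisors
  let e : D →+* L₂ := IsLocalization.map L₂ (RingHom.id Q) (T := nonZeroDivisors Q) hle
  obtain ⟨R₂, hR₂, hloc⟩ := IsLocalRing.exists_factor_valuationRing (R := D) e
  let d : D →+* R₂ := e.codRestrict R₂.toSubring hR₂
  have : IsLocalHom d := hloc
  -- the constants
  let c : R₁ →+* D := (algebraMap Q D).comp MvPolynomial.C
  -- the residue field of `D` receives `Ω`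
  have hev : Function.Surjective ev := fun z =>
    ⟨MvPolynomial.X z, MvPolynomial.eval₂Hom_X' π id z⟩
  have hkP : RingHom.ker ev ≤ RingHom.ker (algebraMap Q P.ResidueField) :=
    P.ker_algebraMap_residueField.ge
  let ιD : Ω →+* ResidueField D := ev.liftOfSurjective hev ⟨algebraMap Q P.ResidueField, hkP⟩
  have hιD : ∀ q : Q, ιD (ev q) = residue D (algebraMap Q D q) := fun q =>
    RingHom.liftOfRightInverse_comp_apply ev _ _ ⟨algebraMap Q P.ResidueField, hkP⟩ q
  let ι₁ : L →+* L₂ := IsFractionRing.lift (A := R₁) (g := (algebraMap Q L₂).comp MvPolynomial.C)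
    ((IsFractionRing.injective Q L₂).comp (MvPolynomial.C_injective _ _))
  refine ⟨L₂, inferInstance, R₂, ι₁, d.comp c, (ResidueField.map d).comp ιD, ?_, ?_⟩
  · ext z
    show e (algebraMap Q D (MvPolynomial.C z)) = ι₁ (algebraMap R₁ L z)
    rw [IsFractionRing.lift_algebraMap, IsLocalization.map_eq]
    rfl
  · ext z
    show residue R₂ (d (algebraMap Q D (MvPolynomial.C z))) = ResidueField.map d (ιD (π z))
    rw [show π z = ev (MvPolynomial.C z) from (MvPolynomial.eval₂Hom_C π id z).symm, hιD]
    rfl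

open Groth.Ega2Proj in
/-- The inclusion of a composite valuation ring into the bigger one. -/
def compositeIncl {F : Type u} [Field F] (B : ValuationSubring F)
    (C : ValuationSubring (ResidueField B)) : composite B C →+* B where
  toFun x := ⟨x, ((mem_composite_iff B C x).1 x.2).1⟩
  map_one' := rfl
  map_mul' _ _ := rfl
  map_zero' := rfl
  map_add' _ _ := rfl

open Groth.Ega2Proj in
/-- The residue map of a composite valuation ring. -/
def compositeRes {F : Type u} [Field F] (B : ValuationSubring F)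
    (C : ValuationSubring (ResidueField B)) : composite B C →+* C :=
  ((residue B).comp (compositeIncl B C)).codRestrict C.toSubring fun x =>
    ((mem_composite_iff B C x).1 x.2).2

open Groth.Ega2Proj in
theorem compositeRes_surjective {F : Type u} [Field F] (B : ValuationSubring F)
    (C : ValuationSubring (ResidueField B)) : Function.Surjective (compositeRes B C) := fun c => by
  obtain ⟨b, hb⟩ := residue_surjective (c : ResidueField B)
  refine ⟨⟨b, (mem_composite_iff B C b).2 ⟨b.2, ?_⟩⟩, Subtype.ext ?_⟩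
  · show residue B b ∈ C
    rw [hb]; exact c.2
  · exact hb

open Groth.Ega2Proj in
/-- An extension of a composite valuation ring decomposes into extensions of its two pieces. -/
theorem exists_composite_extension {L₂ : Type u} [Field L₂] (R₂ : ValuationSubring L₂)
    (A₃ : ValuationSubring (ResidueField R₂)) {B' L₂' : Type u} [CommRing B'] [IsDomain B']
    [ValuationRing B'] [Field L₂'] [Algebra B' L₂'] [IsFractionRing B' L₂']
    (φ' : composite R₂ A₃ →+* B') (ψ' : L₂ →+* L₂')
    (hcomm : (algebraMap B' L₂').comp φ' = ψ'.comp (algebraMap (composite R₂ A₃) L₂))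
    [IsLocalHom φ'] :
    ∃ (A₄ : Type u) (_ : CommRing A₄) (_ : IsDomain A₄) (_ : ValuationRing A₄) (k₄ : Type u)
      (_ : Field k₄) (_ : Algebra A₄ k₄) (_ : IsFractionRing A₄ k₄)
      (R₂' : Type u) (_ : CommRing R₂') (_ : IsDomain R₂') (_ : ValuationRing R₂')
      (_ : Algebra R₂' L₂') (_ : IsFractionRing R₂' L₂')
      (φ₄ : A₃ →+* A₄) (ψ₄ : ResidueField R₂ →+* k₄) (q : B' →+* A₄) (s : B' →+* R₂')
      (r : R₂ →+* R₂') (res' : R₂' →+* k₄),
      IsLocalHom φ₄ ∧ s.comp φ' = r.comp (compositeIncl R₂ A₃) ∧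
      (algebraMap R₂' L₂').comp s = algebraMap B' L₂' ∧
      (algebraMap R₂' L₂').comp r = ψ'.comp R₂.subtype ∧
      (algebraMap A₄ k₄).comp q = res'.comp s ∧ res'.comp r = ψ₄.comp (residue R₂) ∧
      φ₄.comp (compositeRes R₂ A₃) = q.comp φ' ∧
      (algebraMap A₄ k₄).comp φ₄ = ψ₄.comp A₃.subtype := by
  classical
  let B := composite R₂ A₃
  let incl : B →+* R₂ := compositeIncl R₂ A₃
  let res : B →+* A₃ := compositeRes R₂ A₃
  let P : Ideal B := RingHom.ker res
  have hP : ∀ b : B, b ∈ P ↔ ¬ IsUnit (incl b) := fun b => by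
    rw [RingHom.mem_ker, ← mem_nonunits_iff, ← IsLocalRing.mem_maximalIdeal,
      ← residue_eq_zero_iff]
    exact ⟨fun h => congrArg Subtype.val h, fun h => Subtype.ext h⟩
  have hPp : P.IsPrime := RingHom.ker_isPrime res
  -- `R₂` is the localization at `P`
  let : Algebra B R₂ := incl.toAlgebra
  have hloc : IsLocalization.AtPrime R₂ P := by
    refine (isLocalization_iff _ _).2 ⟨fun b => ?_, fun z => ?_, fun {x y} h => ⟨1, ?_⟩⟩
    · exact not_not.1 ((hP b).not.1 b.2)
    · by_cases hz : residue R₂ z ∈ A₃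
      · exact ⟨⟨⟨z, (mem_composite_iff R₂ A₃ z).2 ⟨z.2, hz⟩⟩, 1⟩, mul_one z⟩
      · have hu : IsUnit z := by
          by_contra hu
          rw [(residue_eq_zero_iff _).2 hu] at hz
          exact hz A₃.zero_mem
        obtain ⟨u, rfl⟩ := hu
        have hinv : residue R₂ (↑u⁻¹ : R₂) ∈ A₃ := by
          have : residue R₂ (↑u⁻¹ : R₂) = (residue R₂ (u : R₂))⁻¹ :=
            eq_inv_of_mul_eq_one_right (by rw [← map_mul, Units.mul_inv, map_one])
          rw [this]
          exact (A₃.mem_or_inv_mem _).resolve_left hz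
        let y : B := ⟨((↑u⁻¹ : R₂) : L₂), (mem_composite_iff R₂ A₃ _).2 ⟨(↑u⁻¹ : R₂).2, hinv⟩⟩
        refine ⟨⟨1, ⟨y, fun hy => (hP y).1 hy (u⁻¹).isUnit⟩⟩, ?_⟩
        show (u : R₂) * ↑u⁻¹ = incl 1
        rw [Units.mul_inv, map_one]
    · have h' : incl x = incl y := h
      have h'' : (x : L₂) = y := congrArg (fun z : R₂ => (z : L₂)) h'
      rw [Subtype.ext h'']
  -- a prime of `B'` above `P`
  have hdis : Disjoint ((P.map φ' : Ideal B') : Set B') (P.primeCompl.map φ' : Set B') := by
    rw [Set.disjoint_left]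
    rintro _ hx ⟨t, ht, rfl⟩
    -- every element of the extended ideal is a multiple of the image of an element of `P`
    have key : ∀ y ∈ P.map φ', ∃ b ∈ P, φ' b ∣ y := by
      intro y hy
      induction hy using Submodule.span_induction with
      | mem y hy => obtain ⟨b, hb, rfl⟩ := hy; exact ⟨b, hb, dvd_rfl⟩
      | zero => exact ⟨0, P.zero_mem, by simp⟩
      | add y z _ _ hy hz =>
        obtain ⟨b, hb, hby⟩ := hy
        obtain ⟨d, hd, hdz⟩ := hz
        rcases ValuationRing.dvd_total (φ' b) (φ' d) with h | h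
        · exact ⟨b, hb, dvd_add hby (h.trans hdz)⟩
        · exact ⟨d, hd, dvd_add (h.trans hby) hdz⟩
      | smul a y _ hy =>
        obtain ⟨b, hb, hby⟩ := hy
        exact ⟨b, hb, dvd_mul_of_dvd_right hby a⟩
    obtain ⟨b, hb, hbt⟩ := key _ hx
    rcases ValuationRing.dvd_total t b with ⟨p, rfl⟩ | ⟨p, hp⟩
    · have hp : p ∈ P := (hPp.mem_or_mem hb).resolve_left ht
      have hpu : ¬ IsUnit p := fun h => hPp.ne_top (P.eq_top_of_isUnit_mem hp h)
      obtain ⟨w, hw⟩ := hbt
      rw [map_mul, mul_assoc] at hw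
      by_cases h0 : φ' t = 0
      · have : t = 0 := by
          have h1 := congrArg (algebraMap B' L₂') h0
          rw [map_zero] at h1
          have h2 : ψ' (algebraMap B L₂ t) = 0 := by
            rw [← RingHom.comp_apply, ← hcomm]; exact h1
          exact IsFractionRing.injective B L₂ (by rw [map_zero]; exact (map_eq_zero ψ').1 h2)
        exact ht (this ▸ P.zero_mem)
      · have : φ' p * w = 1 := (mul_left_cancel₀ h0 (hw.symm.trans (mul_one _).symm))
        exact hpu (IsUnit.of_map φ' p ⟨⟨φ' p, w, this, mul_comm (φ' p) w ▸ this⟩, rfl⟩)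
    · exact ht (hp ▸ P.mul_mem_right p hb)
  obtain ⟨P', hP', hPP', hP'd⟩ := Ideal.exists_le_prime_disjoint _ _ hdis
  have hcomap : P'.comap φ' = P := le_antisymm
    (fun b hb => by
      by_contra hbP
      exact Set.disjoint_left.1 hP'd hb ⟨b, hbP, rfl⟩)
    (Ideal.map_le_iff_le_comap.1 hPP')
  let R₂' := Localization.AtPrime P'
  let alg : Algebra R₂' L₂' :=
    (IsLocalization.map L₂' (RingHom.id B') (T := nonZeroDivisors B')
      P'.primeCompl_le_nonZeroDivisors : R₂' →+* L₂').toAlgebra
  have hcomp : ∀ y : B', algebraMap R₂' L₂' (algebraMap B' R₂' y) = algebraMap B' L₂' y := fun y =>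
    IsLocalization.map_eq _ _
  have : IsScalarTower B' R₂' L₂' := IsScalarTower.of_algebraMap_eq fun y => (hcomp y).symm
  have : IsFractionRing R₂' L₂' :=
    IsFractionRing.isFractionRing_of_isDomain_of_isLocalization P'.primeCompl R₂' L₂'
  have : ValuationRing R₂' := by
    rw [ValuationRing.iff_isInteger_or_isInteger R₂' L₂']
    intro x
    rcases (ValuationRing.iff_isInteger_or_isInteger B' L₂').1 inferInstance x with
      ⟨y, hy⟩ | ⟨y, hy⟩
    · exact Or.inl ⟨algebraMap B' R₂' y, (hcomp y).trans hy⟩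
    · exact Or.inr ⟨algebraMap B' R₂' y, (hcomp y).trans hy⟩
  let s : B' →+* R₂' := algebraMap B' R₂'
  have hsu : ∀ t : P.primeCompl, IsUnit ((s.comp φ') (t : B)) := fun t =>
    IsLocalization.map_units R₂' (⟨φ' t, fun h => t.2 (hcomap.le h)⟩ : P'.primeCompl)
  let r : R₂ →+* R₂' := IsLocalization.lift (M := P.primeCompl) (S := R₂) hsu
  have hr : ∀ b : B, r (incl b) = s (φ' b) := fun b => IsLocalization.lift_eq hsu b
  have : IsLocalHom r := by
    refine ⟨fun z hz => ?_⟩
    obtain ⟨⟨b, t⟩, e⟩ := IsLocalization.surj P.primeCompl z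
    have e' : z * incl t = incl b := e
    have hb : IsUnit (s (φ' b)) := by
      rw [← hr, ← e', map_mul, hr]
      exact hz.mul (hsu t)
    have hbP : b ∉ P := fun h => by
      have h' : φ' b ∈ P' := hPP' (Ideal.mem_map_of_mem φ' h)
      exact (IsLocalization.AtPrime.isUnit_to_map_iff R₂' P' (φ' b)).1 hb h'
    have : IsUnit (z * incl t) := by rw [e']; exact not_not.1 ((hP b).not.1 hbP)
    exact isUnit_of_mul_isUnit_left this
  let ψ₄ : ResidueField R₂ →+* P'.ResidueField := ResidueField.map r
  let res' : R₂' →+* P'.ResidueField := residue R₂'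
  let q : B' →+* B' ⧸ P' := Ideal.Quotient.mk P'
  have : ValuationRing (B' ⧸ P') :=
    Function.Surjective.valuationRing q Ideal.Quotient.mk_surjective
  let φ₄ : A₃ →+* B' ⧸ P' := (Ideal.quotientMap P' φ' hcomap.ge).comp
    (RingHom.quotientKerEquivOfSurjective (compositeRes_surjective R₂ A₃)).symm.toRingHom
  have hφ₄ : ∀ b : B, φ₄ (res b) = q (φ' b) := fun b => by
    have : (RingHom.quotientKerEquivOfSurjective (compositeRes_surjective R₂ A₃)).symm (res b) =
        Ideal.Quotient.mk P b := by
      rw [RingEquiv.symm_apply_eq]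
      rfl
    show Ideal.quotientMap P' φ' hcomap.ge
      ((RingHom.quotientKerEquivOfSurjective (compositeRes_surjective R₂ A₃)).symm (res b)) = _
    rw [this]
    rfl
  refine ⟨B' ⧸ P', inferInstance, inferInstance, inferInstance, P'.ResidueField, inferInstance,
    inferInstance, inferInstance, R₂', inferInstance, inferInstance, inferInstance, alg,
    inferInstance, φ₄, ψ₄, q, s, r, res', ⟨fun a ha => ?_⟩, ?_, RingHom.ext hcomp, ?_,
    RingHom.ext fun y => rfl, RingHom.ext fun z => (ResidueField.map_residue r z).symm,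
    RingHom.ext hφ₄, ?_⟩
  · obtain ⟨b, rfl⟩ := compositeRes_surjective R₂ A₃ a
    rw [hφ₄] at ha
    have : IsUnit (φ' b) := by
      obtain ⟨⟨_, w, h₁, -⟩, rfl⟩ := ha
      obtain ⟨w, rfl⟩ := Ideal.Quotient.mk_surjective w
      rw [← map_mul, ← map_one q, Ideal.Quotient.eq] at h₁
      by_contra hu
      have hm : φ' b * w - 1 ∈ maximalIdeal B' := le_maximalIdeal hP'.ne_top h₁
      exact (maximalIdeal.isMaximal B').ne_top ((Ideal.eq_top_iff_one _).2 (by
        have := sub_mem (Ideal.mul_mem_right w _ ((mem_maximalIdeal _).2 hu)) hm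
        rwa [sub_sub_cancel] at this))
    exact (IsUnit.of_map φ' b this).map res
  · exact RingHom.ext fun b => (hr b).symm
  · refine IsLocalization.ringHom_ext P.primeCompl (RingHom.ext fun b => ?_)
    show algebraMap R₂' L₂' (r (incl b)) = ψ' _
    rw [hr, hcomp]
    exact RingHom.congr_fun hcomm b
  · refine RingHom.ext fun a => ?_
    obtain ⟨b, rfl⟩ := compositeRes_surjective R₂ A₃ a
    show algebraMap (B' ⧸ P') P'.ResidueField (φ₄ (res b)) = ψ₄ (residue R₂ (incl b))
    rw [hφ₄, ResidueField.map_residue, hr]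
    rfl

end

end Groth.AlgSp3
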