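import Groth.Agent.AlgSp3.ValCriteria
import Groth.Agent.AlgSp3.ValGlue
import Groth.Agent.DescentBase.ClosureRange
import Groth.Agent.AlgSp2.FiniteMor

/-!
# The refined valuative criterion
-/

set_option autoImplicit false
set_option backward.isDefEq.respectTransparency.types false
universe u

open CategoryTheory CategoryTheory.Limits AlgebraicGeometry Opposite AlgSp

namespace Groth.AlgSp3

open Groth.AlgSpBasic

noncomputable section

variable {S : Scheme.{u}} {X Y : Sp S} {f : X ⟶ Y}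

@[reassoc]
theorem specComp {A B C : Type u} [CommRing A] [CommRing B] [CommRing C] (g : B →+* C)
    (k : A →+* B) :
    Spec.map (CommRingCat.ofHom g) ≫ Spec.map (CommRingCat.ofHom k) =
      Spec.map (CommRingCat.ofHom (g.comp k)) := by
  rw [← Spec.map_comp, ← CommRingCat.ofHom_comp]

theorem map_sq {A B C D : Over S} {F : Sp S} {p : A ⟶ B} {q : B ⟶ D} {r : A ⟶ C} {s : C ⟶ D}
    (h : p.left ≫ q.left = r.left ≫ s.left) (b : (yon S).obj D ⟶ F) :
    (yon S).map p ≫ (yon S).map q ≫ b = (yon S).map r ≫ (yon S).map s ≫ b := by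
  have e : p ≫ q = r ≫ s := Over.OverMorphism.ext h
  rw [← Category.assoc, ← Functor.map_comp, e, Functor.map_comp, Category.assoc]

theorem map_tri {A B D : Over S} {F : Sp S} {p : A ⟶ B} {q : B ⟶ D} {r : A ⟶ D}
    (h : p.left ≫ q.left = r.left) (b : (yon S).obj D ⟶ F) :
    (yon S).map p ≫ (yon S).map q ≫ b = (yon S).map r ≫ b := by
  have e : p ≫ q = r := Over.OverMorphism.ext h
  rw [← Category.assoc, ← Functor.map_comp, e]

theorem map_tri3 {A B C D : Over S} {F : Sp S} {p : A ⟶ B} {q : B ⟶ C} {r : C ⟶ D} {s : A ⟶ D}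
    (h : p.left ≫ q.left ≫ r.left = s.left) (b : (yon S).obj D ⟶ F) :
    (yon S).map p ≫ (yon S).map q ≫ (yon S).map r ≫ b = (yon S).map s ≫ b := by
  have e : p ≫ q ≫ r = s := Over.OverMorphism.ext h
  rw [← e, Functor.map_comp, Functor.map_comp, Category.assoc, Category.assoc]

/-- The square obtained by extending the valuation ring. -/
abbrev extSq (sq : ValSq f) (e : sq.DomExt) : ValSq f where
  A := e.A'
  K := e.K'
  str := Spec.map (CommRingCat.ofHom e.φ) ≫ sq.str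
  top := (yon S).map (Over.homMk (Spec.map (CommRingCat.ofHom e.ψ)) (by
      change Spec.map _ ≫ Spec.map _ ≫ _ = Spec.map _ ≫ Spec.map _ ≫ _
      rw [specComp_assoc, specComp_assoc, e.comm]) : e.ptK' ⟶ sq.ptK) ≫ sq.top
  bot := (yon S).map (Over.homMk (Spec.map (CommRingCat.ofHom e.φ)) rfl : e.ptA' ⟶ sq.ptA) ≫ sq.bot
  comm := (Category.assoc _ _ _).trans ((congrArg (_ ≫ ·) sq.comm).trans (map_sq (by
    show Spec.map _ ≫ Spec.map _ = Spec.map _ ≫ Spec.map _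
    rw [specComp, specComp, e.comm]) sq.bot))

/-- Extensions of extensions. -/
theorem hasLiftExt_of_extSq (sq : ValSq f) (e₁ : sq.DomExt) (h : (extSq sq e₁).HasLiftExt) :
    sq.HasLiftExt := by
  obtain ⟨e₂, l, hl₁, hl₂⟩ := h
  let e : sq.DomExt :=
    { A' := e₂.A'
      K' := e₂.K'
      φ := e₂.φ.comp e₁.φ
      ψ := e₂.ψ.comp e₁.ψ
      comm := by
        rw [← RingHom.comp_assoc, e₂.comm, RingHom.comp_assoc,
          show (algebraMap (extSq sq e₁).A (extSq sq e₁).K).comp e₁.φ =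
            e₁.ψ.comp (algebraMap sq.A sq.K) from e₁.comm, ← RingHom.comp_assoc]
      isLocalHom := ⟨fun a ha => e₁.isLocalHom.map_nonunit a (e₂.isLocalHom.map_nonunit _ ha)⟩ }
  let c : e.ptA' ⟶ e₂.ptA' := Over.homMk (𝟙 _) (by
    show 𝟙 _ ≫ Spec.map (CommRingCat.ofHom e₂.φ) ≫ Spec.map (CommRingCat.ofHom e₁.φ) ≫ sq.str =
      Spec.map (CommRingCat.ofHom (e₂.φ.comp e₁.φ)) ≫ sq.str
    rw [Category.id_comp, specComp_assoc])
  let c' : e.ptK' ⟶ e₂.ptK' := Over.homMk (𝟙 _) (by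
    show 𝟙 _ ≫ Spec.map _ ≫ Spec.map (CommRingCat.ofHom e₂.φ) ≫
        Spec.map (CommRingCat.ofHom e₁.φ) ≫ sq.str =
      Spec.map _ ≫ Spec.map (CommRingCat.ofHom (e₂.φ.comp e₁.φ)) ≫ sq.str
    rw [Category.id_comp, ← specComp_assoc e₂.φ e₁.φ])
  refine ⟨e, (yon S).map c ≫ l, ?_, ?_⟩
  · refine (map_sq (r := c') ?_ l).trans ((congrArg (_ ≫ ·) hl₁).trans (map_tri3 ?_ sq.top))
    · show Spec.map _ ≫ 𝟙 _ = 𝟙 _ ≫ Spec.map _
      rw [Category.comp_id, Category.id_comp]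
    · show 𝟙 _ ≫ Spec.map _ ≫ Spec.map _ = Spec.map _
      rw [Category.id_comp, specComp]
  · refine (Category.assoc _ _ _).trans ((congrArg (_ ≫ ·) hl₂).trans (map_tri3 ?_ sq.bot))
    show 𝟙 _ ≫ Spec.map _ ≫ Spec.map _ = Spec.map _
    rw [Category.id_comp, specComp]

/-- The hypothesis of the refined criterion: squares whose top arrow factors through `h` have at
most one lift, and a lift after an extension. -/
def RefinedVC {U X Y : Sp S} (f : X ⟶ Y) (h : U ⟶ X) : Prop :=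
  ∀ sq : ValSq f, (∃ t : (yon S).obj sq.ptK ⟶ U, t ≫ h = sq.top) → sq.HasUniq ∧ sq.HasLiftExt

theorem refinedVC_of_isPullback {U X' Y' U' : Sp S} {h : U ⟶ X} {g : Y' ⟶ Y} {fst : X' ⟶ X}
    {f' : X' ⟶ Y'} (sqf : IsPullback fst f' f g) {h' : U' ⟶ X'} {u : U' ⟶ U}
    (hu : u ≫ h = h' ≫ fst) (hv : RefinedVC f h) : RefinedVC f' h' := by
  rintro v ⟨t, ht⟩
  let v' : ValSq f := { A := v.A, K := v.K, str := v.str, top := v.top ≫ fst, bot := v.bot ≫ g,
                        comm := by rw [Category.assoc, sqf.w, ← Category.assoc, v.comm, Category.assoc] }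
  obtain ⟨huniq, e, l, hl, hl'⟩ := hv v' ⟨t ≫ u, by
    show (t ≫ u) ≫ h = v.top ≫ fst
    rw [Category.assoc, hu, reassoc_of% ht]⟩
  refine ⟨fun l₁ l₂ h₁ h₂ h₃ h₄ => sqf.hom_ext ?_ (h₂.trans h₄.symm), ?_⟩
  · refine huniq (l₁ ≫ fst) (l₂ ≫ fst) ?_ ?_ ?_ ?_
    · exact (Category.assoc _ _ _).symm.trans (congrArg (· ≫ fst) h₁)
    · rw [Category.assoc, sqf.w, ← Category.assoc, h₂]
    · exact (Category.assoc _ _ _).symm.trans (congrArg (· ≫ fst) h₃)
    · rw [Category.assoc, sqf.w, ← Category.assoc, h₄]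
  · let e' : v.DomExt := { A' := e.A', K' := e.K', φ := e.φ, ψ := e.ψ, comm := e.comm,
                           isLocalHom := e.isLocalHom }
    let pA : e'.ptA' ⟶ v.ptA := Over.homMk (Spec.map (CommRingCat.ofHom e'.φ)) rfl
    let pK : e'.ptK' ⟶ v.ptK := Over.homMk (Spec.map (CommRingCat.ofHom e'.ψ)) (by
      change Spec.map _ ≫ Spec.map _ ≫ _ = Spec.map _ ≫ Spec.map _ ≫ _
      rw [← Spec.map_comp_assoc, ← Spec.map_comp_assoc, ← CommRingCat.ofHom_comp,
        ← CommRingCat.ofHom_comp, e'.comm])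
    let jj : e'.ptK' ⟶ e'.ptA' :=
      Over.homMk (Spec.map (CommRingCat.ofHom (algebraMap e'.A' e'.K'))) rfl
    have ej : jj ≫ pA = pK ≫ v.j := Over.OverMorphism.ext (by
      show Spec.map _ ≫ Spec.map _ = Spec.map _ ≫ Spec.map _
      rw [← Spec.map_comp, ← Spec.map_comp, ← CommRingCat.ofHom_comp, ← CommRingCat.ofHom_comp,
        e'.comm])
    let l₀ : (yon S).obj e'.ptA' ⟶ X := l
    have hl₀ : l₀ ≫ f = ((yon S).map pA ≫ v.bot) ≫ g := hl'.trans (Category.assoc _ _ _).symm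
    have hl₁ : (yon S).map jj ≫ l₀ = (yon S).map pK ≫ v.top ≫ fst := hl
    refine ⟨e', sqf.lift l₀ ((yon S).map pA ≫ v.bot) hl₀, ?_, sqf.lift_snd _ _ _⟩
    show (yon S).map jj ≫ sqf.lift l₀ _ hl₀ = (yon S).map pK ≫ v.top
    apply sqf.hom_ext
    · rw [Category.assoc, sqf.lift_fst, Category.assoc]
      exact hl₁
    · rw [Category.assoc, sqf.lift_snd, Category.assoc, v.comm, ← Category.assoc,
        ← Functor.map_comp, ej, Functor.map_comp, Category.assoc]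

/-- A test morphism as a morphism over `S`. -/
abbrev tO {W : Over S} {T : Scheme.{u}} (m : T ⟶ W.left) : Over.mk (m ≫ W.hom) ⟶ W :=
  Over.homMk m rfl

/-- A valuation ring centred at the point of the top arrow in a chart, with generic point in the
source of `h`. -/
theorem exists_valData {U : Sp S} (hU : IsAlgSpace U) (hX : IsAlgSpace X) {h : U ⟶ X}
    (hh : IsQuasiCompactMor h) (hd : DenseRange (Points.map h)) (sq : ValSq f) :
    ∃ (W : Over S) (w : (yon S).obj W ⟶ X) (L₂ : Type u) (_ : Field L₂) (R₂ : ValuationSubring L₂)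
      (m₂ : Spec (CommRingCat.of R₂) ⟶ W.left)
      (t : (yon S).obj (Over.mk ((Spec.map (CommRingCat.ofHom R₂.subtype) ≫ m₂) ≫ W.hom)) ⟶ U)
      (kK : Over.mk ((Spec.map (CommRingCat.ofHom (IsLocalRing.residue R₂)) ≫ m₂) ≫ W.hom) ⟶
        sq.ptK),
      t ≫ h = (yon S).map (tO (Spec.map (CommRingCat.ofHom R₂.subtype) ≫ m₂)) ≫ w ∧
      (yon S).map (tO (Spec.map (CommRingCat.ofHom (IsLocalRing.residue R₂)) ≫ m₂)) ≫ w =
        (yon S).map kK ≫ sq.top := by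
  let k₀ : sq.ptK.left := IsLocalRing.closedPoint sq.K
  -- an affine chart at the image of the top arrow
  obtain ⟨W₀, w₀, hw₀, hw₀s⟩ := hX.atlas
  obtain ⟨a₀, ha₀⟩ := surjective_ofPt_of_repWith hw₀s (Points.ofPt sq.top k₀)
  obtain ⟨O, hO, haO, -⟩ :=
    exists_isAffineOpen_mem_and_subset (X := W₀.left) (x := a₀) (U := ⊤) trivial
  let W : Over S := Over.mk (O.ι ≫ W₀.hom)
  let iO : W ⟶ W₀ := Over.homMk O.ι rfl
  have : IsAffine W.left := hO
  let w := (yon S).map iO ≫ w₀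
  have hw : RepWith @Etale w :=
    repWith_comp ((repWith_yon_map_iff _ iO).2 (inferInstanceAs (Etale O.ι))) hw₀
  let w' : W.left := ⟨a₀, haO⟩
  have hw' : Points.ofPt w w' = Points.ofPt sq.top k₀ := by
    rw [ofPt_comp_yon]; exact ha₀
  -- the chosen dense source over the chart
  have sqU := IsPullback.of_hasPullback h w
  have hUW := isAlgSpace_of_isPullback sqU hX.diag hU (IsAlgSpace.yon_obj W)
  obtain ⟨W', c, hW', hce, hcs⟩ := exists_affine_chart hUW (hh (IsAlgSpace.yon_obj W)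
    ((isQuasiCompactSp_yon_iff _).2 (inferInstance : CompactSpace W.left)) w _ _ sqU)
  obtain ⟨β, hβ⟩ := (yon S).map_surjective (c ≫ pullback.snd h w)
  have hpre : Points.ofPt w ⁻¹' Set.range (Points.map h) ⊆ Set.range β.left := by
    rintro y ⟨a, ha⟩
    rw [ofPt_eq_map] at ha
    obtain ⟨z, -, hz⟩ := exists_point_of_isPullback sqU a _ ha
    obtain ⟨v, rfl⟩ := surjective_ofPt_of_repWith hcs z
    refine ⟨v, (Points.schemeHomeo W).injective ?_⟩
    refine Eq.trans ?_ hz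
    rw [Points.map_ofPt, ← hβ, ofPt_eq_map]
    exact (Points.map_yon_map_apply β v).symm
  have hcl : w' ∈ closure (Set.range β.left) :=
    closure_mono hpre (hd.preimage (isOpenMap_ofPt_of_etale hw) w')
  obtain ⟨v, hvw⟩ := Groth.DescentBase.exists_specializes_of_mem_closure_range β.left hcl
  obtain ⟨R₁, g₁, hg₁, hg₁c⟩ := exists_valuation_center β.left hvw
  -- the extension of the field of the top arrow
  obtain ⟨F, fw, fk, sqF⟩ := exists_pullback_of_diag hX.diag w sq.top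
  obtain ⟨φ, hφw, -⟩ := (ofPt_eq_ofPt_iff sqF w' k₀).1 hw'
  let mK : Spec (F.left.residueField φ) ⟶ W.left := F.left.fromSpecResidueField φ ≫ fw.left
  let ρ : Spec (CommRingCat.of (IsLocalRing.ResidueField R₁)) ⟶ Spec (CommRingCat.of R₁) :=
    Spec.map (CommRingCat.ofHom (IsLocalRing.residue R₁))
  have hρ : ∀ z, ρ z = IsLocalRing.closedPoint R₁ := fun z => by
    have hz : z = IsLocalRing.closedPoint (IsLocalRing.ResidueField R₁) :=
      Subsingleton.elim (α := PrimeSpectrum (IsLocalRing.ResidueField R₁)) _ _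
    rw [hz]
    exact (IsLocalRing.isLocalHom_iff_comap_closedPoint (IsLocalRing.residue R₁)).1 inferInstance
  let Q := pullback (ρ ≫ g₁) mK
  obtain ⟨o, -, -⟩ := Scheme.exists_preimage_of_isPullback (IsPullback.of_hasPullback (ρ ≫ g₁) mK)
    (IsLocalRing.closedPoint _) (IsLocalRing.closedPoint _) (by
      show (ρ ≫ g₁) _ = mK _
      rw [Scheme.Hom.comp_apply, hρ, hg₁c, Scheme.Hom.comp_apply,
        Scheme.fromSpecResidueField_apply, hφw])
  let Ω := Q.residueField o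
  let ω₁ : Spec Ω ⟶ Spec (CommRingCat.of (IsLocalRing.ResidueField R₁)) :=
    Q.fromSpecResidueField o ≫ pullback.fst (ρ ≫ g₁) mK
  let ω₂ : Spec Ω ⟶ Spec (F.left.residueField φ) :=
    Q.fromSpecResidueField o ≫ pullback.snd (ρ ≫ g₁) mK
  have hω : ω₁ ≫ ρ ≫ g₁ = ω₂ ≫ mK := by
    show (Q.fromSpecResidueField o ≫ pullback.fst (ρ ≫ g₁) mK) ≫ ρ ≫ g₁ =
      (Q.fromSpecResidueField o ≫ pullback.snd (ρ ≫ g₁) mK) ≫ mK
    rw [Category.assoc, Category.assoc, pullback.condition]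
  let πΩ : R₁ →+* Ω := (Spec.preimage (ω₁ ≫ ρ)).hom
  have hπΩ : Spec.map (CommRingCat.ofHom πΩ) = ω₁ ≫ ρ := by
    rw [CommRingCat.ofHom_hom, Spec.map_preimage]
  have : IsLocalHom πΩ := isLocalHom_of_closedPoint πΩ (by
    rw [hπΩ, Scheme.Hom.comp_apply, hρ])
  obtain ⟨L₂, _, R₂, ι₁, φ₂, ι, hι₁, hι⟩ := exists_residue_extension R₁ πΩ
  let m₂ : Spec (CommRingCat.of R₂) ⟶ W.left := Spec.map (CommRingCat.ofHom φ₂) ≫ g₁
  let ρ₂ : Spec (CommRingCat.of (IsLocalRing.ResidueField R₂)) ⟶ Spec (CommRingCat.of R₂) :=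
    Spec.map (CommRingCat.ofHom (IsLocalRing.residue R₂))
  let η₂ : Spec (CommRingCat.of L₂) ⟶ Spec (CommRingCat.of R₂) :=
    Spec.map (CommRingCat.ofHom R₂.subtype)
  let xη : Spec (CommRingCat.of L₂) ⟶ W'.left :=
    Spec.map (CommRingCat.ofHom ι₁) ≫ W'.left.fromSpecResidueField v
  have hη : xη ≫ β.left = η₂ ≫ m₂ := by
    show (Spec.map _ ≫ _) ≫ _ = Spec.map _ ≫ Spec.map _ ≫ g₁
    rw [Category.assoc, hg₁, specComp_assoc, specComp_assoc, hι₁]
    rfl
  have hρm : ρ₂ ≫ m₂ =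
      (Spec.map (CommRingCat.ofHom ι) ≫ ω₂ ≫ F.left.fromSpecResidueField φ) ≫ fw.left := by
    show Spec.map _ ≫ Spec.map _ ≫ g₁ = _
    rw [specComp_assoc, hι, ← specComp_assoc, hπΩ, Category.assoc, hω]
    simp only [mK, Category.assoc]
  let xB : Over.mk ((η₂ ≫ m₂) ≫ W.hom) ⟶ W' := Over.homMk xη (by
    show xη ≫ W'.hom = (η₂ ≫ m₂) ≫ W.hom
    rw [← Over.w β, ← Category.assoc, hη])
  let xF : Over.mk ((ρ₂ ≫ m₂) ≫ W.hom) ⟶ F :=
    Over.homMk (Spec.map (CommRingCat.ofHom ι) ≫ ω₂ ≫ F.left.fromSpecResidueField φ) (by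
      show (Spec.map _ ≫ ω₂ ≫ F.left.fromSpecResidueField φ) ≫ F.hom = (ρ₂ ≫ m₂) ≫ W.hom
      rw [← Over.w fw, ← Category.assoc, hρm])
  refine ⟨W, w, L₂, _, R₂, m₂, (yon S).map xB ≫ c ≫ pullback.fst h w, xF ≫ fk, ?_, ?_⟩
  · have e : xB ≫ β = tO (η₂ ≫ m₂) := Over.OverMorphism.ext hη
    rw [← e, Functor.map_comp, hβ]
    simp only [Category.assoc, pullback.condition]
  · have e : xF ≫ fw = tO (ρ₂ ≫ m₂) := Over.OverMorphism.ext hρm.symm
    rw [← e, Functor.map_comp, Functor.map_comp]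
    exact (Category.assoc _ _ _).trans ((congrArg (_ ≫ ·) sqF.w).trans (Category.assoc _ _ _).symm)

theorem hasLiftExt_of_valData {U : Sp S} {L : Over S} [IsAffine L.left] {π : X ⟶ (yon S).obj L}
    {h : U ⟶ X} (hv : RefinedVC π h) (sq : ValSq π) {W : Over S} (w : (yon S).obj W ⟶ X)
    {L₂ : Type u} [Field L₂] (R₂ : ValuationSubring L₂) (m₂ : Spec (CommRingCat.of R₂) ⟶ W.left)
    (t : (yon S).obj (Over.mk ((Spec.map (CommRingCat.ofHom R₂.subtype) ≫ m₂) ≫ W.hom)) ⟶ U)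
    (kK : Over.mk ((Spec.map (CommRingCat.ofHom (IsLocalRing.residue R₂)) ≫ m₂) ≫ W.hom) ⟶
      sq.ptK)
    (ht : t ≫ h = (yon S).map (tO (Spec.map (CommRingCat.ofHom R₂.subtype) ≫ m₂)) ≫ w)
    (hk : (yon S).map (tO (Spec.map (CommRingCat.ofHom (IsLocalRing.residue R₂)) ≫ m₂)) ≫ w =
        (yon S).map kK ≫ sq.top) :
    sq.HasLiftExt := by
  obtain ⟨α, hα⟩ := (yon S).map_surjective (w ≫ π)
  let eL := L.left.isoSpec
  obtain ⟨botL, hbot⟩ := (yon S).map_surjective sq.bot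
  let ψ₂ : sq.K →+* IsLocalRing.ResidueField R₂ := (Spec.preimage kK.left).hom
  have hψ₂ : Spec.map (CommRingCat.ofHom ψ₂) = kK.left := by
    rw [CommRingCat.ofHom_hom, Spec.map_preimage]
  obtain ⟨A₃, hA₃, hA₃loc⟩ :=
    IsLocalRing.exists_factor_valuationRing (ψ₂.comp (algebraMap sq.A sq.K))
  let φ₃ : sq.A →+* A₃ := (ψ₂.comp (algebraMap sq.A sq.K)).codRestrict A₃.toSubring hA₃
  have : IsLocalHom φ₃ := hA₃loc
  let βA : Γ(L.left, ⊤) →+* sq.A := (Spec.preimage (botL.left ≫ eL.hom)).hom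
  have hβA : Spec.map (CommRingCat.ofHom βA) = botL.left ≫ eL.hom := by
    rw [CommRingCat.ofHom_hom, Spec.map_preimage]
  let β₂ : Γ(L.left, ⊤) →+* R₂ := (Spec.preimage (m₂ ≫ α.left ≫ eL.hom)).hom
  have hβ₂ : Spec.map (CommRingCat.ofHom β₂) = m₂ ≫ α.left ≫ eL.hom := by
    rw [CommRingCat.ofHom_hom, Spec.map_preimage]
  have hres : (IsLocalRing.residue R₂).comp β₂ = (ψ₂.comp (algebraMap sq.A sq.K)).comp βA := by
    have e0 : tO (Spec.map (CommRingCat.ofHom (IsLocalRing.residue R₂)) ≫ m₂) ≫ α =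
        kK ≫ sq.j ≫ botL := (yon S).map_injective (by
      simp only [Functor.map_comp]
      rw [hα, hbot, reassoc_of% hk, sq.comm])
    have e := congrArg (fun z => z.left ≫ eL.hom) e0
    simp only [Over.comp_left, Over.homMk_left, Category.assoc] at e
    rw [← hβ₂, ← hβA, ← hψ₂, specComp, specComp_assoc] at e
    have e' : Spec.map (CommRingCat.ofHom ((IsLocalRing.residue R₂).comp β₂)) =
        Spec.map (CommRingCat.ofHom ((ψ₂.comp (algebraMap sq.A sq.K)).comp βA)) :=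
      e.trans (specComp _ _)
    exact congrArg CommRingCat.Hom.hom (Spec.map_injective e')
  have hβB : ∀ z, (β₂ z : L₂) ∈ Groth.Ega2Proj.composite R₂ A₃ := fun z =>
    (Groth.Ega2Proj.mem_composite_iff R₂ A₃ _).2 ⟨(β₂ z).2, by
      have : IsLocalRing.residue R₂ (β₂ z) = ψ₂ (algebraMap sq.A sq.K (βA z)) :=
        RingHom.congr_fun hres z
      show IsLocalRing.residue R₂ (β₂ z) ∈ A₃
      rw [this]
      exact hA₃ (βA z)⟩
  let βB : Γ(L.left, ⊤) →+* Groth.Ega2Proj.composite R₂ A₃ :=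
    (R₂.subtype.comp β₂).codRestrict (Groth.Ega2Proj.composite R₂ A₃).toSubring hβB
  have hβB₂ : (compositeIncl R₂ A₃).comp βB = β₂ := rfl
  have hbase : (compositeRes R₂ A₃).comp βB = φ₃.comp βA := RingHom.ext fun z => Subtype.ext (by
    show IsLocalRing.residue R₂ (β₂ z) = _
    exact RingHom.congr_fun hres z)
  -- the square over the composite valuation ring
  let bB : Spec (CommRingCat.of (Groth.Ega2Proj.composite R₂ A₃)) ⟶ L.left :=
    Spec.map (CommRingCat.ofHom βB) ≫ eL.inv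
  let ηB : Spec (CommRingCat.of L₂) ⟶ Spec (CommRingCat.of (Groth.Ega2Proj.composite R₂ A₃)) :=
    Spec.map (CommRingCat.ofHom (algebraMap (Groth.Ega2Proj.composite R₂ A₃) L₂))
  let η₂ : Spec (CommRingCat.of L₂) ⟶ Spec (CommRingCat.of R₂) :=
    Spec.map (CommRingCat.ofHom R₂.subtype)
  have hηL : ηB ≫ bB = η₂ ≫ m₂ ≫ α.left := by
    show Spec.map _ ≫ Spec.map _ ≫ eL.inv = _
    rw [specComp_assoc,
      show (algebraMap (Groth.Ega2Proj.composite R₂ A₃) L₂).comp βB = R₂.subtype.comp β₂ from rfl,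
      ← specComp_assoc, hβ₂]
    simp [η₂]
  let iK : Over.mk (ηB ≫ bB ≫ L.hom) ⟶ Over.mk ((η₂ ≫ m₂) ≫ W.hom) := Over.homMk (𝟙 _) (by
    show 𝟙 _ ≫ (η₂ ≫ m₂) ≫ W.hom = ηB ≫ bB ≫ L.hom
    rw [Category.id_comp, Category.assoc, ← Over.w α, reassoc_of% hηL])
  let j₁ : Over.mk (ηB ≫ bB ≫ L.hom) ⟶ Over.mk (bB ≫ L.hom) := Over.homMk ηB rfl
  have c₁ : ((yon S).map iK ≫ t ≫ h) ≫ π = (yon S).map j₁ ≫ (yon S).map (tO bB) := by
    have e1 : t ≫ h ≫ π = (yon S).map (tO (η₂ ≫ m₂) ≫ α) := by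
      rw [reassoc_of% ht, ← hα, Functor.map_comp]
    refine (Category.assoc _ _ _).trans ((congrArg (_ ≫ ·)
      ((Category.assoc _ _ _).trans e1)).trans ?_)
    rw [← Functor.map_comp, ← Functor.map_comp]
    congr 1
    exact Over.OverMorphism.ext (by
      show 𝟙 _ ≫ (η₂ ≫ m₂) ≫ α.left = ηB ≫ bB
      rw [Category.id_comp, hηL, Category.assoc])
  let v₁ : ValSq π :=
    { A := Groth.Ega2Proj.composite R₂ A₃
      K := L₂
      str := bB ≫ L.hom
      top := (yon S).map iK ≫ t ≫ h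
      bot := (yon S).map (tO bB)
      comm := c₁ }
  obtain ⟨-, e, lB, hlB, hlB'⟩ := hv v₁ ⟨(yon S).map iK ≫ t, Category.assoc _ _ _⟩
  have : IsLocalHom (e.φ : Groth.Ega2Proj.composite R₂ A₃ →+* e.A') := e.isLocalHom
  obtain ⟨A₄, _, _, _, k₄, _, _, _, R₂', _, _, _, _, _, φ₄, ψ₄, q, s, r, res', hφ₄loc, hsr, hs, hr,
    hq, hres', hφ₄, hcomm₄⟩ := exists_composite_extension R₂ A₃
      (e.φ : Groth.Ega2Proj.composite R₂ A₃ →+* e.A') (e.ψ : L₂ →+* e.K') e.comm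
  -- the square over `R₂'`
  let j' : Spec (CommRingCat.of e.K') ⟶ Spec (CommRingCat.of R₂') :=
    Spec.map (CommRingCat.ofHom (algebraMap R₂' e.K'))
  let σ : Spec (CommRingCat.of R₂') ⟶ Spec (CommRingCat.of e.A') :=
    Spec.map (CommRingCat.ofHom s)
  let φE : Spec (CommRingCat.of e.A') ⟶ Spec (CommRingCat.of (Groth.Ega2Proj.composite R₂ A₃)) :=
    Spec.map (CommRingCat.ofHom e.φ)
  let ψE : Spec (CommRingCat.of e.K') ⟶ Spec (CommRingCat.of L₂) :=
    Spec.map (CommRingCat.ofHom e.ψ)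
  let str₂ : Spec (CommRingCat.of R₂') ⟶ S := σ ≫ φE ≫ bB ≫ L.hom
  have hjσ : j' ≫ σ = Spec.map (CommRingCat.ofHom (algebraMap e.A' e.K')) := by
    show Spec.map _ ≫ Spec.map _ = _
    rw [specComp, hs]
  have hψη : j' ≫ σ ≫ φE = ψE ≫ ηB := by
    rw [reassoc_of% hjσ]
    show Spec.map _ ≫ Spec.map _ = Spec.map _ ≫ Spec.map _
    rw [specComp, specComp]
    exact congrArg (fun z => Spec.map (CommRingCat.ofHom z)) e.comm
  let sO : Over.mk str₂ ⟶ e.ptA' := Over.homMk σ rfl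
  let aO : e.ptA' ⟶ v₁.ptA := Over.homMk φE rfl
  let kO : Over.mk (j' ≫ str₂) ⟶ v₁.ptK := Over.homMk ψE (by
    show ψE ≫ ηB ≫ bB ≫ L.hom = j' ≫ σ ≫ φE ≫ bB ≫ L.hom
    rw [reassoc_of% hψη])
  let jO : Over.mk (j' ≫ str₂) ⟶ e.ptK' := Over.homMk (𝟙 _) (by
    show 𝟙 _ ≫ Spec.map _ ≫ φE ≫ bB ≫ L.hom = j' ≫ σ ≫ φE ≫ bB ≫ L.hom
    rw [Category.id_comp, reassoc_of% hjσ])
  let j₂ : Over.mk (j' ≫ str₂) ⟶ Over.mk str₂ := Over.homMk j' rfl
  have c₂ : ((yon S).map kO ≫ v₁.top) ≫ π = (yon S).map j₂ ≫ (yon S).map (sO ≫ aO ≫ tO bB) := by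
    refine (Category.assoc _ _ _).trans ((congrArg (_ ≫ ·) c₁).trans ?_)
    rw [← Functor.map_comp, ← Functor.map_comp, ← Functor.map_comp]
    congr 1
    exact Over.OverMorphism.ext (by
      show ψE ≫ ηB ≫ bB = j' ≫ σ ≫ φE ≫ bB
      rw [reassoc_of% hψη])
  let v₂ : ValSq π :=
    { A := R₂'
      K := e.K'
      str := str₂
      top := (yon S).map kO ≫ v₁.top
      bot := (yon S).map (sO ≫ aO ≫ tO bB)
      comm := c₂ }
  obtain ⟨huniq, -⟩ := hv v₂ ⟨(yon S).map kO ≫ (yon S).map iK ≫ t,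
    (Category.assoc _ _ _).trans (congrArg (_ ≫ ·) (Category.assoc _ _ _))⟩
  let gR : Spec (CommRingCat.of R₂') ⟶ W.left := Spec.map (CommRingCat.ofHom r) ≫ m₂
  have hgR : gR ≫ α.left = σ ≫ φE ≫ bB := by
    rw [← cancel_mono eL.hom]
    simp only [gR, bB, σ, φE, Category.assoc, Iso.inv_hom_id, Category.comp_id]
    rw [← hβ₂, specComp, specComp, specComp, ← hβB₂, ← RingHom.comp_assoc, ← hsr,
      RingHom.comp_assoc]
  let gRO : Over.mk str₂ ⟶ W := Over.homMk gR (by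
    show gR ≫ W.hom = σ ≫ φE ≫ bB ≫ L.hom
    rw [← Over.w α, reassoc_of% hgR])
  have hll : (yon S).map sO ≫ lB = (yon S).map gRO ≫ w := by
    refine huniq _ _ ?_ ?_ ?_ ?_
    · refine (map_sq (r := jO) ?_ lB).trans ((congrArg (_ ≫ ·) hlB).trans (map_tri ?_ _))
      · exact hjσ.trans (Category.id_comp _).symm
      · exact Category.id_comp _
    · show ((yon S).map sO ≫ lB) ≫ π = (yon S).map (sO ≫ aO ≫ tO bB)
      rw [Category.assoc, hlB', Functor.map_comp, Functor.map_comp]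
    · show (yon S).map j₂ ≫ (yon S).map gRO ≫ w =
        (yon S).map kO ≫ (yon S).map iK ≫ t ≫ h
      rw [ht, ← Category.assoc ((yon S).map iK), ← Functor.map_comp]
      refine map_sq ?_ w
      show j' ≫ Spec.map (CommRingCat.ofHom r) ≫ m₂ = ψE ≫ 𝟙 _ ≫ η₂ ≫ m₂
      rw [Category.id_comp]
      show Spec.map _ ≫ Spec.map _ ≫ m₂ = Spec.map _ ≫ Spec.map _ ≫ m₂
      rw [specComp_assoc, specComp_assoc, hr]
    · show ((yon S).map gRO ≫ w) ≫ π = (yon S).map (sO ≫ aO ≫ tO bB)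
      rw [Category.assoc, ← hα, ← Functor.map_comp]
      congr 1
      exact Over.OverMorphism.ext hgR
  -- the extension of the original square
  let e' : sq.DomExt :=
    { A' := A₄
      K' := k₄
      φ := φ₄.comp φ₃
      ψ := ψ₄.comp ψ₂
      comm := by
        rw [← RingHom.comp_assoc, hcomm₄]
        rfl
      isLocalHom := ⟨fun a ha => IsUnit.of_map φ₃ a (hφ₄loc.map_nonunit _ ha)⟩ }
  let qS : Spec (CommRingCat.of A₄) ⟶ Spec (CommRingCat.of e.A') :=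
    Spec.map (CommRingCat.ofHom q)
  have hqb : qS ≫ φE ≫ bB = Spec.map (CommRingCat.ofHom e'.φ) ≫ botL.left := by
    rw [← cancel_mono eL.hom]
    simp only [qS, φE, bB, Category.assoc, Iso.inv_hom_id, Category.comp_id]
    rw [← hβA, specComp, specComp, specComp, ← RingHom.comp_assoc,
      show q.comp e.φ = _ from hφ₄.symm, RingHom.comp_assoc, hbase, ← RingHom.comp_assoc]
  let qO : e'.ptA' ⟶ e.ptA' := Over.homMk qS (by
    show qS ≫ φE ≫ bB ≫ L.hom = Spec.map _ ≫ sq.str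
    rw [reassoc_of% hqb]
    congr 1
    exact Over.w botL)
  refine ⟨e', (yon S).map qO ≫ lB, ?_, ?_⟩
  · let z : Spec (CommRingCat.of k₄) ⟶ Spec (CommRingCat.of R₂') :=
      Spec.map (CommRingCat.ofHom res')
    have hzq : z ≫ σ = Spec.map (CommRingCat.ofHom (algebraMap A₄ k₄)) ≫ qS := by
      show Spec.map _ ≫ Spec.map _ = Spec.map _ ≫ Spec.map _
      rw [specComp, specComp, hq]
    let zO : e'.ptK' ⟶ Over.mk str₂ := Over.homMk z (by
      show z ≫ σ ≫ φE ≫ bB ≫ L.hom = Spec.map _ ≫ Spec.map _ ≫ sq.str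
      rw [reassoc_of% hzq]
      congr 1
      exact Over.w qO)
    let ωO : e'.ptK' ⟶ Over.mk ((Spec.map (CommRingCat.ofHom (IsLocalRing.residue R₂)) ≫ m₂) ≫
        W.hom) := Over.homMk (Spec.map (CommRingCat.ofHom ψ₄)) (by
      refine (congrArg (Spec.map (CommRingCat.ofHom ψ₄) ≫ ·) (Over.w kK).symm).trans ?_
      show Spec.map _ ≫ kK.left ≫ Spec.map _ ≫ sq.str = Spec.map _ ≫ Spec.map _ ≫ sq.str
      rw [← hψ₂, specComp_assoc, specComp_assoc, specComp_assoc]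
      exact congrArg (fun t => Spec.map (CommRingCat.ofHom t) ≫ sq.str) e'.comm.symm)
    refine (map_sq (r := zO) (q := qO) (s := sO) ?_ lB).trans ?_
    · exact hzq.symm
    rw [hll]
    refine (map_sq (r := ωO) (s := tO _) ?_ w).trans ((congrArg (_ ≫ ·) hk).trans (map_tri ?_ _))
    · show z ≫ Spec.map (CommRingCat.ofHom r) ≫ m₂ = Spec.map _ ≫ Spec.map _ ≫ m₂
      rw [specComp_assoc, specComp_assoc, hres']
    · show Spec.map _ ≫ kK.left = Spec.map (CommRingCat.ofHom (ψ₄.comp ψ₂))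
      rw [← hψ₂, specComp]
  · rw [Category.assoc, hlB', ← hbot, show v₁.bot = (yon S).map (tO bB) from rfl,
      ← Functor.map_comp, ← Functor.map_comp, ← Functor.map_comp]
    congr 1
    exact Over.OverMorphism.ext hqb

theorem hasLiftExt_of_refined_affine {U : Sp S} (hU : IsAlgSpace U) (hX : IsAlgSpace X)
    {L : Over S} [IsAffine L.left] {π : X ⟶ (yon S).obj L} {h : U ⟶ X}
    (hh : IsQuasiCompactMor h) (hd : DenseRange (Points.map h)) (hv : RefinedVC π h)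
    (sq : ValSq π) : sq.HasLiftExt := by
  obtain ⟨W, w, L₂, _, R₂, m₂, t, kK, ht, hk⟩ := exists_valData hU hX hh hd sq
  exact hasLiftExt_of_valData hv sq w R₂ m₂ t kK ht hk

end

end Groth.AlgSp3
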