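import Groth.Agent.AlgSp3.ValRefined
import Groth.Agent.AlgSp3.ValGlue
import Groth.Agent.DescentBase.ClosureRange
import Groth.Agent.AlgSp2.FiniteMor

/-!
# The refined valuative criterion
-/

set_option autoImplicit false
set_option backward.isDefEq.respectTransparency.types false
universe u

open CategoryTheory CategoryTheory.Limits AlgebraicGeometry Opposite AlgSp

namespace Groth.AlgSp3

open Groth.AlgSpBasic

noncomputable section

variable {S : Scheme.{u}} {X Y : Sp S} {f : X ⟶ Y}

/-- An injective map of domains extends to the fraction fields. -/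
theorem exists_fracExt {A K : Type u} [CommRing A] [Field K] [Algebra A K] [IsFractionRing A K]
    {A' : Type u} [CommRing A'] [IsDomain A'] (φ : A →+* A') (hφ : Function.Injective φ) :
    ∃ (K' : Type u) (_ : Field K') (_ : Algebra A' K') (_ : IsFractionRing A' K') (ψ : K →+* K'),
      (algebraMap A' K').comp φ = ψ.comp (algebraMap A K) := by
  have hg : Function.Injective ((algebraMap A' (FractionRing A')).comp φ) :=
    (IsFractionRing.injective A' (FractionRing A')).comp hφ
  refine ⟨FractionRing A', inferInstance, inferInstance, inferInstance,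
    IsFractionRing.lift (K := K) hg, RingHom.ext fun a => ?_⟩
  exact (IsFractionRing.lift_algebraMap (K := K) hg a).symm

/-- Under the refined hypothesis every square has a lift after extension. -/
theorem existVC_of_refined {U : Sp S} (hU : IsAlgSpace U) (hX : IsAlgSpace X) (hY : IsAlgSpace Y)
    {h : U ⟶ X} (hh : IsQuasiCompactMor h) (hd : DenseRange (Points.map h))
    (hv : RefinedVC f h) : ExistVC f := by
  intro sq
  obtain ⟨V₀, b₀, hb₀, hb₀s⟩ := hY.atlas
  obtain ⟨y₀, hy₀⟩ := surjective_ofPt_of_repWith hb₀s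
    (Points.ofPt sq.bot (IsLocalRing.closedPoint sq.A))
  obtain ⟨O, hO, hyO, -⟩ :=
    exists_isAffineOpen_mem_and_subset (X := V₀.left) (x := y₀) (U := ⊤) trivial
  let L : Over S := Over.mk (O.ι ≫ V₀.hom)
  let iO : L ⟶ V₀ := Over.homMk O.ι rfl
  have : IsAffine L.left := hO
  let bL := (yon S).map iO ≫ b₀
  have hbL : RepWith @Etale bL :=
    repWith_comp ((repWith_yon_map_iff _ iO).2 (inferInstanceAs (Etale O.ι))) hb₀
  have hflat : LocP @Flat bL := locP_of_repWith
    (repWith_mono (Q := @Flat) (fun _ _ k (_ : Etale k) => inferInstance) hbL)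
  obtain ⟨A', _, _, _, φA, hinj, hloc, l, hl⟩ := exists_lift_of_flat (IsAlgSpace.yon_obj L) hY
    hflat sq.A sq.str sq.bot ⟨Points.ofScheme L ⟨y₀, hyO⟩, by
      rw [← hy₀, ← ofPt_eq_map, ofPt_comp_yon]; rfl⟩
  obtain ⟨K', _, _, _, ψA, hψA⟩ := exists_fracExt (K := sq.K) φA hinj
  let e₁ : sq.DomExt :=
    { A' := A'
      K' := K'
      φ := φA
      ψ := ψA
      comm := hψA
      isLocalHom := hloc }
  refine hasLiftExt_of_extSq sq e₁ ?_
  let sq₁ := extSq sq e₁
  let l₀ : (yon S).obj sq₁.ptA ⟶ (yon S).obj L := l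
  have hl₀ : l₀ ≫ bL = sq₁.bot := hl
  have sqP := IsPullback.of_hasPullback f bL
  have sqU := IsPullback.of_hasPullback h (pullback.fst f bL)
  have hP := isAlgSpace_of_isPullback sqP hY.diag hX (IsAlgSpace.yon_obj L)
  have hUP := isAlgSpace_of_isPullback sqU hX.diag hU hP
  have hdP : DenseRange (Points.map (pullback.snd h (pullback.fst f bL))) := by
    have hopen : IsOpenMap (Points.map (pullback.fst f bL)) :=
      isOpenMap_map_of_repWith (P := @Etale) (fun _ _ k hk => etale_isOpenMap k hk)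
        (repWith_of_isPullback sqP.flip hbL)
    intro z
    refine closure_mono ?_ (hd.preimage hopen z)
    rintro z ⟨a, ha⟩
    obtain ⟨y, -, hy⟩ := exists_point_of_isPullback sqU a z ha
    exact ⟨y, hy⟩
  have w₁ : sq₁.top ≫ f = ((yon S).map sq₁.j ≫ l₀) ≫ bL :=
    sq₁.comm.trans ((congrArg (_ ≫ ·) hl₀.symm).trans (Category.assoc _ _ _).symm)
  obtain ⟨x, hx₁, hx₂⟩ : ∃ x : (yon S).obj sq₁.ptK ⟶ pullback f bL,
      x ≫ pullback.fst f bL = sq₁.top ∧ x ≫ pullback.snd f bL = (yon S).map sq₁.j ≫ l₀ :=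
    ⟨_, sqP.lift_fst _ _ w₁, sqP.lift_snd _ _ w₁⟩
  let v : ValSq (pullback.snd f bL) :=
    { A := sq₁.A, K := sq₁.K, str := sq₁.str, top := x, bot := l₀, comm := hx₂ }
  obtain ⟨e, l', hl'₁, hl'₂⟩ := hasLiftExt_of_refined_affine hUP hP
    (isQuasiCompactMor_of_isPullback sqU hh) hdP
    (refinedVC_of_isPullback sqP sqU.w hv) v
  let e' : sq₁.DomExt := { A' := e.A', K' := e.K', φ := e.φ, ψ := e.ψ, comm := e.comm,
                           isLocalHom := e.isLocalHom }
  refine ⟨e', l' ≫ pullback.fst f bL, ?_, ?_⟩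
  · have := congrArg (· ≫ pullback.fst f bL) hl'₁
    simp only [Category.assoc] at this
    refine this.trans ?_
    rw [show v.top = x from rfl, hx₁]
  · show (l' ≫ pullback.fst f bL) ≫ f = _
    rw [Category.assoc, sqP.w, reassoc_of% hl'₂]
    exact congrArg _ hl₀

/-- The refined valuative criterion. -/
theorem refined_valuative {U : Sp S} (hU : IsAlgSpace U) (hX : IsAlgSpace X) (hY : IsAlgSpace Y)
    {h : U ⟶ X} (hf : IsQuasiCompactMor f) (hh : IsQuasiCompactMor h)
    (hd : DenseRange (Points.map h)) (hv : RefinedVC f h) :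
    IsUnivClosedMor f ∧ (IsQuasiSeparatedMor f → IsSeparatedMor f) := by
  refine ⟨isUnivClosedMor_of_existVC hX hY hf (existVC_of_refined hU hX hY hh hd hv), fun hqs => ?_⟩
  have hXX := isAlgSpace_of_isPullback (IsPullback.of_hasPullback f f) hY.diag hX hX
  refine (AlgSp2.isSeparatedMor_iff_univClosed_diagonal hX f).2
    (isUnivClosedMor_of_existVC hX hXX (isQuasiCompactMor_of_repWith hX hXX hqs)
      (existVC_of_refined hU hX hXX hh hd ?_))
  rintro v ⟨t, ht⟩
  refine ⟨fun l l' _ h₂ _ h₄ => ?_, hasLiftExt_of_hasLift v ?_⟩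
  · have := (h₂.trans h₄.symm) =≫ pullback.fst f f
    simpa using this
  have h₁ := v.comm =≫ pullback.fst f f
  have h₂ := v.comm =≫ pullback.snd f f
  rw [Category.assoc, Category.assoc, pullback.diagonal_fst, Category.comp_id] at h₁
  rw [Category.assoc, Category.assoc, pullback.diagonal_snd, Category.comp_id] at h₂
  let v' : ValSq f :=
    { A := v.A, K := v.K, str := v.str, top := v.top, bot := v.bot ≫ pullback.fst f f ≫ f
      comm := by rw [h₁, Category.assoc, Category.assoc] }
  have e : v.bot ≫ pullback.fst f f = v.bot ≫ pullback.snd f f :=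
    (hv v' ⟨t, ht⟩).1 _ _ h₁.symm (Category.assoc _ _ _) h₂.symm (by
      show (v.bot ≫ pullback.snd f f) ≫ f = v.bot ≫ pullback.fst f f ≫ f
      rw [Category.assoc, pullback.condition])
  refine ⟨v.bot ≫ pullback.fst f f, h₁.symm, pullback.hom_ext ?_ ?_⟩
  · rw [Category.assoc, pullback.diagonal_fst, Category.comp_id]
  · rw [Category.assoc, pullback.diagonal_snd, Category.comp_id, e]

end

end Groth.AlgSp3
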